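import Mathlib
import Cfsg.Prelude.Def_Classical
import Cfsg.Agent.S0824

/-!
The commutator subgroup of the isometry group of the elliptic form in dimension four over the field
with two elements is the alternating group of degree five, with some finite facts about the latter.
-/

set_option autoImplicit false

namespace CfsgLib.HJType

open Equiv

abbrev A5 := alternatingGroup (Fin 5)

theorem a5_card : Nat.card A5 = 60 := by
  rw [nat_card_alternatingGroup, Nat.card_fin]; rfl

theorem a5_involution_conj : ∀ u v : A5, u * u = 1 → u ≠ 1 → v * v = 1 → v ≠ 1 →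
    ∃ g : A5, g * u = v * g := by
  decide +kernel

theorem a5_exists_five : ∃ s : A5, s ^ 5 = 1 ∧ s ≠ 1 := by
  decide +kernel

theorem a5_inverted : ∀ u : A5, u * u = 1 → u ≠ 1 →
    ∃ s : A5, s ^ 5 = 1 ∧ s ≠ 1 ∧ u * s = s⁻¹ * u := by
  decide +kernel

theorem a5_centralizer_involution : ∀ u : A5, u * u = 1 → u ≠ 1 →
    (Finset.univ.filter (fun p : A5 => p * u = u * p)).card = 4 ∧
      ∀ p : A5, p * u = u * p → p * p = 1 := by
  decide +kernel

set_option synthInstance.maxSize 2000 in
set_option synthInstance.maxHeartbeats 400000 in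
theorem a5_klein_aux : ∀ u : A5, u * u = 1 → u ≠ 1 → ∀ v : A5, v * v = 1 → v ≠ 1 → u * v = v * u → u ≠ v →
    ∀ p : A5, p * u = u * p → p = 1 ∨ p = u ∨ p = v ∨ p = u * v := by
  decide +kernel

theorem a5_klein : ∀ u v p : A5, (u * u = 1 ∧ u ≠ 1 ∧ v * v = 1 ∧ v ≠ 1 ∧ u * v = v * u ∧ u ≠ v ∧
    p * u = u * p) → p ∈ ({1, u, v, u * v} : Finset A5) := fun u v p ⟨a, b, c, d, e, f, g⟩ => by
  simpa using a5_klein_aux u a b v c d e f p g

theorem omega_minus_four :
    Nonempty (↥(Cfsg.Omega (ZMod 2) (Cfsg.quadFormMinus 1 (ZMod 2) 1 1)) ≃* A5) := by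
  obtain ⟨e⟩ := Cfsg.Agent.S0824.result (F := ZMod 2) (by simp)
  have h : (commutator ↥(Cfsg.isometryGroup (ZMod 2) (Cfsg.quadFormMinus 1 (ZMod 2) 1 1))).map
      e.toMonoidHom = alternatingGroup (Fin 5) := by
    rw [commutator_def, Subgroup.map_commutator, Subgroup.map_top_of_surjective _ e.surjective,
      ← commutator_def]
    exact alternatingGroup.commutator_perm_eq (by simp)
  exact ⟨((commutator _).equivMapOfInjective e.toMonoidHom e.injective).trans
    (MulEquiv.subgroupCongr h)⟩

end CfsgLib.HJType
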