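import Cfsg.Agent.Lib.HJType.Klein
import Cfsg.Agent.Lib.Components.FStar
import Cfsg.Agent.Lib.PGroup.Extraspecial
import Cfsg.Prelude.Def_Transfer

/-!
Global fusion in a group of Hall–Janko type: the two classes of involutions.
-/

set_option autoImplicit false
set_option linter.unusedSectionVars false

namespace CfsgLib.HJType

open Subgroup
open scoped commutatorElement

variable {G : Type*} [Group G] [Finite G] {z : G} {Q : Subgroup G}

/-- A group of Hall–Janko type with respect to `z`. -/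
structure Setting (z : G) (Q : Subgroup G) extends Hyp z Q where
  moved : ∃ g, Sing z Q (g * z * g⁻¹)
  two : ∃ x y : G, orderOf x = 2 ∧ orderOf y = 2 ∧ ¬ IsConj x y

theorem orderOf_eq_two {x : G} : orderOf x = 2 ↔ x * x = 1 ∧ x ≠ 1 := by
  rw [← pow_two, orderOf_eq_prime_iff]

theorem exists_hyp (z : G) (hz : orderOf z = 2)
    (Q₀ : Subgroup (centralizer ({z} : Set G))) [Q₀.Normal]
    (hself : centralizer (Q₀ : Set (centralizer ({z} : Set G))) ≤ Q₀)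
    (hQ : Cfsg.IsExtraspecial 2 Q₀) (hcard : Nat.card Q₀ = 2 ^ 5)
    (e : (centralizer ({z} : Set G)) ⧸ Q₀ ≃* A5) :
    Nonempty (Hyp z (Q₀.map (centralizer ({z} : Set G)).subtype)) := by
  have : Fact (Nat.Prime 2) := ⟨Nat.prime_two⟩
  have hzC : z ∈ centralizer ({z} : Set G) := mem_centralizer_singleton_iff.2 rfl
  have hmem : ∀ x, x ∈ Q₀.map (centralizer ({z} : Set G)).subtype ↔ ∃ h : x ∈ centralizer ({z} : Set G), (⟨x, h⟩ : ↥(centralizer ({z} : Set G))) ∈ Q₀ := fun x =>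
    ⟨fun ⟨y, hy, e⟩ => e ▸ ⟨y.2, hy⟩, fun ⟨h, hx⟩ => ⟨⟨x, h⟩, hx, rfl⟩⟩
  have hzQ : (⟨z, hzC⟩ : ↥(centralizer ({z} : Set G))) ∈ Q₀ := by
    refine hself (mem_centralizer_iff.2 fun (y : ↥(centralizer ({z} : Set G))) _ => Subtype.ext ?_)
    exact mem_centralizer_singleton_iff.1 y.2
  obtain ⟨hz2, hz1⟩ := orderOf_eq_two.1 hz
  have hz0 : (⟨⟨z, hzC⟩, hzQ⟩ : Q₀) ∈ center Q₀ := mem_center_iff.2 fun y =>
    Subtype.ext (Subtype.ext (mem_centralizer_singleton_iff.1 y.1.2))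
  have hcenP : ∀ w ∈ center Q₀, ((w : ↥(centralizer ({z} : Set G))) : G) = 1 ∨ ((w : ↥(centralizer ({z} : Set G))) : G) = z := by
    intro w hw
    rw [← CfsgLib.PGroup.extraspecial_zpowers_eq_center hQ hz0
      (fun e => hz1 (congrArg (fun w : Q₀ => ((w : ↥(centralizer ({z} : Set G))) : G)) e)), ← mem_powers_iff_mem_zpowers] at hw
    obtain ⟨i, rfl⟩ := hw
    show (z ^ i = 1 ∨ z ^ i = z)
    rw [← pow_mod_orderOf, hz]
    rcases Nat.mod_two_eq_zero_or_one i with e | e <;> simp [e]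
  refine ⟨{
    hz := hz
    hQC := map_subtype_le _
    norm := fun c hc y hy => ?_
    card := by rw [Subgroup.card_subtype, hcard]; norm_num
    hzQ := (hmem z).2 ⟨hzC, hzQ⟩
    sq := fun x hx => ?_
    com := fun x hx y hy => ?_
    cen := fun d hd hcd => ?_
    self := fun g hg h => ?_
    φ := e.toMonoidHom.comp (QuotientGroup.mk' Q₀)
    surj := e.surjective.comp (QuotientGroup.mk'_surjective Q₀)
    ker := fun c => ?_ }⟩
  · obtain ⟨hyC, hyQ⟩ := (hmem y).1 hy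
    exact (hmem _).2 ⟨mul_mem (mul_mem hc hyC) (inv_mem hc),
      (inferInstance : Q₀.Normal).conj_mem _ hyQ ⟨c, hc⟩⟩
  · obtain ⟨hxC, hxQ⟩ := (hmem x).1 hx
    have := hcenP _ (CfsgLib.PGroup.extraspecial_pow_mem_center hQ ⟨_, hxQ⟩)
    simpa [pow_two] using this
  · obtain ⟨hxC, hxQ⟩ := (hmem x).1 hx
    obtain ⟨hyC, hyQ⟩ := (hmem y).1 hy
    have h := hcenP _ (CfsgLib.PGroup.extraspecial_comm_mem_center hQ ⟨_, hyQ⟩ ⟨_, hxQ⟩)
    simp only [commutatorElement_def, Subgroup.coe_mul, Subgroup.coe_inv] at h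
    rcases h with h | h
    · left
      calc y * x = (y * x * y⁻¹ * x⁻¹) * (x * y) := by group
        _ = x * y := by rw [h, one_mul]
    · right
      calc y * x = (y * x * y⁻¹ * x⁻¹) * (x * y) := by group
        _ = z * (x * y) := by rw [h]
  · obtain ⟨hdC, hdQ⟩ := (hmem d).1 hd
    exact hcenP ⟨_, hdQ⟩ (mem_center_iff.2 fun y => Subtype.ext (Subtype.ext
      (hcd _ ((hmem _).2 ⟨y.1.2, y.2⟩))))
  · exact (hmem g).2 ⟨hg, hself (mem_centralizer_iff.2 fun y hy =>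
      Subtype.ext (h y ((hmem _).2 ⟨y.2, hy⟩)))⟩
  · rw [MonoidHom.comp_apply, MulEquiv.coe_toMonoidHom, e.map_eq_one_iff, QuotientGroup.mk'_apply,
      QuotientGroup.eq_one_iff, hmem]
    exact ⟨fun h => ⟨c.2, h⟩, fun ⟨_, h⟩ => h⟩

theorem exists_setting (z : G) (hz : orderOf z = 2)
    (Q₀ : Subgroup (centralizer ({z} : Set G))) [Q₀.Normal]
    (hF : Cfsg.generalizedFittingSubgroup (centralizer ({z} : Set G)) = Q₀)
    (hQ : Cfsg.IsExtraspecial 2 Q₀) (hcard : Nat.card Q₀ = 2 ^ 5)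
    (e : (centralizer ({z} : Set G)) ⧸ Q₀ ≃* A5)
    (hnwc : ∃ g : G, (∃ hq : g * z * g⁻¹ ∈ centralizer ({z} : Set G),
      (⟨g * z * g⁻¹, hq⟩ : centralizer ({z} : Set G)) ∈ Q₀) ∧ g * z * g⁻¹ ≠ z)
    (hcl : ∃ x y : G, orderOf x = 2 ∧ orderOf y = 2 ∧ ¬ IsConj x y) :
    Nonempty (Setting z (Q₀.map (centralizer ({z} : Set G)).subtype)) := by
  have hself := CfsgLib.Components.centralizer_generalizedFitting_le (G := ↥(centralizer ({z} : Set G)))
  rw [hF] at hself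
  obtain ⟨H⟩ := exists_hyp z hz Q₀ hself hQ hcard e
  obtain ⟨g, ⟨hq, hgQ⟩, hne⟩ := hnwc
  refine ⟨{ H with moved := ⟨g, ⟨_, hgQ, rfl⟩, ?_, fun h => ?_, hne⟩, two := hcl }⟩
  · rw [show g * z * g⁻¹ * (g * z * g⁻¹) = g * (z * z) * g⁻¹ by group, H.zz]; group
  · exact H.z_ne (by simpa [mul_assoc] using congrArg (fun x => g⁻¹ * x * g) h)

namespace Hyp

variable (H : Hyp z Q)
include H

theorem card_C : Nat.card (centralizer ({z} : Set G)) = 1920 := by
  have hker : Nat.card H.φ.ker = 32 := by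
    rw [← H.card]
    exact Nat.card_congr
      { toFun := fun x => ⟨x.1.1, (H.ker _).1 x.2⟩
        invFun := fun x => ⟨⟨x.1, H.hQC x.2⟩, (H.ker _).2 x.2⟩ }
  rw [Subgroup.card_eq_card_quotient_mul_card_subgroup H.φ.ker, hker,
    Nat.card_congr (QuotientGroup.quotientKerEquivOfSurjective H.φ H.surj).toEquiv, a5_card]

theorem exists_sylow_le : ∃ S : Sylow 2 G, (S : Subgroup G) ≤ centralizer ({z} : Set G) := by
  have : Fact (Nat.Prime 2) := ⟨Nat.prime_two⟩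
  set C := centralizer ({z} : Set G) with hC
  let S₀ : Sylow 2 C := default
  have hQ2 : IsPGroup 2 (Q.subgroupOf C) :=
    IsPGroup.of_card (n := 5) (by
      rw [Nat.card_congr (Subgroup.subgroupOfEquivOfLe H.hQC).toEquiv, H.card]; norm_num)
  have hQn : (Q.subgroupOf C).Normal := ⟨fun x hx g => H.norm g.1 g.2 x.1 hx⟩
  have hQS : ∀ q ∈ Q, ∀ h : q ∈ C, (⟨q, h⟩ : C) ∈ (S₀ : Subgroup C) := by
    intro q hq h
    obtain ⟨S', hS'⟩ := hQ2.exists_le_sylow
    obtain ⟨g, hg⟩ := MulAction.exists_smul_eq C S' S₀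
    rw [← hg, Sylow.coe_subgroup_smul, Subgroup.mem_pointwise_smul_iff_inv_smul_mem]
    exact hS' (by simpa using hQn.conj_mem ⟨q, h⟩ hq g⁻¹)
  set S := (S₀ : Subgroup C).map C.subtype with hS
  have hS2 : IsPGroup 2 S := S₀.isPGroup'.map _
  obtain ⟨S₁, hS₁⟩ := hS2.exists_le_sylow
  refine ⟨S₁, ?_⟩
  suffices h : (S₁ : Subgroup G) ≤ S from h.trans (map_subtype_le _)
  by_contra hne
  have hnil : Group.IsNilpotent (S₁ : Subgroup G) := S₁.isPGroup'.isNilpotent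
  have hlt : S.subgroupOf (S₁ : Subgroup G) < ⊤ := lt_top_iff_ne_top.2 fun h =>
    hne (Subgroup.subgroupOf_eq_top.1 h)
  obtain ⟨n, hnN, hnS⟩ :=
    SetLike.exists_of_lt (normalizerCondition_of_isNilpotent (S.subgroupOf _) hlt)
  have hconj : ∀ x ∈ S, (n : G)⁻¹ * x * n ∈ S ∧ (n : G) * x * (n : G)⁻¹ ∈ S := fun x hx => by
    have h1 := (mem_normalizer_iff.1 hnN ⟨x, hS₁ hx⟩).1 hx
    have h2 := (mem_normalizer_iff.1 (inv_mem hnN) ⟨x, hS₁ hx⟩).1 hx
    refine ⟨?_, h1⟩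
    simpa [Subgroup.mem_subgroupOf] using h2
  have hQS' : ∀ q ∈ Q, q ∈ S := fun q hq => ⟨⟨q, H.hQC hq⟩, hQS q hq _, rfl⟩
  have hzS : z ∈ S := hQS' z H.hzQ
  set p := (n : G) * z * (n : G)⁻¹ with hp
  have hpS : p ∈ S := (hconj z hzS).2
  have hpc : ∀ q ∈ Q, q * p = p * q := by
    intro q hq
    have h1 := H.comm_z (map_subtype_le _ (hconj q (hQS' q hq)).1)
    calc q * p = (n : G) * ((n : G)⁻¹ * q * n * z) * (n : G)⁻¹ := by rw [hp]; group
      _ = p * q := by rw [h1, hp]; group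
  have hpQ : p ∈ Q := H.self p (map_subtype_le _ hpS) hpc
  have hpz : p = z := by
    refine (H.cen p hpQ hpc).resolve_left fun h => H.z_ne ?_
    calc z = (n : G)⁻¹ * p * n := by rw [hp]; group
      _ = 1 := by rw [h]; group
  have hnC : (n : G) ∈ C := mem_centralizer_singleton_iff.2 (mul_inv_eq_iff_eq_mul.1 hpz)
  have hmax := S₀.3 (Q := (S₁ : Subgroup G).subgroupOf C)
    (S₁.isPGroup'.comap_of_injective C.subtype C.subtype_injective)
    (fun x hx => hS₁ ⟨x, hx, rfl⟩)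
  refine hnS ?_
  show (n : G) ∈ S
  exact ⟨⟨n, hnC⟩, hmax ▸ (n.2 : (n : G) ∈ (S₁ : Subgroup G)), rfl⟩

theorem exists_conj_mem {x : G} (hx : x * x = 1) :
    ∃ g, g * x * g⁻¹ ∈ centralizer ({z} : Set G) := by
  have : Fact (Nat.Prime 2) := ⟨Nat.prime_two⟩
  obtain ⟨S, hS⟩ := H.exists_sylow_le
  have hp : IsPGroup 2 (zpowers x) := by
    intro y
    refine ⟨1, Subtype.ext ?_⟩
    obtain ⟨i, hi⟩ := y.2
    show (y : G) ^ (2 ^ 1) = 1
    rw [← hi, pow_one, ← zpow_natCast, ← zpow_mul, mul_comm, zpow_mul, zpow_natCast, pow_two, hx,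
      one_zpow]
  obtain ⟨S', hS'⟩ := hp.exists_le_sylow
  obtain ⟨g, hg⟩ := MulAction.exists_smul_eq G S' S
  refine ⟨g, hS ?_⟩
  rw [← hg, Sylow.coe_subgroup_smul, Subgroup.mem_pointwise_smul_iff_inv_smul_mem]
  exact hS' (by simp [mul_assoc])

end Hyp

namespace Setting

variable (S : Setting z Q)
include S

theorem sing_conjZ {p : G} (hp : Sing z Q p) : IsConj z p := by
  obtain ⟨g, hg⟩ := S.moved
  obtain ⟨c, -, hc⟩ := S.sing_trans hg hp
  exact (isConj_iff.2 ⟨g, rfl⟩ : IsConj z (g * z * g⁻¹)).trans (isConj_iff.2 ⟨c, hc⟩)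

theorem conjZ_of_mem {p : G} (hp : p ∈ Q) (h2 : p * p = 1) (h1 : p ≠ 1) : IsConj z p := by
  by_cases hz : p = z
  · exact hz ▸ IsConj.refl z
  · exact S.sing_conjZ ⟨hp, h2, h1, hz⟩

theorem exists_outer : ∃ t, Outer z Q t ∧ ¬ IsConj z t := by
  obtain ⟨x, y, hx, hy, hxy⟩ := S.two
  have key : ∀ a : G, orderOf a = 2 → IsConj z a ∨ ∃ t, Outer z Q t ∧ IsConj a t := by
    intro a ha
    obtain ⟨ha2, ha1⟩ := orderOf_eq_two.1 ha
    obtain ⟨g, hg⟩ := S.exists_conj_mem ha2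
    have hb2 : g * a * g⁻¹ * (g * a * g⁻¹) = 1 := by
      rw [show g * a * g⁻¹ * (g * a * g⁻¹) = g * (a * a) * g⁻¹ by group, ha2]; group
    by_cases hQ : g * a * g⁻¹ ∈ Q
    · refine Or.inl ((S.conjZ_of_mem hQ hb2 fun h => ha1 ?_).trans (isConj_iff.2 ⟨g⁻¹, by group⟩))
      simpa [mul_assoc] using congrArg (fun w => g⁻¹ * w * g) h
    · exact Or.inr ⟨_, ⟨hg, hb2, hQ⟩, isConj_iff.2 ⟨g, rfl⟩⟩
  by_contra hcon
  push Not at hcon
  refine hxy ?_
  have hall : ∀ a : G, orderOf a = 2 → IsConj z a := fun a ha =>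
    (key a ha).elim id fun ⟨t, ht, hat⟩ => (hcon t ht).trans hat.symm
  exact (hall x hx).symm.trans (hall y hy)

theorem outer_not_conj {t : G} (ht : Outer z Q t) : ¬ IsConj z t := by
  obtain ⟨t₀, ht₀, hn⟩ := S.exists_outer
  obtain ⟨c, -, hc⟩ := S.outer_trans ht ht₀
  exact fun h => hn (h.trans (isConj_iff.2 ⟨c, hc⟩))

theorem outer_conjT {t t' : G} (ht : Outer z Q t) (ht' : Outer z Q t') : IsConj t t' := by
  obtain ⟨c, -, hc⟩ := S.outer_trans ht ht'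
  exact isConj_iff.2 ⟨c, hc⟩

theorem classes {t : G} (ht : Outer z Q t) {x : G} (hx : orderOf x = 2) :
    IsConj z x ∨ IsConj t x := by
  obtain ⟨hx2, hx1⟩ := orderOf_eq_two.1 hx
  obtain ⟨g, hg⟩ := S.exists_conj_mem hx2
  have hb2 : g * x * g⁻¹ * (g * x * g⁻¹) = 1 := by
    rw [show g * x * g⁻¹ * (g * x * g⁻¹) = g * (x * x) * g⁻¹ by group, hx2]; group
  by_cases hQ : g * x * g⁻¹ ∈ Q
  · refine Or.inl ((S.conjZ_of_mem hQ hb2 fun h => hx1 ?_).trans (isConj_iff.2 ⟨g⁻¹, by group⟩))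
    simpa [mul_assoc] using congrArg (fun w => g⁻¹ * w * g) h
  · exact Or.inr ((S.outer_conjT ht ⟨hg, hb2, hQ⟩).trans (isConj_iff.2 ⟨g⁻¹, by group⟩))

theorem z_type_mem {x : G} (hx : x ∈ centralizer ({z} : Set G)) (h : IsConj z x) : x ∈ Q := by
  obtain ⟨g, rfl⟩ := isConj_iff.1 h
  by_contra hQ
  refine S.outer_not_conj ⟨hx, ?_, hQ⟩ h
  rw [show g * z * g⁻¹ * (g * z * g⁻¹) = g * (z * z) * g⁻¹ by group, S.zz]; group

/-- An involution conjugate to an outer one and centralising `z` is outer. -/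
theorem t_type_outer {t : G} (ht : Outer z Q t) {x : G} (hx : x ∈ centralizer ({z} : Set G))
    (h : IsConj t x) : Outer z Q x := by
  obtain ⟨g, rfl⟩ := isConj_iff.1 h
  have h2 : g * t * g⁻¹ * (g * t * g⁻¹) = 1 := by
    rw [show g * t * g⁻¹ * (g * t * g⁻¹) = g * (t * t) * g⁻¹ by group, ht.2.1]; group
  refine ⟨hx, h2, fun hQ => S.outer_not_conj ht ?_⟩
  refine (S.conjZ_of_mem hQ h2 fun e => ?_).trans h.symm
  have : t = 1 := by simpa [mul_assoc] using congrArg (fun w => g⁻¹ * w * g) e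
  exact ht.2.2 (this ▸ one_mem Q)

/-- The centraliser of a commuting pair of involutions of the two classes. -/
theorem pair {t a b : G} (ht : Outer z Q t) (ha : IsConj z a) (hb : IsConj t b) (hab : a * b = b * a) :
    Nat.card ↥(centralizer ({a} : Set G) ⊓ centralizer ({b} : Set G)) = 16 ∧
    ∀ x, x * a = a * x → x * b = b * x → x * x = 1 := by
  obtain ⟨g, hg⟩ := isConj_iff.1 ha.symm
  set b' := g * b * g⁻¹ with hb'
  have hb'C : b' ∈ centralizer ({z} : Set G) := mem_centralizer_singleton_iff.2 (by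
    rw [← hg, hb', show g * b * g⁻¹ * (g * a * g⁻¹) = g * (b * a) * g⁻¹ by group, ← hab]; group)
  have ho : Outer z Q b' := S.t_type_outer ht hb'C (hb.trans (isConj_iff.2 ⟨g, rfl⟩))
  have hcl : ∀ x, (x * a = a * x ∧ x * b = b * x) ↔ g * x * g⁻¹ ∈ S.eGroup b' := by
    intro x
    rw [S.mem_eGroup, mem_centralizer_singleton_iff, ← hg, hb']
    have e : ∀ u v : G, g * u * g⁻¹ * (g * v * g⁻¹) = g * (u * v) * g⁻¹ := fun u v => by group
    rw [e, e, e, e]
    constructor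
    · rintro ⟨h1, h2⟩; exact ⟨by rw [h1], by rw [h2]⟩
    · rintro ⟨h1, h2⟩
      exact ⟨mul_left_cancel (mul_right_cancel h1), mul_left_cancel (mul_right_cancel h2)⟩
  refine ⟨?_, fun x h1 h2 => ?_⟩
  · rw [← S.eGroup_card ho]
    refine Nat.card_congr ((MulAut.conj g).toEquiv.subtypeEquiv fun x => ?_)
    rw [mem_inf, mem_centralizer_singleton_iff, mem_centralizer_singleton_iff]
    exact hcl x
  · have := S.eGroup_sq ho ((hcl x).1 ⟨h1, h2⟩)
    rw [show g * x * g⁻¹ * (g * x * g⁻¹) = g * (x * x) * g⁻¹ by group] at this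
    simpa [mul_assoc] using congrArg (fun w => g⁻¹ * w * g) this

end Setting

end CfsgLib.HJType
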