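import Mathlib

/-!
General counting lemmas for the local analysis: conjugation, Sylow numbers, normalisers of
subgroups of prime order.
-/

set_option autoImplicit false
set_option linter.unusedSectionVars false

namespace CfsgLib.HJType.LocalGen

open Subgroup
open scoped Pointwise

variable {G : Type*} [Group G]

theorem cent_conj (g x y : G) :
    g * y * g⁻¹ * (g * x * g⁻¹) = g * x * g⁻¹ * (g * y * g⁻¹) ↔ y * x = x * y := by
  constructor
  · intro h
    have e : g * (y * x) * g⁻¹ = g * (x * y) * g⁻¹ := by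
      calc g * (y * x) * g⁻¹ = g * y * g⁻¹ * (g * x * g⁻¹) := by group
        _ = g * x * g⁻¹ * (g * y * g⁻¹) := h
        _ = g * (x * y) * g⁻¹ := by group
    exact mul_left_cancel (mul_right_cancel e)
  · intro h
    calc g * y * g⁻¹ * (g * x * g⁻¹) = g * (y * x) * g⁻¹ := by group
      _ = g * (x * y) * g⁻¹ := by rw [h]
      _ = g * x * g⁻¹ * (g * y * g⁻¹) := by group

theorem card_centralizer_conj (g x : G) :
    Nat.card (centralizer ({g * x * g⁻¹} : Set G)) = Nat.card (centralizer ({x} : Set G)) := by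
  refine (Nat.card_congr ((MulAut.conj g).toEquiv.subtypeEquiv fun y => ?_)).symm
  rw [mem_centralizer_singleton_iff, mem_centralizer_singleton_iff]
  exact (cent_conj g x y).symm

theorem card_centralizer_zpowers {x y : G} (hxy : zpowers x = zpowers y) :
    centralizer ({x} : Set G) = centralizer ({y} : Set G) := by
  rw [← centralizer_closure ({x} : Set G), ← centralizer_closure ({y} : Set G),
    ← zpowers_eq_closure, ← zpowers_eq_closure, hxy]

theorem orderOf_conj (g x : G) : orderOf (g * x * g⁻¹) = orderOf x :=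
  (MulAut.conj g).orderOf_eq x

theorem zpowers_eq_of_mem [Finite G] {p : ℕ} [hp : Fact p.Prime] {x y : G} (hx : orderOf x = p)
    (hy : y ∈ zpowers x) (hy1 : y ≠ 1) : zpowers y = zpowers x := by
  refine Subgroup.eq_of_le_of_card_ge (zpowers_le.2 hy) ?_
  rw [Nat.card_zpowers, Nat.card_zpowers, hx]
  have hd : orderOf y ∣ p := hx ▸ orderOf_dvd_of_mem_zpowers hy
  rcases (Nat.dvd_prime hp.out).1 hd with h | h
  · exact absurd (orderOf_eq_one_iff.1 h) hy1
  · rw [h]

theorem mem_normalizer_zpowers [Finite G] {p : ℕ} [Fact p.Prime] {x n : G} (hx : orderOf x = p)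
    (hn : n * x * n⁻¹ ∈ zpowers x) : n ∈ normalizer (zpowers x : Set G) := by
  have hne : n * x * n⁻¹ ≠ 1 := fun h => by
    rw [conj_eq_one_iff.1 h, orderOf_one] at hx
    exact (Fact.out : p.Prime).one_lt.ne hx
  have hmap : (zpowers x).map (MulAut.conj n).toMonoidHom = zpowers x := by
    rw [MonoidHom.map_zpowers]; exact zpowers_eq_of_mem hx hn hne
  rw [mem_normalizer_iff]
  intro y
  constructor
  · intro hy
    rw [← hmap]
    exact ⟨y, hy, rfl⟩
  · intro hy
    rw [← hmap] at hy
    obtain ⟨y', hy', e⟩ := hy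
    have : y' = y := mul_left_cancel (mul_right_cancel e)
    exact this ▸ hy'

/-- The index of the centraliser in the normaliser of a subgroup of prime order divides `p - 1`. -/
theorem card_normalizer_zpowers [Finite G] {p : ℕ} [hp : Fact p.Prime] {x : G} (hx : orderOf x = p) :
    ∃ e, e ∣ p - 1 ∧
      Nat.card (normalizer (zpowers x : Set G)) = Nat.card (centralizer ({x} : Set G)) * e := by
  let H := zpowers x
  let f := H.normalizerMonoidHom
  have hker : Nat.card f.ker = Nat.card (centralizer ({x} : Set G)) := by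
    rw [normalizerMonoidHom_ker, ← centralizer_closure ({x} : Set G), ← zpowers_eq_closure]
    exact Nat.card_congr (Subgroup.subgroupOfEquivOfLe (centralizer_le_normalizer _)).toEquiv
  refine ⟨Nat.card f.range, ?_, ?_⟩
  · have h := Subgroup.card_subgroup_dvd_card f.range
    rwa [IsCyclic.card_mulAut, Nat.card_zpowers, hx, Nat.totient_prime hp.out] at h
  · rw [Subgroup.card_eq_card_quotient_mul_card_subgroup f.ker, hker,
      Nat.card_congr (QuotientGroup.quotientKerEquivRange f).toEquiv, mul_comm]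

theorem sylow_of_card [Finite G] {p a m : ℕ} [hp : Fact p.Prime] (hG : Nat.card G = p ^ a * m)
    (hm : ¬ p ∣ m) (P : Sylow p G) : Nat.card (P : Subgroup G) = p ^ a := by
  have hm0 : m ≠ 0 := fun h => hm (h ▸ dvd_zero p)
  rw [P.card_eq_multiplicity, hG, Nat.factorization_mul (pow_ne_zero _ hp.out.ne_zero) hm0,
    Finsupp.add_apply, Nat.Prime.factorization_pow hp.out, Finsupp.single_eq_same,
    Nat.factorization_eq_zero_of_not_dvd hm, add_zero]

theorem sylow_mod [Finite G] {p : ℕ} [Fact p.Prime] (P : Sylow p G) :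
    (Nat.card G / Nat.card (normalizer ((P : Subgroup G) : Set G))) % p = 1 % p := by
  have h := card_sylow_modEq_one p G
  rw [P.card_eq_index_normalizer] at h
  rw [← (normalizer ((P : Subgroup G) : Set G)).card_mul_index, Nat.mul_div_cancel_left _ Nat.card_pos]
  exact h

theorem prime_card_eq_sylow [Finite G] {p : ℕ} [Fact p.Prime] {x : G} (hx : orderOf x = p)
    (P : Sylow p G) (hP : Nat.card (P : Subgroup G) = p) : ∃ g : G, g * x * g⁻¹ ∈ (P : Subgroup G) ∧
      zpowers (g * x * g⁻¹) = (P : Subgroup G) := by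
  obtain ⟨Q, hQ⟩ := (IsPGroup.of_card (p := p) (n := 1)
    (show Nat.card (zpowers x) = p ^ 1 by rw [pow_one, Nat.card_zpowers, hx])).exists_le_sylow
  obtain ⟨g, hg⟩ := MulAction.exists_smul_eq G Q P
  have hm : g * x * g⁻¹ ∈ (P : Subgroup G) := by
    rw [← hg, Sylow.coe_subgroup_smul, Subgroup.mem_pointwise_smul_iff_inv_smul_mem]
    exact hQ (by simp [mul_assoc])
  refine ⟨g, hm, Subgroup.eq_of_le_of_card_ge (zpowers_le.2 hm) ?_⟩
  rw [hP, Nat.card_zpowers, orderOf_conj, hx]

theorem mem_sylow_conj [Finite G] {p : ℕ} [Fact p.Prime] {K : Subgroup G} (hK : IsPGroup p K)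
    (P : Sylow p G) : ∃ g : G, ∀ x ∈ K, g * x * g⁻¹ ∈ (P : Subgroup G) := by
  obtain ⟨Q, hQ⟩ := hK.exists_le_sylow
  obtain ⟨g, hg⟩ := MulAction.exists_smul_eq G Q P
  refine ⟨g, fun x hx => ?_⟩
  rw [← hg, Sylow.coe_subgroup_smul, Subgroup.mem_pointwise_smul_iff_inv_smul_mem]
  exact hQ (by simpa [mul_assoc] using hx)

theorem isPGroup_zpowers {p k : ℕ} [Fact p.Prime] {x : G} (hx : x ^ p ^ k = 1) :
    IsPGroup p (zpowers x) := fun y => ⟨k, Subtype.ext (by
  obtain ⟨i, hi⟩ := y.2
  show (y : G) ^ p ^ k = 1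
  rw [← hi, ← zpow_natCast, ← zpow_mul, mul_comm, zpow_mul, zpow_natCast, hx, one_zpow])⟩

/-- An involution whose centraliser has order not divisible by four has a Sylow subgroup of order
two. -/
theorem not_four_dvd [Finite G] {v : G} (hv : orderOf v = 2)
    (h4 : ¬ 4 ∣ Nat.card (centralizer ({v} : Set G))) : ¬ 4 ∣ Nat.card G := by
  have : Fact (Nat.Prime 2) := ⟨Nat.prime_two⟩
  intro hG
  obtain ⟨S, hS⟩ := (isPGroup_zpowers (p := 2) (k := 1)
    (show v ^ 2 ^ 1 = 1 by rw [pow_one, ← hv]; exact pow_orderOf_eq_one v)).exists_le_sylow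
  have hvS : v ∈ (S : Subgroup G) := hS (mem_zpowers v)
  obtain ⟨T, hTc⟩ := Sylow.exists_subgroup_card_pow_prime 2 (n := 2) (by simpa using hG)
  obtain ⟨g, hg⟩ := mem_sylow_conj (IsPGroup.of_card (n := 2) hTc) S
  have hS4 : 4 ∣ Nat.card (S : Subgroup G) := by
    have h := Subgroup.card_dvd_of_le (show T.map (MulAut.conj g).toMonoidHom ≤ S by
      rintro _ ⟨x, hx, rfl⟩; exact hg x hx)
    rwa [Subgroup.card_map_of_injective (MulAut.conj g).injective, hTc] at h
  -- the centre of `S` together with `v`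
  let c := centralizer ({v} : Set G)
  let D := (S : Subgroup G) ⊓ c
  have hD : IsPGroup 2 D := S.isPGroup'.to_le inf_le_left
  obtain ⟨k, hk⟩ := IsPGroup.iff_card.1 hD
  rcases Nat.lt_or_ge k 2 with hk2 | hk2
  · have hvD : v ∈ D := mem_inf.2 ⟨hvS, mem_centralizer_singleton_iff.2 rfl⟩
    have hle : zpowers v ≤ D := zpowers_le.2 hvD
    have heq : zpowers v = D := Subgroup.eq_of_le_of_card_ge hle (by
      rw [hk, Nat.card_zpowers, hv]
      interval_cases k <;> norm_num)
    have : Nontrivial (S : Subgroup G) := ⟨⟨⟨v, hvS⟩, 1, fun h => by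
      have := congrArg Subtype.val h
      rw [show v = 1 from this, orderOf_one] at hv
      omega⟩⟩
    have hcen : Nontrivial (center (S : Subgroup G)) := S.isPGroup'.center_nontrivial
    obtain ⟨w, hw, hw1⟩ := (nontrivial_iff_exists_ne_one _).1 hcen
    have hwD : (w : G) ∈ D := mem_inf.2 ⟨w.2, mem_centralizer_singleton_iff.2
      (congrArg Subtype.val (mem_center_iff.1 hw ⟨v, hvS⟩)).symm⟩
    rw [← heq] at hwD
    have hwv : zpowers (w : G) = zpowers v :=
      zpowers_eq_of_mem (p := 2) hv hwD (fun h => hw1 (Subtype.ext h))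
    have hSc : (S : Subgroup G) ≤ c := fun x hx => by
      show x ∈ centralizer ({v} : Set G)
      rw [← card_centralizer_zpowers hwv]
      exact mem_centralizer_singleton_iff.2 (congrArg Subtype.val (mem_center_iff.1 hw ⟨x, hx⟩))
    exact h4 (hS4.trans (Subgroup.card_dvd_of_le hSc))
  · exact h4 (((pow_dvd_pow 2 hk2).trans hk.symm.dvd).trans (Subgroup.card_dvd_of_le inf_le_right))

end CfsgLib.HJType.LocalGen

namespace CfsgLib.HJType.LocalGen

open Subgroup

variable {G : Type*} [Group G] [Finite G] {p : ℕ} [hp : Fact p.Prime]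

/-- If the centraliser has index two in the normaliser, some element inverts. -/
theorem exists_inverting {x : G} (hx : orderOf x = p)
    (hN : Nat.card (normalizer (zpowers x : Set G)) = Nat.card (centralizer ({x} : Set G)) * 2) :
    ∃ c : G, c * x * c⁻¹ = x⁻¹ := by
  set N := normalizer (zpowers x : Set G) with hNdef
  have hle : centralizer ({x} : Set G) ≤ N := by
    rw [← centralizer_closure ({x} : Set G), ← zpowers_eq_closure]
    exact centralizer_le_normalizer _
  have hidx : ((centralizer ({x} : Set G)).subgroupOf N).index = 2 := by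
    have h := ((centralizer ({x} : Set G)).subgroupOf N).card_mul_index
    rw [Nat.card_congr (Subgroup.subgroupOfEquivOfLe hle).toEquiv, hN] at h
    exact Nat.eq_of_mul_eq_mul_left Nat.card_pos h
  obtain ⟨c, hc⟩ : ∃ c : ↥N, c ∉ (centralizer ({x} : Set G)).subgroupOf N := by
    by_contra hall
    push Not at hall
    rw [show (centralizer ({x} : Set G)).subgroupOf N = ⊤ from eq_top_iff.2 fun c _ => hall c,
      index_top] at hidx
    omega
  have hsq : c.1 * c.1 ∈ centralizer ({x} : Set G) := mul_self_mem_of_index_two hidx c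
  have hne : c.1 * x * c.1⁻¹ ≠ x := fun h =>
    hc (mem_centralizer_singleton_iff.2 (mul_inv_eq_iff_eq_mul.1 h))
  set y := c.1 * x * c.1⁻¹ with hy
  have hyx : y ∈ zpowers x := (mem_normalizer_iff.1 c.2 x).1 (mem_zpowers x)
  have hback : c.1 * y * c.1⁻¹ = x := by
    calc c.1 * y * c.1⁻¹ = c.1 * c.1 * x * (c.1 * c.1)⁻¹ := by rw [hy]; group
      _ = x := by rw [mem_centralizer_singleton_iff.1 hsq, mul_inv_cancel_right]
  have hcomm : x * y = y * x := by
    obtain ⟨i, hi⟩ := hyx
    have hi' : x ^ i = y := hi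
    rw [← hi']; exact ((Commute.refl x).zpow_right i).eq
  refine ⟨c.1, ?_⟩
  by_contra hinv
  have hprod : x * y ≠ 1 := fun h => hinv (eq_inv_of_mul_eq_one_right h)
  have hfix : c.1 * (x * y) * c.1⁻¹ = x * y := by
    calc c.1 * (x * y) * c.1⁻¹ = (c.1 * x * c.1⁻¹) * (c.1 * y * c.1⁻¹) := by group
      _ = x * y := by rw [← hy, hback, hcomm]
  have hgen := zpowers_eq_of_mem hx (mul_mem (mem_zpowers x) hyx) hprod
  refine hc ?_
  show c.1 ∈ centralizer ({x} : Set G)
  rw [← card_centralizer_zpowers hgen]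
  exact mem_centralizer_singleton_iff.2 (mul_inv_eq_iff_eq_mul.1 hfix)

/-- No element maps `x` to its square when the stabiliser of the line is small. -/
theorem not_conj_square {x g : G} (hx : orderOf x = 5)
    (h4 : ¬ Nat.card (centralizer ({x} : Set G)) * 4 ∣ Nat.card G) : g * x * g⁻¹ ≠ x * x := by
  have : Fact (Nat.Prime 5) := ⟨Nat.prime_five⟩
  intro hg
  obtain ⟨e, he, hN⟩ := card_normalizer_zpowers hx
  have he2 : e ∣ 2 := by
    have hd : Nat.card (centralizer ({x} : Set G)) * e ∣ Nat.card G :=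
      hN ▸ Subgroup.card_subgroup_dvd_card _
    obtain ⟨i, hi, rfl⟩ := (Nat.dvd_prime_pow Nat.prime_two).1 (show e ∣ 2 ^ 2 from he)
    rcases Nat.lt_or_ge i 2 with h | h
    · exact pow_dvd_pow 2 (show i ≤ 1 by omega) |>.trans (pow_one 2).dvd
    · exact absurd (show Nat.card (centralizer ({x} : Set G)) * 4 ∣ Nat.card G by
        rwa [show i = 2 by omega] at hd) h4
  set N := normalizer (zpowers x : Set G) with hNdef
  have hgN : g ∈ N := mem_normalizer_zpowers hx (hg ▸ mul_mem (mem_zpowers x) (mem_zpowers x))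
  have hle : centralizer ({x} : Set G) ≤ N := by
    rw [← centralizer_closure ({x} : Set G), ← zpowers_eq_closure]
    exact centralizer_le_normalizer _
  have hidx : ((centralizer ({x} : Set G)).subgroupOf N).index = e := by
    have h := ((centralizer ({x} : Set G)).subgroupOf N).card_mul_index
    rw [Nat.card_congr (Subgroup.subgroupOfEquivOfLe hle).toEquiv, hN] at h
    exact Nat.eq_of_mul_eq_mul_left Nat.card_pos h
  have hsq : g * g ∈ centralizer ({x} : Set G) := by
    rcases (Nat.dvd_prime Nat.prime_two).1 he2 with h | h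
    · rw [h, index_eq_one] at hidx
      have hm : (⟨g, hgN⟩ : ↥N) ∈ (centralizer ({x} : Set G)).subgroupOf N := hidx ▸ mem_top _
      exact mul_mem hm hm
    · exact mul_self_mem_of_index_two (hidx.trans h) ⟨g, hgN⟩
  have h1 : g * g * x * (g * g)⁻¹ = x := by
    rw [mem_centralizer_singleton_iff.1 hsq, mul_inv_cancel_right]
  have h2 : g * g * x * (g * g)⁻¹ = (x * x) * (x * x) := by
    have e1 : g * g * x * (g * g)⁻¹ = g * (g * x * g⁻¹) * g⁻¹ := by group
    have e2 : g * (x * x) * g⁻¹ = (g * x * g⁻¹) * (g * x * g⁻¹) := by group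
    rw [e1, hg, e2, hg]
  have h3 : x ^ 3 = 1 := by
    have h4 : x * (x * x * x) = x * 1 := by
      rw [mul_one]
      conv_rhs => rw [← h1, h2]
      group
    rw [pow_succ, pow_two]
    exact mul_left_cancel h4
  have := orderOf_dvd_of_pow_eq_one h3
  rw [hx] at this
  norm_num at this

end CfsgLib.HJType.LocalGen
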