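import Cfsg.Agent.Lib.HJType.Small
import Cfsg.Agent.Lib.HJType.LocalGen

/-!
Elements of order three and five in the centraliser of `z`.
-/

set_option autoImplicit false
set_option linter.unusedSectionVars false

namespace CfsgLib.HJType

open Subgroup LocalGen

variable {G : Type*} [Group G] [Finite G] {z : G} {Q : Subgroup G}

theorem a5_self_three : ∀ u c : A5, u ^ 3 = 1 → u ≠ 1 → c * u = u * c → c = 1 ∨ c = u ∨ c = u * u := by
  decide +kernel

theorem a5_self_five : ∀ u c : A5, u ^ 5 = 1 → u ≠ 1 → c * u = u * c →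
    c = 1 ∨ c = u ∨ c = u * u ∨ c = u ^ 3 ∨ c = u ^ 4 := by
  decide +kernel

theorem a5_self {p : ℕ} (hp : p = 3 ∨ p = 5) {u c : A5} (hu : u ^ p = 1) (hu1 : u ≠ 1)
    (h : c * u = u * c) : c ∈ zpowers u := by
  rcases hp with rfl | rfl
  · rcases a5_self_three u c hu hu1 h with rfl | rfl | rfl
    exacts [one_mem _, mem_zpowers _, mul_mem (mem_zpowers _) (mem_zpowers _)]
  · rcases a5_self_five u c hu hu1 h with rfl | rfl | rfl | rfl | rfl
    exacts [one_mem _, mem_zpowers _, mul_mem (mem_zpowers _) (mem_zpowers _),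
      pow_mem (mem_zpowers _) _, pow_mem (mem_zpowers _) _]

theorem mem_inf_centralizer {K : Subgroup G} {x c : G} :
    c ∈ K ⊓ centralizer ({x} : Set G) ↔ c ∈ K ∧ c * x = x * c := by
  rw [mem_inf, mem_centralizer_singleton_iff]

theorem card_inf_centralizer {K : Subgroup G} {x : G} (hx : x ∈ K) :
    Nat.card (centralizer ({⟨x, hx⟩} : Set ↥K)) = Nat.card ↥(K ⊓ centralizer ({x} : Set G)) :=
  Nat.card_congr
    { toFun := fun c => ⟨c.1.1, mem_inf_centralizer.2
        ⟨c.1.2, congrArg Subtype.val (mem_centralizer_singleton_iff.1 c.2)⟩⟩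
      invFun := fun c => ⟨⟨c.1, (mem_inf_centralizer.1 c.2).1⟩,
        mem_centralizer_singleton_iff.2 (Subtype.ext (mem_inf_centralizer.1 c.2).2)⟩ }

namespace Hyp

variable (H : Hyp z Q)
include H

theorem sylow_C {p : ℕ} [Fact p.Prime] (hp : p = 3 ∨ p = 5) (P : Sylow p ↥(centralizer ({z} : Set G))) :
    Nat.card (P : Subgroup ↥(centralizer ({z} : Set G))) = p := by
  rcases hp with rfl | rfl
  · simpa using sylow_of_card (p := 3) (a := 1) (m := 640) (by rw [H.card_C]; norm_num) (by norm_num) P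
  · simpa using sylow_of_card (p := 5) (a := 1) (m := 384) (by rw [H.card_C]; norm_num) (by norm_num) P

theorem conj_in_C {p : ℕ} [Fact p.Prime] (hp : p = 3 ∨ p = 5) {x y : G}
    (hxC : x ∈ centralizer ({z} : Set G)) (hx : orderOf x = p)
    (hyC : y ∈ centralizer ({z} : Set G)) (hy : orderOf y = p) :
    ∃ c ∈ centralizer ({z} : Set G), zpowers (c * x * c⁻¹) = zpowers y := by
  obtain ⟨P⟩ : Nonempty (Sylow p ↥(centralizer ({z} : Set G))) := inferInstance
  have hP := H.sylow_C hp P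
  obtain ⟨a, -, ha⟩ := prime_card_eq_sylow (x := (⟨x, hxC⟩ : ↥(centralizer ({z} : Set G))))
    (by rw [Subgroup.orderOf_mk]; exact hx) P hP
  obtain ⟨b, -, hb⟩ := prime_card_eq_sylow (x := (⟨y, hyC⟩ : ↥(centralizer ({z} : Set G))))
    (by rw [Subgroup.orderOf_mk]; exact hy) P hP
  refine ⟨(b⁻¹ * a).1, (b⁻¹ * a).2, ?_⟩
  have h1 : zpowers ((b⁻¹ * a).1 * x * (b⁻¹ * a).1⁻¹) =
      (zpowers ((a : G) * x * (a : G)⁻¹)).map (MulAut.conj (b : G)⁻¹).toMonoidHom := by
    rw [MonoidHom.map_zpowers]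
    congr 1
    show _ = (b : G)⁻¹ * ((a : G) * x * (a : G)⁻¹) * (b : G)⁻¹⁻¹
    push_cast; group
  have h2 : zpowers ((a : G) * x * (a : G)⁻¹) = zpowers ((b : G) * y * (b : G)⁻¹) := by
    have e := congrArg (Subgroup.map (centralizer ({z} : Set G)).subtype) (ha.trans hb.symm)
    rwa [MonoidHom.map_zpowers, MonoidHom.map_zpowers] at e
  rw [h1, h2, MonoidHom.map_zpowers]
  congr 1
  show (b : G)⁻¹ * ((b : G) * y * (b : G)⁻¹) * (b : G)⁻¹⁻¹ = y
  group

/-- The centraliser in `C` of an element of order three or five. -/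
theorem cent_C {p : ℕ} [hpp : Fact p.Prime] (hp : p = 3 ∨ p = 5) {x : G} (hxC : x ∈ centralizer ({z} : Set G))
    (hx : orderOf x = p) :
    Nat.card ↥(centralizer ({z} : Set G) ⊓ centralizer ({x} : Set G)) =
      Nat.card ↥(Q ⊓ centralizer ({x} : Set G)) * p := by
  let f : ↥(centralizer ({z} : Set G) ⊓ centralizer ({x} : Set G)) →* A5 :=
    H.φ.comp (Subgroup.inclusion inf_le_left)
  have hxp : (⟨x, hxC⟩ : ↥(centralizer ({z} : Set G))) ^ p = 1 :=
    Subtype.ext (hx ▸ pow_orderOf_eq_one x)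
  have hxQ : x ∉ Q := fun hq => by
    have h1 : orderOf x ∣ 32 := by
      have := orderOf_dvd_natCard (⟨x, hq⟩ : ↥Q)
      rw [H.card, Subgroup.orderOf_mk] at this
      exact this
    rw [hx] at h1
    rcases hp with rfl | rfl <;> norm_num at h1
  have hu1 : H.φ ⟨x, hxC⟩ ≠ 1 := (H.not_mem_iff hxC).1 hxQ
  have hu : H.φ ⟨x, hxC⟩ ^ p = 1 := by rw [← map_pow, hxp, map_one]
  have hrange : f.range = zpowers (H.φ ⟨x, hxC⟩) := by
    refine le_antisymm ?_ (zpowers_le.2 ⟨⟨x, mem_inf_centralizer.2 ⟨hxC, rfl⟩⟩, rfl⟩)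
    rintro _ ⟨c, rfl⟩
    refine a5_self hp hu hu1 ?_
    show H.φ _ * H.φ _ = H.φ _ * H.φ _
    rw [← map_mul, ← map_mul]
    exact congrArg H.φ (Subtype.ext (mem_inf_centralizer.1 c.2).2)
  have hker : Nat.card f.ker = Nat.card ↥(Q ⊓ centralizer ({x} : Set G)) := by
    refine Nat.card_congr
      { toFun := fun c => ⟨c.1.1, mem_inf_centralizer.2
          ⟨(H.ker _).1 c.2, (mem_inf_centralizer.1 c.1.2).2⟩⟩
        invFun := fun c => ⟨⟨c.1, mem_inf_centralizer.2
          ⟨H.hQC (mem_inf_centralizer.1 c.2).1, (mem_inf_centralizer.1 c.2).2⟩⟩,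
          (H.ker _).2 (mem_inf_centralizer.1 c.2).1⟩ }
  rw [Subgroup.card_eq_card_quotient_mul_card_subgroup f.ker, hker,
    Nat.card_congr (QuotientGroup.quotientKerEquivRange f).toEquiv, hrange, Nat.card_zpowers,
    orderOf_eq_prime hu hu1, mul_comm]

theorem five_cent_C {s : G} (hsC : s ∈ centralizer ({z} : Set G)) (hs : orderOf s = 5) :
    Nat.card ↥(centralizer ({z} : Set G) ⊓ centralizer ({s} : Set G)) = 10 := by
  have : Fact (Nat.Prime 5) := ⟨Nat.prime_five⟩
  have hsQ : s ∉ Q := fun hq => by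
    have h1 := orderOf_dvd_natCard (⟨s, hq⟩ : ↥Q)
    rw [H.card, Subgroup.orderOf_mk, hs] at h1
    norm_num at h1
  have hs5 : s ^ 5 = 1 := hs ▸ pow_orderOf_eq_one s
  rw [H.cent_C (Or.inr rfl) hsC hs, show Q ⊓ centralizer ({s} : Set G) = zpowers z from ?_,
    Nat.card_zpowers, H.hz]
  refine le_antisymm (fun q hq => ?_) (zpowers_le.2 (mem_inf_centralizer.2 ⟨H.hzQ, (H.comm_z hsC).symm⟩))
  obtain ⟨hqQ, hqs⟩ := mem_inf_centralizer.1 hq
  rcases H.five_fix hsC hs5 hsQ hqQ (Or.inl (by rw [← hqs, mul_inv_cancel_right])) with h | h <;>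
    subst h
  exacts [one_mem _, mem_zpowers _]

/-- Elements of order three or five of `C` are inverted in `C`. -/
theorem invert_C {p : ℕ} [hpp : Fact p.Prime] (hp : p = 3 ∨ p = 5) {x : G}
    (hxC : x ∈ centralizer ({z} : Set G)) (hx : orderOf x = p)
    (hk : p = 3 → Nat.card ↥(Q ⊓ centralizer ({x} : Set G)) = 8) :
    ∃ c ∈ centralizer ({z} : Set G), c * x * c⁻¹ = x⁻¹ := by
  set x' : ↥(centralizer ({z} : Set G)) := ⟨x, hxC⟩
  have hx' : orderOf x' = p := by rw [Subgroup.orderOf_mk]; exact hx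
  obtain ⟨P, hP⟩ := (IsPGroup.of_card (p := p) (n := 1)
    (show Nat.card (zpowers x') = p ^ 1 by rw [pow_one, Nat.card_zpowers, hx'])).exists_le_sylow
  have heq : zpowers x' = (P : Subgroup ↥(centralizer ({z} : Set G))) :=
    Subgroup.eq_of_le_of_card_ge hP (by rw [H.sylow_C hp P, Nat.card_zpowers, hx'])
  obtain ⟨e, he, hN⟩ := card_normalizer_zpowers hx'
  have hmod := sylow_mod P
  rw [← heq, H.card_C] at hmod
  have hcent := card_inf_centralizer hxC
  have h2 : e = 2 := by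
    rcases hp with rfl | rfl
    · rw [hcent, H.cent_C (Or.inl rfl) hxC hx, hk rfl] at hN
      rw [hN] at hmod
      have := Nat.le_of_dvd (by norm_num) he
      interval_cases e <;> first | rfl | (norm_num at hmod) | (norm_num at he)
    · rw [hcent, H.five_cent_C hxC hx] at hN
      rw [hN] at hmod
      have := Nat.le_of_dvd (by norm_num) he
      interval_cases e <;> first | rfl | (norm_num at hmod) | (norm_num at he)
  rw [h2] at hN
  obtain ⟨c, hc⟩ := exists_inverting hx' hN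
  exact ⟨c.1, c.2, congrArg Subtype.val hc⟩

end Hyp

end CfsgLib.HJType
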