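import Cfsg.Agent.Lib.HJType.LocalB
import Cfsg.Agent.Lib.HJType.LocalC

/-!
The Sylow five-subgroups of a group of Hall–Janko type.
-/

set_option autoImplicit false
set_option linter.unusedSectionVars false

namespace CfsgLib.HJType

open Subgroup LocalGen
open scoped Pointwise

variable {G : Type*} [Group G] [Finite G] {z : G} {Q : Subgroup G}

theorem a5_invert_five : ∀ u : A5, u ^ 5 = 1 → ∃ v : A5, v * u = u⁻¹ * v := by decide +kernel

/-- A centraliser of an outer involution with chosen elements of order three and five. -/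
structure Frame (S : Setting z Q) (t h : G) (B : Subgroup G) (n b : G) : Prop where
  Yh : OddY S t h B n h 3
  Yb : OddY S t h B n b 5

theorem Setting.exists_frame (S : Setting z Q) : ∃ t h B n b, Frame S t h B n b := by
  obtain ⟨t, ht, -⟩ := S.exists_outer
  obtain ⟨h, B, D⟩ := S.exists_tdata ht
  obtain ⟨n, hn3, hnt, hnV, hnB⟩ := D.exists_outer_three
  obtain ⟨e⟩ := D.equiv
  obtain ⟨u, hu, hu1⟩ := a5_exists_five
  have hself : ∀ {y : G} (hy : y ∈ B) {p : ℕ}, p = 3 ∨ p = 5 → orderOf y = p →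
      ∀ c ∈ B, c * y = y * c → c ∈ zpowers y := by
    intro y hy p hp ho c hc hcy
    have hy' : (⟨y, hy⟩ : ↥B) ^ p = 1 := Subtype.ext (ho ▸ pow_orderOf_eq_one y)
    have hy1 : e ⟨y, hy⟩ ≠ 1 := fun h => by
      rw [show y = 1 from congrArg Subtype.val (e.map_eq_one_iff.1 h), orderOf_one] at ho
      omega
    obtain ⟨i, hi⟩ := a5_self hp (c := e ⟨c, hc⟩) (by rw [← map_pow, hy', map_one]) hy1
      (by rw [← map_mul, ← map_mul]; exact congrArg e (Subtype.ext hcy))
    have hi' : (⟨y, hy⟩ : ↥B) ^ i = ⟨c, hc⟩ := e.injective (by rw [map_zpow]; exact hi)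
    exact ⟨i, congrArg Subtype.val hi'⟩
  have h3 : orderOf h = 3 := orderOf_eq_prime D.T.h3 D.h_ne
  set b := e.symm u with hb
  have h5 : orderOf (b : G) = 5 := by
    have : Fact (Nat.Prime 5) := ⟨Nat.prime_five⟩
    refine orderOf_eq_prime ?_ ?_
    · rw [← Subgroup.coe_pow, hb, ← map_pow, hu, map_one, OneMemClass.coe_one]
    · intro h
      exact hu1 (e.symm.map_eq_one_iff.1 (Subtype.ext h))
  exact ⟨t, h, B, n, b, ⟨D, hn3, hnt, hnV, hnB, Or.inl rfl, D.hB, h3, hself D.hB (Or.inl rfl) h3⟩,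
    ⟨D, hn3, hnt, hnV, hnB, Or.inr rfl, b.2, h5, hself b.2 (Or.inr rfl) h5⟩⟩

namespace OddY

variable {S : Setting z Q} {t h : G} {B : Subgroup G} {n y : G} {p : ℕ}
  (Y : OddY S t h B n y p)
include Y

/-- No conjugate of `z` centralises `y`. -/
theorem no_z {v : G} (hv : IsConj z v) : v * y ≠ y * v := by
  intro hvy
  have : Fact (Nat.Prime 2) := ⟨Nat.prime_two⟩
  obtain ⟨c₀, hc₀⟩ := isConj_iff.1 hv
  have hv2 : v * v = 1 := by
    rw [← hc₀, show c₀ * z * c₀⁻¹ * (c₀ * z * c₀⁻¹) = c₀ * (z * z) * c₀⁻¹ by group, S.zz]; group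
  set X := centralizer ({y} : Set G) with hX
  set V := vGroup S t h with hV
  have hVX : V ≤ X := fun w hw => mem_centralizer_singleton_iff.2 (Y.vy hw)
  obtain ⟨m, hm, hm2⟩ : ∃ m, Nat.card ↥X = 2 ^ 2 * m ∧ ¬ 2 ∣ m := by
    rcases Y.card_cases with h' | ⟨h', -⟩ <;> rcases Y.hp with rfl | rfl
    exacts [⟨9, by simpa using h', by norm_num⟩, ⟨15, by simpa using h', by norm_num⟩,
      ⟨45, by simpa using h', by norm_num⟩, ⟨75, by simpa using h', by norm_num⟩]
  have hV4 : Nat.card ↥(V.subgroupOf X) = 2 ^ 2 := by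
    rw [Nat.card_congr (Subgroup.subgroupOfEquivOfLe hVX).toEquiv]; exact Y.D.T.parts.1
  obtain ⟨P, hP⟩ := (IsPGroup.of_card hV4).exists_le_sylow
  have hPV : V.subgroupOf X = (P : Subgroup ↥X) :=
    Subgroup.eq_of_le_of_card_ge hP (by rw [sylow_of_card hm hm2 P, hV4])
  let v' : ↥X := ⟨v, mem_centralizer_singleton_iff.2 hvy⟩
  obtain ⟨g, hg⟩ := mem_sylow_conj (isPGroup_zpowers (p := 2) (k := 1)
    (show v' ^ 2 ^ 1 = 1 by rw [pow_one, pow_two]; exact Subtype.ext hv2)) P
  have h1 := hg v' (mem_zpowers v')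
  rw [← hPV] at h1
  have hgV : (g : G) * v * (g : G)⁻¹ ∈ V := h1
  have hconj : IsConj z ((g : G) * v * (g : G)⁻¹) := hv.trans (isConj_iff.2 ⟨g, rfl⟩)
  by_cases h0 : (g : G) * v * (g : G)⁻¹ = 1
  · rw [h0] at hconj
    obtain ⟨c, hc⟩ := isConj_iff.1 hconj
    exact S.z_ne (conj_eq_one_iff.1 hc)
  · exact S.outer_not_conj (Y.D.v_outer hgV h0) hconj

end OddY

namespace Setting

variable (S : Setting z Q)
include S

theorem card_sylow_five (P : Sylow 5 G) : Nat.card (P : Subgroup G) = 25 := by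
  have : Fact (Nat.Prime 5) := ⟨Nat.prime_five⟩
  simpa using sylow_of_card (p := 5) (a := 2) (m := 24192) (by rw [S.order_eq]; norm_num) (by norm_num) P

theorem comm_sylow_five (P : Sylow 5 G) {a c : G} (ha : a ∈ (P : Subgroup G)) (hc : c ∈ (P : Subgroup G)) :
    a * c = c * a := by
  have : Fact (Nat.Prime 5) := ⟨Nat.prime_five⟩
  have := IsPGroup.commutative_of_card_eq_prime_sq (p := 5) (G := ↥(P : Subgroup G))
    (by rw [S.card_sylow_five P]; norm_num)
  exact congrArg Subtype.val (this ⟨a, ha⟩ ⟨c, hc⟩)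

theorem le_cent_five (P : Sylow 5 G) {a : G} (ha : a ∈ (P : Subgroup G)) :
    (P : Subgroup G) ≤ centralizer ({a} : Set G) := fun c hc =>
  mem_centralizer_singleton_iff.2 (S.comm_sylow_five P hc ha)

theorem sylow_five_containing {x : G} (hx : orderOf x = 5) :
    ∃ P : Sylow 5 G, x ∈ (P : Subgroup G) := by
  have : Fact (Nat.Prime 5) := ⟨Nat.prime_five⟩
  obtain ⟨P, hP⟩ := (isPGroup_zpowers (p := 5) (k := 1)
    (show x ^ 5 ^ 1 = 1 by rw [pow_one, ← hx]; exact pow_orderOf_eq_one x)).exists_le_sylow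
  exact ⟨P, hP (mem_zpowers x)⟩

end Setting

/-- An element of order five commuting with a conjugate of `z`. -/
def SType (z x : G) : Prop := orderOf x = 5 ∧ ∃ v, IsConj z v ∧ v * x = x * v

theorem stype_conj {z x : G} (hx : SType z x) (g : G) : SType z (g * x * g⁻¹) := by
  obtain ⟨hx5, v, hv, hvx⟩ := hx
  exact ⟨by rw [orderOf_conj]; exact hx5, g * v * g⁻¹, hv.trans (isConj_iff.2 ⟨g, rfl⟩),
    (cent_conj g x v).2 hvx⟩

namespace Frame

variable {S : Setting z Q} {t h : G} {B : Subgroup G} {n b : G} (F : Frame S t h B n b)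
include F

theorem b_card : Nat.card (centralizer ({b} : Set G)) = 300 := by
  obtain ⟨P, hP⟩ := S.sylow_five_containing F.Yb.hord
  have hd := Subgroup.card_dvd_of_le (S.le_cent_five P hP)
  rw [S.card_sylow_five P] at hd
  rcases F.Yb.card_cases with e | ⟨e, -⟩ <;> rw [e] at hd ⊢
  norm_num at hd

/-- The Sylow five-subgroup of `C(b)` has normaliser of order fifty there. -/
theorem norm_b (P : Sylow 5 G) (hb : b ∈ (P : Subgroup G)) :
    Nat.card ↥(normalizer ((P : Subgroup G) : Set G) ⊓ centralizer ({b} : Set G)) = 50 ∧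
      centralizer ((P : Subgroup G) : Set G) = P := by
  have : Fact (Nat.Prime 5) := ⟨Nat.prime_five⟩
  set X := centralizer ({b} : Set G) with hX
  have hPX : (P : Subgroup G) ≤ X := S.le_cent_five P hb
  let P' : Sylow 5 ↥X := P.subtype hPX
  have hP' : Nat.card (P' : Subgroup ↥X) = 25 := by
    rw [show (P' : Subgroup ↥X) = (P : Subgroup G).subgroupOf X from rfl,
      Nat.card_congr (Subgroup.subgroupOfEquivOfLe hPX).toEquiv, S.card_sylow_five P]
  have hN : Nat.card ↥(normalizer ((P' : Subgroup ↥X) : Set ↥X)) =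
      Nat.card ↥(normalizer ((P : Subgroup G) : Set G) ⊓ X) := by
    have key : ∀ c : ↥X, c ∈ normalizer ((P' : Subgroup ↥X) : Set ↥X) ↔
        (c : G) ∈ normalizer ((P : Subgroup G) : Set G) := by
      intro c
      rw [mem_normalizer_iff, mem_normalizer_iff]
      constructor
      · intro hc y
        constructor
        · intro hy
          exact (hc ⟨y, hPX hy⟩).1 hy
        · intro hy
          have hyX : y ∈ X := by
            have := mul_mem (mul_mem (inv_mem c.2) (hPX hy)) c.2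
            simpa [mul_assoc] using this
          exact (hc ⟨y, hyX⟩).2 hy
      · intro hc y
        exact hc (y : G)
    exact Nat.card_congr
      { toFun := fun c => ⟨c.1.1, mem_inf.2 ⟨(key c.1).1 c.2, c.1.2⟩⟩
        invFun := fun c => ⟨⟨c.1, (mem_inf.1 c.2).2⟩, (key _).2 (mem_inf.1 c.2).1⟩ }
  have h50 : Nat.card ↥(normalizer ((P' : Subgroup ↥X) : Set ↥X)) = 50 := by
    obtain ⟨j, hj⟩ := Subgroup.card_dvd_of_le
      (le_normalizer : (P' : Subgroup ↥X) ≤ normalizer ((P' : Subgroup ↥X) : Set ↥X))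
    rw [hP'] at hj
    have hd := Subgroup.card_subgroup_dvd_card (normalizer ((P' : Subgroup ↥X) : Set ↥X))
    have hmod := sylow_mod P'
    have hXc : Nat.card ↥X = 300 := F.b_card
    rw [hXc, hj] at hd
    rw [hXc] at hmod
    change 300 / Nat.card ↥(normalizer ((P' : Subgroup ↥X) : Set ↥X)) % 5 = 1 % 5 at hmod
    rw [hj] at hmod
    have hd' : j ∣ 12 := Nat.dvd_of_mul_dvd_mul_left (by norm_num : 0 < 25) hd
    have hjle : j ≤ 12 := Nat.le_of_dvd (by norm_num) hd'
    have hj12 : j ≠ 12 := by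
      rintro rfl
      rcases F.Yb.card_cases with e | ⟨-, hs⟩
      · have := F.b_card.symm.trans e; norm_num at this
      have htop : normalizer ((P' : Subgroup ↥X) : Set ↥X) = ⊤ :=
        Subgroup.eq_top_of_card_eq _ (by rw [hj]; exact F.b_card.symm)
      have hle : (zpowers b).subgroupOf X ≤ (P' : Subgroup ↥X) := fun c hc => zpowers_le.2 hb hc
      rcases hs _ (normalizer_eq_top_iff.1 htop) hle with e | e
      · have := hP'.symm.trans e; norm_num at this
      · have := hP'.symm.trans e; norm_num at this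
    rw [hj]
    interval_cases j <;> first | rfl | omega | (exact absurd rfl hj12)
  refine ⟨hN.symm.trans h50, ?_⟩
  -- the centraliser
  set C := centralizer ((P : Subgroup G) : Set G) with hC
  have hCle : C ≤ normalizer ((P : Subgroup G) : Set G) ⊓ X := fun c hc => mem_inf.2
    ⟨centralizer_le_normalizer _ hc, mem_centralizer_singleton_iff.2 ((mem_centralizer_iff.1 hc b hb).symm)⟩
  have hPC : (P : Subgroup G) ≤ C := fun c hc => mem_centralizer_iff.2 fun d hd => S.comm_sylow_five P hd hc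
  obtain ⟨j, hj⟩ := Subgroup.card_dvd_of_le hPC
  rw [S.card_sylow_five P] at hj
  have hd := Subgroup.card_dvd_of_le hCle
  rw [← hN, h50, hj] at hd
  have hd' : j ∣ 2 := Nat.dvd_of_mul_dvd_mul_left (by norm_num : 0 < 25) hd
  rcases (Nat.dvd_prime Nat.prime_two).1 hd' with rfl | rfl
  · exact (Subgroup.eq_of_le_of_card_ge hPC (by rw [hj, S.card_sylow_five P])).symm
  · exfalso
    have : Fact (Nat.Prime 2) := ⟨Nat.prime_two⟩
    obtain ⟨v, hv⟩ := exists_prime_orderOf_dvd_card' (G := ↥C) 2 (by rw [hj]; norm_num)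
    have hv' : orderOf (v : G) = 2 := by rw [Subgroup.orderOf_coe]; exact hv
    rcases S.classes F.Yb.D.T.ht hv' with hz | ht
    · exact F.Yb.no_z hz ((mem_centralizer_iff.1 v.2) b hb).symm
    · obtain ⟨g, hg⟩ := isConj_iff.1 ht
      have h240 : Nat.card (centralizer ({(v : G)} : Set G)) = 240 := by
        obtain ⟨e⟩ := F.Yb.D.equiv
        rw [← hg, card_centralizer_conj, F.Yb.D.card_ct, Nat.card_congr e.toEquiv, a5_card]
      have := Subgroup.card_dvd_of_le (show (P : Subgroup G) ≤ centralizer ({(v : G)} : Set G) from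
        fun c hc => mem_centralizer_singleton_iff.2 ((mem_centralizer_iff.1 v.2) c hc))
      rw [S.card_sylow_five P, h240] at this
      norm_num at this

theorem cent_five (P : Sylow 5 G) : centralizer ((P : Subgroup G) : Set G) = P := by
  have : Fact (Nat.Prime 5) := ⟨Nat.prime_five⟩
  obtain ⟨P₀, hb⟩ := S.sylow_five_containing F.Yb.hord
  obtain ⟨g, hg⟩ := MulAction.exists_smul_eq G P P₀
  have hmem : ∀ x, g * x * g⁻¹ ∈ (P₀ : Subgroup G) ↔ x ∈ (P : Subgroup G) := fun x => by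
    rw [← hg, Sylow.coe_subgroup_smul, Subgroup.mem_pointwise_smul_iff_inv_smul_mem]
    simp [mul_assoc]
  refine le_antisymm (fun x hx => (hmem x).1 ?_)
    (fun x hx => mem_centralizer_iff.2 fun y hy => S.comm_sylow_five P hy hx)
  rw [← (F.norm_b P₀ hb).2, mem_centralizer_iff]
  intro y hy
  have hy' : g⁻¹ * y * g ∈ (P : Subgroup G) :=
    (hmem _).1 (by rw [show g * (g⁻¹ * y * g) * g⁻¹ = y by group]; exact hy)
  have := (cent_conj g x _).2 ((mem_centralizer_iff.1 hx) _ hy')
  rwa [show g * (g⁻¹ * y * g) * g⁻¹ = y by group] at this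

theorem s_card {s : G} (hsC : s ∈ centralizer ({z} : Set G)) (hs : orderOf s = 5) :
    Nat.card (centralizer ({s} : Set G)) = 50 := by
  classical
  have : Fact (Nat.Prime 5) := ⟨Nat.prime_five⟩
  have : Fact (Nat.Prime 2) := ⟨Nat.prime_two⟩
  set X := centralizer ({s} : Set G) with hX
  have hzs : z * s = s * z := (S.comm_z hsC).symm
  let z' : ↥X := ⟨z, mem_centralizer_singleton_iff.2 hzs⟩
  let s' : ↥X := ⟨s, mem_centralizer_singleton_iff.2 rfl⟩
  have hz' : orderOf z' = 2 := by rw [Subgroup.orderOf_mk]; exact S.hz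
  have h10 : Nat.card (centralizer ({z'} : Set ↥X)) = 10 := by
    rw [card_inf_centralizer, inf_comm]; exact S.five_cent_C hsC hs
  have h4 : ¬ 4 ∣ Nat.card ↥X := not_four_dvd hz' (by rw [h10]; norm_num)
  obtain ⟨m, hm⟩ : 2 ∣ Nat.card ↥X := hz' ▸ orderOf_dvd_natCard z'
  have hm2 : ¬ 2 ∣ m := fun ⟨k, hk⟩ => h4 ⟨k, by omega⟩
  obtain ⟨T, hT⟩ := (isPGroup_zpowers (p := 2) (k := 1)
    (show z' ^ 2 ^ 1 = 1 by rw [pow_one, ← hz']; exact pow_orderOf_eq_one z')).exists_le_sylow
  have hTc : Nat.card (T : Subgroup ↥X) = 2 :=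
    (sylow_of_card (a := 1) (by rw [pow_one]; exact hm) hm2 T).trans (pow_one 2)
  have hcen : normalizer ((T : Subgroup ↥X) : Set ↥X) ≤ centralizer ((T : Subgroup ↥X) : Set ↥X) := by
    intro c hc
    rw [mem_centralizer_iff]
    intro q hq
    by_cases hq1 : q = 1
    · rw [hq1, one_mul, mul_one]
    have hq' : (⟨c * q * c⁻¹, (mem_normalizer_iff.1 hc q).1 hq⟩ : ↥(T : Subgroup ↥X)) = ⟨q, hq⟩ := by
      obtain ⟨a, -, hall⟩ := (Nat.card_eq_two_iff' (1 : ↥(T : Subgroup ↥X))).1 hTc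
      rw [hall ⟨q, hq⟩ fun e => hq1 (congrArg Subtype.val e)]
      exact hall _ fun e => hq1 (conj_eq_one_iff.1 (congrArg Subtype.val e))
    exact (mul_inv_eq_iff_eq_mul.1 (congrArg Subtype.val hq')).symm
  let M := (MonoidHom.transferSylow T hcen).ker
  have hMc := MonoidHom.ker_transferSylow_isComplement' T hcen
  have hMcard : Nat.card ↥M * 2 = Nat.card ↥X := by
    rw [← hTc]; exact hMc.card_mul
  have hModd : ¬ 2 ∣ Nat.card ↥M := MonoidHom.not_dvd_card_ker_transferSylow T hcen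
  have hodd_mem : ∀ x : ↥X, Odd (orderOf x) → x ∈ M := by
    intro x hx
    rw [MonoidHom.mem_ker, ← orderOf_eq_one_iff]
    have h1 := orderOf_map_dvd (MonoidHom.transferSylow T hcen) x
    have h2 : orderOf (MonoidHom.transferSylow T hcen x) ∣ 2 := by
      have h := orderOf_dvd_natCard (MonoidHom.transferSylow T hcen x)
      rwa [hTc] at h
    have := Nat.dvd_gcd h1 h2
    rw [(Nat.coprime_two_right.2 hx).gcd_eq_one] at this
    exact Nat.dvd_one.1 this
  have hsM : s' ∈ M := hodd_mem s' (by rw [Subgroup.orderOf_mk, hs]; decide)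
  -- the action of `z` on `M` modulo `⟨s⟩`
  let τ : ↥M →* ↥M :=
    { toFun := fun x => ⟨z' * x.1 * z'⁻¹, (inferInstance : M.Normal).conj_mem _ x.2 z'⟩
      map_one' := Subtype.ext (by show z' * 1 * z'⁻¹ = 1; group)
      map_mul' := fun a c => Subtype.ext (by
        show z' * (a.1 * c.1) * z'⁻¹ = z' * a.1 * z'⁻¹ * (z' * c.1 * z'⁻¹); group) }
  let Z : Subgroup ↥M := zpowers ⟨s', hsM⟩
  have hZcen : ∀ (c : ↥M), c ∈ Z → ∀ x : ↥M, x * c = c * x := by
    rintro c ⟨i, rfl⟩ x
    have hx : Commute x (⟨s', hsM⟩ : ↥M) :=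
      Subtype.ext (Subtype.ext (mem_centralizer_singleton_iff.1 x.1.2))
    exact (hx.zpow_right i).eq
  have : Z.Normal := ⟨fun c hc x => by rwa [hZcen c hc x, mul_inv_cancel_right]⟩
  have hτs : τ ⟨s', hsM⟩ = ⟨s', hsM⟩ := Subtype.ext (Subtype.ext (by
    show z * s * z⁻¹ = s; rw [hzs, mul_inv_cancel_right]))
  let τ' := QuotientGroup.map Z Z τ (zpowers_le.2 (by
    show τ ⟨s', hsM⟩ ∈ Z; rw [hτs]; exact mem_zpowers _))
  have hττ : ∀ x, τ (τ x) = x := fun x => Subtype.ext (by
    have hz2 : z' * z' = 1 := Subtype.ext S.zz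
    show z' * (z' * x.1 * z'⁻¹) * z'⁻¹ = x.1
    calc z' * (z' * x.1 * z'⁻¹) * z'⁻¹ = (z' * z') * x.1 * (z' * z')⁻¹ := by group
      _ = x.1 := by rw [hz2]; group)
  have hinv : Function.Involutive τ' := by
    intro q
    obtain ⟨x, rfl⟩ := QuotientGroup.mk'_surjective Z q
    exact congrArg (QuotientGroup.mk' Z) (hττ x)
  have hZodd : ∀ w : ↥M, w * w = 1 → w = 1 := fun w hw => by
    rw [← orderOf_eq_one_iff, ← Nat.dvd_one]
    have h1 := Nat.dvd_gcd (orderOf_dvd_of_pow_eq_one (show w ^ 2 = 1 by rw [pow_two, hw]))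
      (orderOf_dvd_natCard w)
    rwa [((Nat.prime_two.coprime_iff_not_dvd).2 hModd).gcd_eq_one] at h1
  have hfpf : MonoidHom.FixedPointFree τ' := by
    intro q hq
    obtain ⟨x, rfl⟩ := QuotientGroup.mk'_surjective Z q
    have hw : x⁻¹ * τ x ∈ Z := QuotientGroup.eq.1 hq.symm
    have hτw : τ (x⁻¹ * τ x) = x⁻¹ * τ x := by
      obtain ⟨i, hi⟩ := hw
      have hi' : (⟨s', hsM⟩ : ↥M) ^ i = x⁻¹ * τ x := hi
      rw [← hi', map_zpow, hτs]
    have hτw' : τ (x⁻¹ * τ x) = (τ x)⁻¹ * x := by rw [map_mul, map_inv, hττ]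
    have hw1 : x⁻¹ * τ x = 1 := hZodd _ (by
      calc x⁻¹ * τ x * (x⁻¹ * τ x) = x⁻¹ * τ x * ((τ x)⁻¹ * x) := by rw [← hτw', hτw]
        _ = 1 := by group)
    have hfix : τ x = x := (inv_mul_eq_one.1 hw1).symm
    have hxC : ((x.1 : ↥X) : G) * z = z * x.1 :=
      (mul_inv_eq_iff_eq_mul.1 (congrArg (fun w : ↥M => ((w.1 : ↥X) : G)) hfix)).symm
    -- `x` lies in a group of order ten and has odd order
    let C10 := centralizer ({z'} : Set ↥X)
    let x0 : ↥C10 := ⟨x.1, mem_centralizer_singleton_iff.2 (Subtype.ext hxC)⟩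
    let s0 : ↥C10 := ⟨s', mem_centralizer_singleton_iff.2 (Subtype.ext hzs.symm)⟩
    have hidx : (zpowers s0).index = 2 := by
      have hh := (zpowers s0).card_mul_index
      rw [h10, Nat.card_zpowers, Subgroup.orderOf_mk, Subgroup.orderOf_mk, hs] at hh
      omega
    have hxo : x0 ^ 5 = 1 := by
      refine orderOf_dvd_iff_pow_eq_one.1 ?_
      have h1 : orderOf x0 ∣ 10 := h10 ▸ orderOf_dvd_natCard x0
      have h2 : Odd (orderOf x0) := by
        rw [Subgroup.orderOf_mk, Subgroup.orderOf_coe]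
        exact Nat.not_even_iff_odd.1 fun he =>
          hModd ((even_iff_two_dvd.1 he).trans (orderOf_dvd_natCard x))
      exact (Nat.Coprime.dvd_mul_left (Nat.coprime_two_right.2 h2)).1 (show orderOf x0 ∣ 2 * 5 from h1)
    have hm0 : x0 ∈ zpowers s0 := by
      rw [show x0 = x0 ^ 3 * x0 ^ 3 by rw [← pow_add, pow_succ, hxo, one_mul]]
      exact mul_self_mem_of_index_two hidx _
    obtain ⟨i, hi⟩ := hm0
    refine (QuotientGroup.eq_one_iff x).2 ⟨i, Subtype.ext ?_⟩
    have := congrArg (fun w : ↥C10 => (w : ↥X)) hi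
    simpa [s0, x0] using this
  have hcomm := hfpf.commute_all_of_involutive hinv
  -- `M` is a five-group
  obtain ⟨P, hsP⟩ := S.sylow_five_containing hs
  have hPX : (P : Subgroup G) ≤ X := S.le_cent_five P hsP
  have hPM : ∀ c (hc : c ∈ (P : Subgroup G)), (⟨c, hPX hc⟩ : ↥X) ∈ M := fun c hc => hodd_mem _ (by
    rw [Subgroup.orderOf_mk]
    have hd := orderOf_dvd_natCard (⟨c, hc⟩ : ↥(P : Subgroup G))
    rw [S.card_sylow_five P, Subgroup.orderOf_mk] at hd
    exact (show Odd 25 by decide).of_dvd_nat hd)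
  have hM0 : Nat.card ↥M ≠ 0 := Nat.card_pos.ne'
  have huniq : ∀ {q : ℕ}, q.Prime → q ∣ Nat.card ↥M → q = 5 := by
    intro q hq hqd
    by_contra hne
    have : Fact q.Prime := ⟨hq⟩
    obtain ⟨x, hx⟩ := exists_prime_orderOf_dvd_card' q hqd
    have hxP : ((x.1 : ↥X) : G) ∈ centralizer ((P : Subgroup G) : Set G) := by
      rw [mem_centralizer_iff]
      intro c hc
      let c' : ↥M := ⟨_, hPM c hc⟩
      have hw : (c' * x)⁻¹ * (x * c') ∈ Z := by
        rw [← QuotientGroup.eq_one_iff, QuotientGroup.mk_mul, QuotientGroup.mk_inv, QuotientGroup.mk_mul,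
          QuotientGroup.mk_mul, (hcomm (x : ↥M ⧸ Z) (c' : ↥M ⧸ Z)).eq, inv_mul_cancel]
      set w := (c' * x)⁻¹ * (x * c') with hwdef
      have hconj : x * c' * x⁻¹ = c' * w := by
        calc x * c' * x⁻¹ = c' * (x * w * x⁻¹) := by rw [hwdef]; group
          _ = c' * w := by rw [hZcen w hw x, mul_inv_cancel_right]
      have hk : ∀ k : ℕ, x ^ k * c' * (x ^ k)⁻¹ = c' * w ^ k := by
        intro k
        induction k with
        | zero => simp
        | succ k ih =>
          calc x ^ (k + 1) * c' * (x ^ (k + 1))⁻¹ = x * (x ^ k * c' * (x ^ k)⁻¹) * x⁻¹ := by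
                rw [pow_succ' x k]; group
            _ = (x * c' * x⁻¹) * (x * w ^ k * x⁻¹) := by rw [ih]; group
            _ = c' * w ^ (k + 1) := by
                rw [hconj, hZcen _ (pow_mem hw k) x, mul_inv_cancel_right, pow_succ', mul_assoc]
      have hwq : w ^ q = 1 := by
        have h1 := hk q
        rw [← hx, pow_orderOf_eq_one, one_mul, inv_one, mul_one, eq_comm, mul_eq_left, hx] at h1
        exact h1
      have hw5 : w ^ 5 = 1 := by
        refine orderOf_dvd_iff_pow_eq_one.1 ?_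
        have := orderOf_dvd_of_mem_zpowers hw
        have e : orderOf (⟨s', hsM⟩ : ↥M) = 5 := by
          rw [Subgroup.orderOf_mk, Subgroup.orderOf_mk]; exact hs
        rwa [e] at this
      have hw1 : w = 1 := by
        have := pow_gcd_eq_one.2 ⟨hwq, hw5⟩
        rwa [((Nat.coprime_primes hq Nat.prime_five).2 hne).gcd_eq_one, pow_one] at this
      rw [hw1, mul_one] at hconj
      exact (congrArg (fun w : ↥M => ((w.1 : ↥X) : G)) (mul_inv_eq_iff_eq_mul.1 hconj)).symm
    rw [F.cent_five P] at hxP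
    have hd := orderOf_dvd_natCard (⟨_, hxP⟩ : ↥(P : Subgroup G))
    rw [S.card_sylow_five P, Subgroup.orderOf_mk, Subgroup.orderOf_coe, Subgroup.orderOf_coe, hx,
      show (25 : ℕ) = 5 ^ 2 by norm_num] at hd
    exact hne ((Nat.prime_dvd_prime_iff_eq hq Nat.prime_five).1 (hq.dvd_of_dvd_pow hd))
  have hk := Nat.eq_prime_pow_of_unique_prime_dvd hM0 huniq
  set k := (Nat.card ↥M).primeFactorsList.length
  have hk2 : k ≤ 2 := by
    have hd : Nat.card ↥M ∣ 604800 := by
      rw [← S.order_eq]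
      exact (Subgroup.card_subgroup_dvd_card M).trans (Subgroup.card_subgroup_dvd_card X)
    rw [hk] at hd
    by_contra hlt
    have := (pow_dvd_pow 5 (show 3 ≤ k by omega)).trans hd
    norm_num at this
  have hk2' : 25 ≤ Nat.card ↥M := by
    rw [← S.card_sylow_five P]
    exact Nat.card_le_card_of_injective (fun c : ↥(P : Subgroup G) => (⟨_, hPM c.1 c.2⟩ : ↥M))
      (fun a c e => Subtype.ext (congrArg (fun w : ↥M => ((w.1 : ↥X) : G)) e))
  rw [hk] at hk2' hMcard
  interval_cases k <;> omega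

theorem stype_card {x : G} (hx : SType z x) : Nat.card (centralizer ({x} : Set G)) = 50 := by
  obtain ⟨hx5, v, hv, hvx⟩ := hx
  obtain ⟨g, hg⟩ := isConj_iff.1 hv.symm
  rw [← card_centralizer_conj g x]
  refine F.s_card (mem_centralizer_singleton_iff.2 ?_) (by rw [orderOf_conj]; exact hx5)
  rw [← hg]
  exact (cent_conj g v x).2 hvx.symm

theorem stype_norm {x : G} (hx : SType z x) (P : Sylow 5 G) (hxP : x ∈ (P : Subgroup G)) :
    centralizer ({x} : Set G) ≤ normalizer ((P : Subgroup G) : Set G) := by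
  intro c hc
  set X := centralizer ({x} : Set G) with hX
  have hPX : (P : Subgroup G) ≤ X := S.le_cent_five P hxP
  have hidx : ((P : Subgroup G).subgroupOf X).index = 2 := by
    have h := ((P : Subgroup G).subgroupOf X).card_mul_index
    have hXc : Nat.card ↥X = 50 := F.stype_card hx
    rw [Nat.card_congr (Subgroup.subgroupOfEquivOfLe hPX).toEquiv, S.card_sylow_five P, hXc] at h
    omega
  have hn := Subgroup.normal_of_index_eq_two hidx
  rw [mem_normalizer_iff]
  intro y
  constructor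
  · intro hy
    exact hn.conj_mem ⟨y, hPX hy⟩ hy ⟨c, hc⟩
  · intro hy
    have := hn.conj_mem ⟨_, hPX hy⟩ hy ⟨c, hc⟩⁻¹
    simpa [Subgroup.mem_subgroupOf, mul_assoc] using this

theorem pow_two_gen {x : G} (hx : orderOf x = 5) : zpowers (x * x) = zpowers x := by
  have : Fact (Nat.Prime 5) := ⟨Nat.prime_five⟩
  refine zpowers_eq_of_mem hx (mul_mem (mem_zpowers x) (mem_zpowers x)) fun h => ?_
  have := orderOf_dvd_of_pow_eq_one (show x ^ 2 = 1 by rw [pow_two, h])
  rw [hx] at this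
  norm_num at this

theorem not_conj_bs {x : G} (hx : SType z x) : ¬ IsConj b x := by
  intro hc
  obtain ⟨g, rfl⟩ := isConj_iff.1 hc
  have := F.stype_card hx
  rw [card_centralizer_conj, F.b_card] at this
  omega

/-- The Sylow normaliser and the two classes of subgroups of order five. -/
theorem five_structure_count : ∃ P : Sylow 5 G, b ∈ (P : Subgroup G) ∧
    Nat.card (normalizer ((P : Subgroup G) : Set G)) = 300 ∧
    Nat.card {x : G // x ∈ (P : Subgroup G) ∧ SType z x} = 12 ∧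
    ∀ x ∈ (P : Subgroup G), x ≠ 1 → IsConj b x ∨ IsConj (b * b) x ∨ SType z x := by
  classical
  have := Fintype.ofFinite G
  have : Fact (Nat.Prime 5) := ⟨Nat.prime_five⟩
  obtain ⟨P, hbP⟩ := S.sylow_five_containing F.Yb.hord
  refine ⟨P, hbP, ?_⟩
  set N := normalizer ((P : Subgroup G) : Set G) with hN
  obtain ⟨h50, -⟩ := F.norm_b P hbP
  obtain ⟨k, hk⟩ := Subgroup.card_dvd_of_le
    (le_normalizer : (P : Subgroup G) ≤ normalizer ((P : Subgroup G) : Set G))
  rw [S.card_sylow_five P, ← hN] at hk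
  -- an element of the other class inside `P`
  obtain ⟨s₀, hs₀C, hs₀5, hs₀Q⟩ := S.exists_five
  have hs₀ : SType z s₀ := ⟨orderOf_eq_prime hs₀5 (fun e => hs₀Q (e ▸ one_mem Q)), z, IsConj.refl z,
    (S.comm_z hs₀C).symm⟩
  obtain ⟨g, hg⟩ := mem_sylow_conj (isPGroup_zpowers (p := 5) (k := 1)
    (show s₀ ^ 5 ^ 1 = 1 by rw [pow_one]; exact hs₀5)) P
  set s := g * s₀ * g⁻¹ with hs
  have hsP : s ∈ (P : Subgroup G) := hg _ (mem_zpowers _)
  have hsS : SType z s := stype_conj hs₀ g
  have hsS2 : SType z (s * s) := by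
    obtain ⟨h5, v, hv, hvs⟩ := hsS
    refine ⟨?_, v, hv, ((show Commute v s from hvs).mul_right hvs).eq⟩
    rw [← Nat.card_zpowers, F.pow_two_gen h5, Nat.card_zpowers, h5]
  have hbb : centralizer ({b * b} : Set G) = centralizer ({b} : Set G) :=
    card_centralizer_zpowers (F.pow_two_gen F.Yb.hord)
  -- class sizes inside the normaliser
  let cls : G → Finset G := fun a => Finset.univ.filter fun x => ∃ c ∈ N, c * a * c⁻¹ = x
  have hclass : ∀ a ∈ (P : Subgroup G), Nat.card ↥(N ⊓ centralizer ({a} : Set G)) = 50 →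
      (cls a).card * 50 = Nat.card ↥N := by
    intro a ha h50a
    have haN : a ∈ N := le_normalizer ha
    have h := HJOrder.card_class_mul (⟨a, haN⟩ : ↥N)
    rw [card_inf_centralizer, h50a] at h
    rw [← h]
    congr 1
    rw [← Fintype.card_coe, ← Nat.card_eq_fintype_card]
    refine Nat.card_congr
      { toFun := fun x => ⟨⟨x.1, ?_⟩, ?_⟩
        invFun := fun x => ⟨x.1.1, ?_⟩ }
    · obtain ⟨c, hc, e⟩ := (Finset.mem_filter.1 x.2).2
      exact e ▸ mul_mem (mul_mem hc haN) (inv_mem hc)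
    · obtain ⟨c, hc, e⟩ := (Finset.mem_filter.1 x.2).2
      exact isConj_iff.2 ⟨⟨c, hc⟩, Subtype.ext e⟩
    · obtain ⟨c, e⟩ := isConj_iff.1 x.2
      exact Finset.mem_filter.2 ⟨Finset.mem_univ _, c.1, c.2, congrArg Subtype.val e⟩
  have hsub : ∀ a ∈ (P : Subgroup G), a ≠ 1 → cls a ⊆ Finset.univ.filter fun x => x ∈ (P : Subgroup G) ∧ x ≠ 1 := by
    intro a ha ha1 x hx
    obtain ⟨c, hc, rfl⟩ := (Finset.mem_filter.1 hx).2
    exact Finset.mem_filter.2 ⟨Finset.mem_univ _, (mem_normalizer_iff.1 hc a).1 ha,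
      fun e => ha1 (conj_eq_one_iff.1 e)⟩
  have h24 : (Finset.univ.filter fun x => x ∈ (P : Subgroup G) ∧ x ≠ 1).card = 24 := by
    have e : (Finset.univ.filter fun x => x ∈ (P : Subgroup G) ∧ x ≠ 1) =
        (Finset.univ.filter fun x => x ∈ (P : Subgroup G)).erase 1 := by
      ext x; simp [Finset.mem_erase, and_comm]
    rw [e, Finset.card_erase_of_mem (by simp), ← Fintype.card_subtype, ← Nat.card_eq_fintype_card]
    have := S.card_sylow_five P
    change Nat.card {x : G // x ∈ (P : Subgroup G)} = 25 at this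
    omega
  have hdisj : ∀ a c, ¬ IsConj a c → Disjoint (cls a) (cls c) := by
    intro a c hac
    rw [Finset.disjoint_left]
    intro x hx hx'
    obtain ⟨u, -, e⟩ := (Finset.mem_filter.1 hx).2
    obtain ⟨v, -, e'⟩ := (Finset.mem_filter.1 hx').2
    exact hac ((isConj_iff.2 ⟨u, e⟩).trans (isConj_iff.2 ⟨v, e'⟩).symm)
  have hb50 : Nat.card ↥(N ⊓ centralizer ({b} : Set G)) = 50 := h50
  have hs50 : ∀ x, SType z x → x ∈ (P : Subgroup G) → Nat.card ↥(N ⊓ centralizer ({x} : Set G)) = 50 :=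
    fun x hx hxP => by rw [inf_eq_right.2 (F.stype_norm hx P hxP)]; exact F.stype_card hx
  have hb1 : b ≠ 1 := fun e => by
    have := F.Yb.hord
    rw [e, orderOf_one] at this
    omega
  have hs1 : ∀ x, SType z x → x ≠ 1 := fun x hx e => by
    have := hx.1
    rw [e, orderOf_one] at this
    omega
  have e1 := hclass b hbP hb50
  have e2 := hclass s hsP (hs50 s hsS hsP)
  have hle := Finset.card_le_card (Finset.union_subset (hsub b hbP hb1) (hsub s hsP (hs1 s hsS)))
  rw [Finset.card_union_of_disjoint (hdisj b s (F.not_conj_bs hsS)), h24] at hle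
  -- `b` is inverted
  have hbinv : b⁻¹ ∈ cls b := by
    obtain ⟨e⟩ := F.Yb.D.equiv
    obtain ⟨v, hv⟩ := a5_invert_five (e ⟨b, F.Yb.hyB⟩)
      (by rw [← map_pow, ← map_one e]; exact congrArg e (Subtype.ext (show b ^ 5 = 1 by rw [← F.Yb.hord, pow_orderOf_eq_one])))
    obtain ⟨c, rfl⟩ := e.surjective v
    rw [← map_mul, ← map_inv, ← map_mul] at hv
    have hc : (c : G) * b * (c : G)⁻¹ = b⁻¹ :=
      mul_inv_eq_iff_eq_mul.2 (congrArg Subtype.val (e.injective hv))
    set X := centralizer ({b} : Set G) with hX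
    have hPX : (P : Subgroup G) ≤ X := S.le_cent_five P hbP
    have hcPX : ((c : G) • P : Sylow 5 G) ≤ X := by
      intro y hy
      rw [Sylow.coe_subgroup_smul, Subgroup.mem_pointwise_smul_iff_inv_smul_mem] at hy
      have hy' : (c : G)⁻¹ * y * c ∈ (P : Subgroup G) := by simpa using hy
      refine mem_centralizer_singleton_iff.2 ?_
      have h1 := (cent_conj (c : G) b _).2 (mem_centralizer_singleton_iff.1 (hPX hy'))
      rw [show (c : G) * ((c : G)⁻¹ * y * c) * (c : G)⁻¹ = y by group, hc] at h1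
      exact (Commute.inv_right_iff.1 h1)
    obtain ⟨q, hq⟩ := MulAction.exists_smul_eq ↥X (((c : G) • P).subtype hcPX) (P.subtype hPX)
    simp_rw [Sylow.smul_subtype, Subgroup.smul_def, smul_smul] at hq
    refine Finset.mem_filter.2 ⟨Finset.mem_univ _, (q : G) * c,
      Sylow.smul_eq_iff_mem_normalizer.1 (Sylow.subtype_injective hq), ?_⟩
    have hqb : (q : G) * b⁻¹ = b⁻¹ * q :=
      (Commute.inv_right (show Commute (q : G) b from mem_centralizer_singleton_iff.1 q.2)).eq
    calc (q : G) * c * b * ((q : G) * c)⁻¹ = (q : G) * ((c : G) * b * (c : G)⁻¹) * (q : G)⁻¹ := by group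
      _ = b⁻¹ := by rw [hc, hqb, mul_inv_cancel_right]
  have h2 : 2 ≤ (cls b).card := by
    have hne : b⁻¹ ≠ b := fun e => by
      have h2 : b ^ 2 = 1 := by rw [pow_two]; nth_rw 1 [← e]; rw [inv_mul_cancel]
      have := orderOf_dvd_of_pow_eq_one h2
      rw [F.Yb.hord] at this
      norm_num at this
    rw [← Finset.card_pair hne]
    refine Finset.card_le_card ?_
    intro x hx
    simp only [Finset.mem_insert, Finset.mem_singleton] at hx
    rcases hx with rfl | rfl
    · exact hbinv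
    · exact Finset.mem_filter.2 ⟨Finset.mem_univ _, 1, one_mem _, by group⟩
  have hmod := sylow_mod P
  rw [S.order_eq, ← hN, hk] at hmod
  have hdvd : 25 * k ∣ 604800 := by
    rw [← hk, ← S.order_eq]; exact Subgroup.card_subgroup_dvd_card N
  rw [hk] at e1 e2
  have hk12 : k = 12 := by
    have : k ≤ 24 := by omega
    interval_cases k <;> first | rfl | omega | (norm_num at hmod) | (norm_num at hdvd)
  subst hk12
  refine ⟨hk, ?_⟩
  have hN300 : Nat.card ↥N = 300 := hk
  have hsq : ∀ a ∈ (P : Subgroup G), orderOf a = 5 → Nat.card ↥(N ⊓ centralizer ({a} : Set G)) = 50 →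
      ∀ c ∈ N, c * a * c⁻¹ ≠ a * a := by
    intro a ha ha5 h50a c hc e
    refine not_conj_square (x := (⟨a, le_normalizer ha⟩ : ↥N)) (g := ⟨c, hc⟩) ?_ ?_ (Subtype.ext e)
    · rw [Subgroup.orderOf_mk]; exact ha5
    · rw [card_inf_centralizer, h50a, hN300]; norm_num
  have hmeet : ∀ a, (∀ c ∈ N, c * a * c⁻¹ ≠ a * a) → Disjoint (cls a) (cls (a * a)) := by
    intro a hne
    rw [Finset.disjoint_left]
    intro x hx hx'
    obtain ⟨u, hu, e⟩ := (Finset.mem_filter.1 hx).2
    obtain ⟨v, hv, e'⟩ := (Finset.mem_filter.1 hx').2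
    refine hne (v⁻¹ * u) (mul_mem (inv_mem hv) hu) ?_
    calc v⁻¹ * u * a * (v⁻¹ * u)⁻¹ = v⁻¹ * (u * a * u⁻¹) * v := by group
      _ = v⁻¹ * (v * (a * a) * v⁻¹) * v := by rw [e, e']
      _ = a * a := by group
  have hbbP := mul_mem hbP hbP
  have hssP := mul_mem hsP hsP
  have hbb1 : b * b ≠ 1 := fun e => by
    have := orderOf_dvd_of_pow_eq_one (show b ^ 2 = 1 by rw [pow_two, e])
    rw [F.Yb.hord] at this
    norm_num at this
  have e3 := hclass (b * b) hbbP (by rw [hbb]; exact hb50)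
  have e4 := hclass (s * s) hssP (hs50 _ hsS2 hssP)
  rw [hN300] at e3 e4
  have hnbs : ∀ x, SType z x → ¬ IsConj (b * b) x := fun x hx hc => by
    obtain ⟨g', e⟩ := isConj_iff.1 hc
    have := F.stype_card hx
    rw [← e, card_centralizer_conj, hbb, F.b_card] at this
    omega
  have hall : (cls b ∪ cls (b * b)) ∪ (cls s ∪ cls (s * s)) =
      Finset.univ.filter fun x => x ∈ (P : Subgroup G) ∧ x ≠ 1 := by
    refine Finset.eq_of_subset_of_card_le (Finset.union_subset
      (Finset.union_subset (hsub b hbP hb1) (hsub _ hbbP hbb1))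
      (Finset.union_subset (hsub s hsP (hs1 s hsS)) (hsub _ hssP (hs1 _ hsS2)))) ?_
    rw [h24, Finset.card_union_of_disjoint, Finset.card_union_of_disjoint (hmeet b
      (hsq b hbP F.Yb.hord hb50)), Finset.card_union_of_disjoint (hmeet s
      (hsq s hsP hsS.1 (hs50 s hsS hsP)))]
    · omega
    · rw [Finset.disjoint_union_left, Finset.disjoint_union_right, Finset.disjoint_union_right]
      exact ⟨⟨hdisj _ _ (F.not_conj_bs hsS), hdisj _ _ (F.not_conj_bs hsS2)⟩,
        hdisj _ _ (hnbs _ hsS), hdisj _ _ (hnbs _ hsS2)⟩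
  refine ⟨?_, fun x hx hx1 => ?_⟩
  · have heq : (Finset.univ.filter fun x => x ∈ (P : Subgroup G) ∧ SType z x) = cls s ∪ cls (s * s) := by
      refine Finset.Subset.antisymm (fun x hx => ?_) fun x hx => ?_
      · obtain ⟨hxP, hxS⟩ := (Finset.mem_filter.1 hx).2
        have hm : x ∈ (cls b ∪ cls (b * b)) ∪ (cls s ∪ cls (s * s)) := by
          rw [hall]; exact Finset.mem_filter.2 ⟨Finset.mem_univ _, hxP, hs1 x hxS⟩
        rcases Finset.mem_union.1 hm with h | h
        · exfalso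
          rcases Finset.mem_union.1 h with h | h <;> obtain ⟨c, -, rfl⟩ := (Finset.mem_filter.1 h).2
          · exact F.not_conj_bs hxS (isConj_iff.2 ⟨c, rfl⟩)
          · exact hnbs _ hxS (isConj_iff.2 ⟨c, rfl⟩)
        · exact h
      · refine Finset.mem_filter.2 ⟨Finset.mem_univ _, ?_⟩
        rcases Finset.mem_union.1 hx with h | h
        · refine ⟨((Finset.mem_filter.1 (hsub s hsP (hs1 s hsS) h)).2).1, ?_⟩
          obtain ⟨c, -, rfl⟩ := (Finset.mem_filter.1 h).2
          exact stype_conj hsS c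
        · refine ⟨((Finset.mem_filter.1 (hsub _ hssP (hs1 _ hsS2) h)).2).1, ?_⟩
          obtain ⟨c, -, rfl⟩ := (Finset.mem_filter.1 h).2
          exact stype_conj hsS2 c
    rw [Nat.card_eq_fintype_card, Fintype.card_subtype, heq,
      Finset.card_union_of_disjoint (hmeet s (hsq s hsP hsS.1 (hs50 s hsS hsP)))]
    omega
  have hm : x ∈ (cls b ∪ cls (b * b)) ∪ (cls s ∪ cls (s * s)) := by
    rw [hall]; exact Finset.mem_filter.2 ⟨Finset.mem_univ _, hx, hx1⟩
  simp only [Finset.mem_union] at hm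
  rcases hm with (hm | hm) | (hm | hm) <;> obtain ⟨c, -, rfl⟩ := (Finset.mem_filter.1 hm).2
  · exact Or.inl (isConj_iff.2 ⟨c, rfl⟩)
  · exact Or.inr (Or.inl (isConj_iff.2 ⟨c, rfl⟩))
  · exact Or.inr (Or.inr (stype_conj hsS c))
  · exact Or.inr (Or.inr (stype_conj hsS2 c))

theorem five_structure : ∃ P : Sylow 5 G, b ∈ (P : Subgroup G) ∧
    Nat.card (normalizer ((P : Subgroup G) : Set G)) = 300 ∧
    ∀ x ∈ (P : Subgroup G), x ≠ 1 → IsConj b x ∨ IsConj (b * b) x ∨ SType z x := by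
  obtain ⟨P, h1, h2, -, h4⟩ := F.five_structure_count
  exact ⟨P, h1, h2, h4⟩

/-- Every element of order five is of one of the two kinds. -/
theorem five_kinds {x : G} (hx : orderOf x = 5) :
    (∃ g, zpowers (g * x * g⁻¹) = zpowers b) ∨ SType z x := by
  have : Fact (Nat.Prime 5) := ⟨Nat.prime_five⟩
  obtain ⟨P, -, -, hall⟩ := F.five_structure
  obtain ⟨g, hg⟩ := mem_sylow_conj (isPGroup_zpowers (p := 5) (k := 1)
    (show x ^ 5 ^ 1 = 1 by rw [pow_one, ← hx]; exact pow_orderOf_eq_one x)) P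
  have h1 : g * x * g⁻¹ ≠ 1 := fun e => by
    rw [conj_eq_one_iff.1 e, orderOf_one] at hx; omega
  rcases hall _ (hg x (mem_zpowers x)) h1 with hc | hc | hc
  · obtain ⟨c, e⟩ := isConj_iff.1 hc.symm
    refine Or.inl ⟨c * g, ?_⟩
    rw [show c * g * x * (c * g)⁻¹ = c * (g * x * g⁻¹) * c⁻¹ by group, e]
  · obtain ⟨c, e⟩ := isConj_iff.1 hc.symm
    refine Or.inl ⟨c * g, ?_⟩
    rw [show c * g * x * (c * g)⁻¹ = c * (g * x * g⁻¹) * c⁻¹ by group, e, F.pow_two_gen F.Yb.hord]
  · have := stype_conj hc g⁻¹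
    rw [inv_inv, show g⁻¹ * (g * x * g⁻¹) * g = x by group] at this
    exact Or.inr this

end Frame

theorem Setting.sylow_five (S : Setting z Q) (P : Sylow 5 G) :
    centralizer ((P : Subgroup G) : Set G) = P ∧ Nat.card (P : Subgroup G) = 25 ∧
      Nat.card (normalizer ((P : Subgroup G) : Set G)) = 300 ∧
      ∃ X Y : Subgroup G, Nat.card X = 5 ∧ Nat.card Y = 5 ∧
        (∀ g : G, X.map (MulAut.conj g).toMonoidHom ≠ Y) ∧
        ∀ W : Subgroup G, Nat.card W = 5 →
          ∃ g : G, W.map (MulAut.conj g).toMonoidHom = X ∨ W.map (MulAut.conj g).toMonoidHom = Y := by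
  have : Fact (Nat.Prime 5) := ⟨Nat.prime_five⟩
  obtain ⟨t, h, B, n, b, F⟩ := S.exists_frame
  obtain ⟨P₀, -, hN, -⟩ := F.five_structure
  refine ⟨F.cent_five P, S.card_sylow_five P, ?_, ?_⟩
  · have h1 := (normalizer ((P : Subgroup G) : Set G)).card_mul_index
    have h2 := (normalizer ((P₀ : Subgroup G) : Set G)).card_mul_index
    have i1 : Nat.card (Sylow 5 G) = (normalizer ((P : Subgroup G) : Set G)).index :=
      P.card_eq_index_normalizer
    have i2 : Nat.card (Sylow 5 G) = (normalizer ((P₀ : Subgroup G) : Set G)).index :=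
      P₀.card_eq_index_normalizer
    rw [← i1] at h1
    rw [← i2] at h2
    have hpos : 0 < Nat.card (Sylow 5 G) := Nat.card_pos
    exact (Nat.eq_of_mul_eq_mul_right hpos (h1.trans h2.symm)).trans hN
  obtain ⟨s, hsC, hs5, hsQ⟩ := S.exists_five
  have hs : orderOf s = 5 := orderOf_eq_prime hs5 (fun e => hsQ (e ▸ one_mem Q))
  have hconj : ∀ (g x : G), (zpowers x).map (MulAut.conj g).toMonoidHom = zpowers (g * x * g⁻¹) :=
    fun g x => MonoidHom.map_zpowers _ _
  refine ⟨zpowers b, zpowers s, by rw [Nat.card_zpowers, F.Yb.hord], by rw [Nat.card_zpowers, hs],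
    fun g e => ?_, fun W hW => ?_⟩
  · rw [hconj] at e
    have := congrArg (fun K : Subgroup G => Nat.card (centralizer (K : Set G))) e
    simp only [zpowers_eq_closure, centralizer_closure] at this
    rw [card_centralizer_conj, F.b_card, F.s_card hsC hs] at this
    omega
  · obtain ⟨x, hx⟩ := exists_prime_orderOf_dvd_card' (G := ↥W) 5 (by rw [hW])
    have hx' : orderOf (x : G) = 5 := by rw [Subgroup.orderOf_coe]; exact hx
    have hWx : W = zpowers (x : G) := (Subgroup.eq_of_le_of_card_ge (zpowers_le.2 x.2)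
      (by rw [hW, Nat.card_zpowers, hx'])).symm
    rcases F.five_kinds hx' with ⟨g, hg⟩ | ⟨-, v, hv, hvx⟩
    · exact ⟨g, Or.inl (by rw [hWx, hconj, hg])⟩
    · obtain ⟨g, hg⟩ := isConj_iff.1 hv.symm
      have hC : g * (x : G) * g⁻¹ ∈ centralizer ({z} : Set G) := mem_centralizer_singleton_iff.2 (by
        rw [← hg]; exact (cent_conj g v _).2 hvx.symm)
      obtain ⟨c, -, hc⟩ := S.conj_in_C (Or.inr rfl) hC (by rw [orderOf_conj]; exact hx') hsC hs
      refine ⟨c * g, Or.inr ?_⟩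
      rw [hWx, hconj, show c * g * (x : G) * (c * g)⁻¹ = c * (g * x * g⁻¹) * c⁻¹ by group, hc]

end CfsgLib.HJType
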