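import Cfsg.Agent.Lib.HJType.UniqueTable
import Cfsg.Agent.Lib.HJType.LocalFive
import Cfsg.Agent.Lib.Involutions.BrauerSuzuki

/-!
A group of Hall–Janko type: an element of order five inverted by `z` and commuting with one of
`C(z)` has a common centraliser of order sixty with `z`, and generates the group with `C(z)`.
-/

set_option autoImplicit false
set_option linter.unusedSectionVars false
set_option maxHeartbeats 1000000

namespace CfsgLib.HJType

open Subgroup LocalGen

/-- An involutive automorphism of a simple group of order sixty fixing an element of order five is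
trivial. -/
theorem involutive_fix_five {A : Type*} [Group A] [Finite A] (hA : Nat.card A = 60)
    (hs : ∀ N : Subgroup A, N.Normal → N = ⊥ ∨ N = ⊤) (τ : A →* A) (hinv : ∀ x, τ (τ x) = x)
    {s : A} (hs5 : orderOf s = 5) (hτs : τ s = s) (x : A) : τ x = x := by
  classical
  have : Fact (Nat.Prime 5) := ⟨Nat.prime_five⟩
  have := Fintype.ofFinite (Sylow 5 A)
  have hP5 : ∀ P : Sylow 5 A, Nat.card (P : Subgroup A) = 5 := fun P =>
    (sylow_of_card (a := 1) (m := 12) (by rw [hA]; norm_num) (by norm_num) P).trans (pow_one 5)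
  have hf : (Nat.card A).factorization 5 = 1 := by
    have h := (default : Sylow 5 A).card_eq_multiplicity
    rw [hP5] at h
    exact Nat.pow_right_injective (by norm_num : 2 ≤ 5) (h.symm.trans (pow_one 5).symm)
  have hz5 : Nat.card (zpowers s) = 5 ^ (Nat.card A).factorization 5 := by
    rw [hf, Nat.card_zpowers, hs5, pow_one]
  set P0 : Sylow 5 A := Sylow.ofCard (zpowers s) hz5 with hP0
  have hs0 : s ∈ (P0 : Subgroup A) := mem_zpowers s
  have hτinj : Function.Injective τ := Function.LeftInverse.injective hinv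
  let T : Sylow 5 A → Sylow 5 A := fun P => Sylow.ofCard ((P : Subgroup A).map τ) (by
    rw [Subgroup.card_map_of_injective hτinj, hP5, hf, pow_one])
  have hT : ∀ (P : Sylow 5 A) (y : A), y ∈ (T P : Subgroup A) ↔ τ y ∈ (P : Subgroup A) := fun P y => by
    show y ∈ (P : Subgroup A).map τ ↔ _
    constructor
    · rintro ⟨w, hw, rfl⟩; rw [hinv]; exact hw
    · exact fun h => ⟨τ y, h, hinv y⟩
  have hsmul : ∀ (g : A) (P : Sylow 5 A) (y : A), y ∈ (g • P : Sylow 5 A) ↔ g⁻¹ * y * g ∈ P := fun g P y => by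
    rw [← SetLike.mem_coe, Sylow.coe_smul, Set.mem_smul_set_iff_inv_smul_mem]
    simp
  have hTsmul : ∀ (g : A) (P : Sylow 5 A), T (g • P) = τ g • T P := fun g P => SetLike.ext fun y => by
    refine (hT _ y).trans ((hsmul g P _).trans ?_)
    refine Iff.trans ?_ ((hsmul (τ g) _ y).trans (hT P _)).symm
    rw [map_mul, map_mul, map_inv, hinv]
    exact Iff.rfl
  have hTT : ∀ P, T (T P) = P := fun P => SetLike.ext fun y => by
    refine (hT _ y).trans ((hT P _).trans ?_)
    rw [hinv]
    exact Iff.rfl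
  -- the only fixed point of `s`
  have hfix : ∀ P : Sylow 5 A, s • P = P → P = P0 := by
    intro P hP
    have hsN : s ∈ normalizer ((P : Subgroup A) : Set A) := Sylow.smul_eq_iff_mem_normalizer.1 hP
    have hpz : IsPGroup 5 (zpowers s) := IsPGroup.of_card (n := 1) (by rw [Nat.card_zpowers, hs5, pow_one])
    have hsP : zpowers s ≤ (P : Subgroup A) := by
      have h2 := inf_eq_left.2 (zpowers_le.2 hsN : zpowers s ≤ normalizer ((P : Subgroup A) : Set A))
      exact h2.symm.le.trans ((hpz.inf_normalizer_sylow P).le.trans inf_le_right)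
    refine Sylow.ext (Subgroup.eq_of_le_of_card_ge hsP ?_).symm
    rw [hP5, Nat.card_zpowers, hs5]
  have hT0 : T P0 = P0 := Sylow.ext (Subgroup.eq_of_le_of_card_ge (fun y hy => by
    obtain ⟨k, rfl⟩ := Subgroup.mem_zpowers_iff.1 (show y ∈ zpowers s from hy)
    refine (hT P0 _).2 ?_
    rw [map_zpow, hτs]
    exact zpow_mem hs0 k) (by rw [hP5, hP5])).symm
  -- another Sylow subgroup
  obtain ⟨P1, hP1⟩ : ∃ P : Sylow 5 A, P ≠ P0 := by
    by_contra h
    push Not at h
    have hn : (P0 : Subgroup A).Normal := by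
      rw [← normalizer_eq_top_iff, eq_top_iff]
      exact fun g _ => Sylow.smul_eq_iff_mem_normalizer.1 (h _)
    rcases hs _ hn with e | e
    · have := hP5 P0
      rw [e, Subgroup.card_bot] at this
      norm_num at this
    · have := hP5 P0
      rw [e, Subgroup.card_top, hA] at this
      norm_num at this
  have hne : ∀ k : ℕ, ¬ 5 ∣ k → s ^ k • P1 ≠ P1 := fun k hk h => hP1 <| by
    have h5 : ∀ n : ℕ, (s ^ k) ^ n • P1 = P1 := fun n => by
      induction n with
      | zero => rw [pow_zero, one_smul]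
      | succ n ih => rw [pow_succ, mul_smul, h, ih]
    refine hfix P1 ?_
    obtain ⟨m, hm⟩ : ∃ m, s = (s ^ k) ^ m := by
      have hk1 : s ^ k ≠ 1 := fun e => hk (hs5 ▸ orderOf_dvd_of_pow_eq_one e)
      have := zpowers_eq_of_mem hs5 (pow_mem (mem_zpowers s) k) hk1
      have hm : s ∈ zpowers (s ^ k) := this ▸ mem_zpowers s
      rw [← mem_powers_iff_mem_zpowers] at hm
      obtain ⟨m, hm⟩ := hm
      exact ⟨m, hm.symm⟩
    rw [hm]; exact h5 m
  have hs5' : s ^ 5 = 1 := hs5 ▸ pow_orderOf_eq_one s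
  have hinj : Function.Injective (fun i : Fin 5 => s ^ (i : ℕ) • P1) := by
    intro i j h
    have h' : s ^ (i : ℕ) • P1 = s ^ (j : ℕ) • P1 := h
    by_contra hij
    have h2 := congrArg (fun P => s ^ (5 - (i : ℕ)) • P) h'
    simp only [← mul_smul, ← pow_add] at h2
    rw [show 5 - (i : ℕ) + (i : ℕ) = 5 by omega, hs5', one_smul] at h2
    refine hne _ ?_ h2.symm
    have := i.isLt
    have := j.isLt
    have : (i : ℕ) ≠ j := fun e => hij (Fin.ext e)
    omega
  have hnot : ∀ i : Fin 5, s ^ (i : ℕ) • P1 ≠ P0 := fun i h => hP1 <| by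
    have h2 := congrArg (fun P => (s ^ (i : ℕ))⁻¹ • P) h
    simp only [inv_smul_smul] at h2
    rw [h2]
    refine Sylow.smul_eq_iff_mem_normalizer.2 (le_normalizer ?_)
    exact inv_mem (pow_mem hs0 _)
  -- all the others form one orbit
  have hcount : Fintype.card (Sylow 5 A) = 6 := by
    have h1 : Nat.card (Sylow 5 A) ≡ 1 [MOD 5] := card_sylow_modEq_one 5 A
    have h2 := P0.card_dvd_index
    have h3 := (P0 : Subgroup A).card_mul_index
    rw [hP5, hA] at h3
    rw [show (P0 : Subgroup A).index = 12 by omega] at h2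
    have h4 := Nat.le_of_dvd (by norm_num) h2
    have h6 : 6 ≤ Nat.card (Sylow 5 A) := by
      rw [Nat.card_eq_fintype_card]
      have h := Finset.card_le_univ (insert P0 (Finset.univ.image fun i : Fin 5 => s ^ (i : ℕ) • P1))
      rw [Finset.card_insert_of_notMem (by simpa using hnot), Finset.card_image_of_injective _ hinj] at h
      simpa using h
    unfold Nat.ModEq at h1
    rw [← Nat.card_eq_fintype_card]
    generalize Nat.card (Sylow 5 A) = n at *
    interval_cases n <;> first | rfl | omega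
  have hall : ∀ P : Sylow 5 A, P = P0 ∨ ∃ i : Fin 5, s ^ (i : ℕ) • P1 = P := by
    intro P
    have h : insert P0 (Finset.univ.image fun i : Fin 5 => s ^ (i : ℕ) • P1) = Finset.univ :=
      Finset.eq_univ_of_card _ (by
        rw [Finset.card_insert_of_notMem (by simpa using hnot), Finset.card_image_of_injective _ hinj, hcount]
        rfl)
    have := h.symm ▸ Finset.mem_univ P
    simpa using this
  have hTall : ∀ P, T P = P := by
    have hT1 : T P1 = P1 := by
      rcases hall (T P1) with h | ⟨i, hi⟩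
      · exact absurd ((hTT P1).symm.trans ((congrArg T h).trans hT0)) hP1
      · have h := hTT P1
        rw [← hi, hTsmul, map_pow, hτs, ← hi, ← mul_smul, ← pow_add] at h
        have hd : 5 ∣ (i : ℕ) + i := by
          by_contra hd
          exact hne _ hd h
        have := i.isLt
        have h0 : (i : ℕ) = 0 := by omega
        rw [← hi, h0, pow_zero, one_smul]
    intro P
    rcases hall P with rfl | ⟨i, rfl⟩
    · exact hT0
    · rw [hTsmul, map_pow, hτs, hT1]
  have hker : (MulAction.toPermHom A (Sylow 5 A)).ker = ⊥ := by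
    refine (hs _ (MonoidHom.normal_ker _)).resolve_right fun e => hP1 (hfix P1 ?_)
    have : s ∈ (MulAction.toPermHom A (Sylow 5 A)).ker := e ▸ Subgroup.mem_top s
    exact Equiv.ext_iff.1 (MonoidHom.mem_ker.1 this) P1
  have hmem : x⁻¹ * τ x ∈ (MulAction.toPermHom A (Sylow 5 A)).ker := by
    refine MonoidHom.mem_ker.2 (Equiv.ext fun P => ?_)
    show (x⁻¹ * τ x) • P = P
    have h := hTall (x • P)
    rw [hTsmul, hTall] at h
    rw [mul_smul, h, inv_smul_smul]
  rw [hker, Subgroup.mem_bot, inv_mul_eq_one] at hmem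
  exact hmem.symm

variable {G : Type*} [Group G] [Finite G] {z : G} {Q : Subgroup G}

theorem map_conj_centralizer (g x : G) :
    (centralizer ({x} : Set G)).map (MulAut.conj g).toMonoidHom = centralizer ({g * x * g⁻¹} : Set G) := by
  ext y
  constructor
  · rintro ⟨w, hw, rfl⟩
    exact mem_centralizer_singleton_iff.2 ((cent_conj g x w).2 (mem_centralizer_singleton_iff.1 hw))
  · intro hy
    refine ⟨g⁻¹ * y * g, mem_centralizer_singleton_iff.2 ((cent_conj g x _).1 ?_), ?_⟩
    · rw [show g * (g⁻¹ * y * g) * g⁻¹ = y by group]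
      exact mem_centralizer_singleton_iff.1 hy
    · show g * (g⁻¹ * y * g) * g⁻¹ = y
      group

theorem stype_pow {s : G} (hs : SType z s) {w : G} (hw : w ∈ zpowers s) (hw1 : w ≠ 1) : SType z w := by
  have : Fact (Nat.Prime 5) := ⟨Nat.prime_five⟩
  obtain ⟨h5, v, hv, hvs⟩ := hs
  refine ⟨?_, v, hv, ?_⟩
  · rw [← Nat.card_zpowers, zpowers_eq_of_mem h5 hw hw1, Nat.card_zpowers, h5]
  · obtain ⟨i, rfl⟩ := Subgroup.mem_zpowers_iff.1 hw
    exact ((show Commute v s from hvs).zpow_right i).eq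

namespace Setting

variable (S : Setting z Q)
include S

theorem fixed_in_sylow {s : G} (hs : s ∈ centralizer ({z} : Set G)) (hs5 : orderOf s = 5) {P : Sylow 5 G}
    (hsP : s ∈ (P : Subgroup G)) {x : G} (hx : x ∈ (P : Subgroup G)) (hxz : x * z = z * x) : x ∈ zpowers s := by
  have hsm : s ∈ centralizer ({z} : Set G) ⊓ centralizer ({s} : Set G) :=
    mem_inf.2 ⟨hs, mem_centralizer_singleton_iff.2 rfl⟩
  set L := centralizer ({z} : Set G) ⊓ centralizer ({s} : Set G) with hL
  have hLc : Nat.card ↥L = 10 := S.five_cent_C hs hs5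
  have hidx : ((zpowers s).subgroupOf L).index = 2 := by
    have h := ((zpowers s).subgroupOf L).card_mul_index
    rw [Nat.card_congr (Subgroup.subgroupOfEquivOfLe (zpowers_le.2 hsm)).toEquiv, Nat.card_zpowers, hs5, hLc] at h
    omega
  have hxL : x ∈ L := mem_inf.2 ⟨mem_centralizer_singleton_iff.2 hxz, S.le_cent_five P hsP hx⟩
  have hx5 : x ^ 5 = 1 := by
    have h25 := orderOf_dvd_natCard (⟨x, hx⟩ : ↥(P : Subgroup G))
    rw [S.card_sylow_five P, Subgroup.orderOf_mk] at h25
    have h10 := orderOf_dvd_natCard (⟨x, hxL⟩ : ↥L)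
    rw [hLc, Subgroup.orderOf_mk] at h10
    exact orderOf_dvd_iff_pow_eq_one.1 (by
      have := Nat.dvd_gcd h25 h10
      norm_num at this
      exact this)
  have h := mul_self_mem_of_index_two hidx ((⟨x, hxL⟩ : ↥L) ^ 3)
  rw [mem_subgroupOf, Subgroup.coe_mul, Subgroup.coe_pow, ← pow_add, pow_succ, hx5, one_mul] at h
  exact h

/-- An element of order five inverted by `z` and commuting with one centralised by `z` commutes with no
conjugate of `z`. -/
theorem not_stype {s f : G} (hs : s ∈ centralizer ({z} : Set G)) (hs5 : orderOf s = 5) (hf5 : orderOf f = 5)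
    (hsf : s * f = f * s) (hzf : z * f * z = f⁻¹) : ¬ SType z f := by
  classical
  intro hfS
  have := Fintype.ofFinite G
  have : Fact (Nat.Prime 5) := ⟨Nat.prime_five⟩
  obtain ⟨t, h, B, n, b, F⟩ := S.exists_frame
  have hsS : SType z s := ⟨hs5, z, IsConj.refl z, (S.comm_z hs).symm⟩
  obtain ⟨P, hsP⟩ := S.sylow_five_containing hs5
  set X := centralizer ({s} : Set G) with hX
  have hPX : (P : Subgroup G) ≤ X := S.le_cent_five P hsP
  have hXc : Nat.card ↥X = 50 := F.stype_card hsS
  have hidx : ((P : Subgroup G).subgroupOf X).index = 2 := by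
    have h' := ((P : Subgroup G).subgroupOf X).card_mul_index
    rw [Nat.card_congr (Subgroup.subgroupOfEquivOfLe hPX).toEquiv, S.card_sylow_five P, hXc] at h'
    omega
  have hf : f ^ 5 = 1 := hf5 ▸ pow_orderOf_eq_one f
  have hfP : f ∈ (P : Subgroup G) := by
    have h' := mul_self_mem_of_index_two hidx ((⟨f, mem_centralizer_singleton_iff.2 hsf.symm⟩ : ↥X) ^ 3)
    rwa [mem_subgroupOf, Subgroup.coe_mul, Subgroup.coe_pow, ← pow_add, pow_succ, hf, one_mul] at h'
  have hzN : z ∈ normalizer ((P : Subgroup G) : Set G) :=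
    F.stype_norm hsS P hsP (mem_centralizer_singleton_iff.2 (S.comm_z hs).symm)
  have hconjP : ∀ {x}, x ∈ (P : Subgroup G) → z * x * z ∈ (P : Subgroup G) := fun {x} hx => by
    have := (mem_normalizer_iff.1 hzN x).1 hx
    rwa [S.z_inv] at this
  have hs1 : s ≠ 1 := fun e => by rw [e, orderOf_one] at hs5; norm_num at hs5
  have hzz : ∀ x, z * (z * x * z) * z = x := fun x => by
    calc z * (z * x * z) * z = (z * z) * x * (z * z) := by group
      _ = x := by rw [S.zz, one_mul, mul_one]
  -- twelve elements of this kind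
  obtain ⟨P₀, -, -, h12, -⟩ := F.five_structure_count
  obtain ⟨c, hc⟩ := MulAction.exists_smul_eq G P P₀
  have hT : Nat.card {x : G // x ∈ (P : Subgroup G) ∧ SType z x} = 12 := by
    rw [← h12]
    refine Nat.card_congr ((MulAut.conj c).toEquiv.subtypeEquiv fun x => ?_)
    simp only [MulEquiv.toEquiv_eq_coe, MulEquiv.coe_toEquiv, MulAut.conj_apply]
    refine and_congr ?_ ⟨fun hx => stype_conj hx c, fun hx => ?_⟩
    · rw [← hc, Sylow.coe_subgroup_smul, Subgroup.mem_pointwise_smul_iff_inv_smul_mem]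
      simp [mul_assoc]
    · have := stype_conj hx c⁻¹
      rwa [inv_inv, show c⁻¹ * (c * x * c⁻¹) * c = x by group] at this
  let L : G → Finset G := fun a => (Finset.univ.filter fun x => x ∈ zpowers a).erase 1
  have hLc : ∀ a, orderOf a = 5 → (L a).card = 4 := fun a ha => by
    rw [Finset.card_erase_of_mem (by simp), ← Fintype.card_subtype, ← Nat.card_eq_fintype_card]
    change Nat.card ↥(zpowers a) - 1 = 4
    rw [Nat.card_zpowers, ha]
  let Tf := Finset.univ.filter fun x => x ∈ (P : Subgroup G) ∧ SType z x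
  have hLT : ∀ a, a ∈ (P : Subgroup G) → SType z a → L a ⊆ Tf := fun a haP ha x hx => by
    obtain ⟨hx1, hx'⟩ := Finset.mem_erase.1 hx
    have hxa := (Finset.mem_filter.1 hx').2
    exact Finset.mem_filter.2 ⟨Finset.mem_univ _, zpowers_le.2 haP hxa, stype_pow ha hxa hx1⟩
  have hLd : ∀ a c, orderOf a = 5 → orderOf c = 5 → c ∉ zpowers a → Disjoint (L a) (L c) := by
    intro a c ha hc hca
    rw [Finset.disjoint_left]
    intro x hx hx'
    simp only [L, Finset.mem_erase, Finset.mem_filter, Finset.mem_univ, true_and] at hx hx'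
    exact hca (zpowers_eq_of_mem ha hx.2 hx.1 ▸ (zpowers_eq_of_mem hc hx'.2 hx'.1).symm ▸ mem_zpowers c)
  have hfs : f ∉ zpowers s := by
    intro hm
    obtain ⟨i, rfl⟩ := Subgroup.mem_zpowers_iff.1 hm
    have hc : z * s ^ i = s ^ i * z := ((show Commute z s from (S.comm_z hs).symm).zpow_right i).eq
    rw [hc, mul_assoc, S.zz, mul_one] at hzf
    have h2 : (s ^ i) ^ 2 = 1 := by rw [pow_two]; nth_rewrite 1 [hzf]; rw [inv_mul_cancel]
    have := orderOf_dvd_of_pow_eq_one h2
    rw [hf5] at this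
    norm_num at this
  have hTc : Tf.card = 12 := by
    rw [← hT, Nat.card_eq_fintype_card, Fintype.card_subtype]
  obtain ⟨w, hwT, hws, hwf⟩ : ∃ w ∈ Tf, w ∉ zpowers s ∧ w ∉ zpowers f := by
    by_contra hcon
    push Not at hcon
    have hsub : Tf ⊆ L s ∪ L f := by
      intro x hx
      have hxS := (Finset.mem_filter.1 hx).2.2
      have hx1 : x ≠ 1 := fun e => by have := hxS.1; rw [e, orderOf_one] at this; norm_num at this
      refine Finset.mem_union.2 ?_
      by_cases hxs : x ∈ zpowers s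
      · exact Or.inl (Finset.mem_erase.2 ⟨hx1, Finset.mem_filter.2 ⟨Finset.mem_univ _, hxs⟩⟩)
      · exact Or.inr (Finset.mem_erase.2 ⟨hx1, Finset.mem_filter.2 ⟨Finset.mem_univ _, hcon x hx hxs⟩⟩)
    have := Finset.card_le_card hsub
    rw [hTc, Finset.card_union_of_disjoint (hLd s f hs5 hf5 hfs), hLc s hs5, hLc f hf5] at this
    omega
  obtain ⟨hwP, hwS⟩ := (Finset.mem_filter.1 hwT).2
  have hTeq : L s ∪ L f ∪ L w = Tf := by
    refine Finset.eq_of_subset_of_card_le
      (Finset.union_subset (Finset.union_subset (hLT s hsP hsS) (hLT f hfP hfS)) (hLT w hwP hwS)) ?_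
    rw [hTc, Finset.card_union_of_disjoint (Finset.disjoint_union_left.2
      ⟨hLd s w hs5 hwS.1 hws, hLd f w hf5 hwS.1 hwf⟩),
      Finset.card_union_of_disjoint (hLd s f hs5 hf5 hfs), hLc s hs5, hLc f hf5, hLc w hwS.1]
  set w' := z * w * z with hw'
  have hw'S : SType z w' := by
    have := stype_conj hwS z
    rwa [S.z_inv] at this
  have hw'm : w' ∈ L s ∪ L f ∪ L w := by
    rw [hTeq]; exact Finset.mem_filter.2 ⟨Finset.mem_univ _, hconjP hwP, hw'S⟩
  simp only [L, Finset.mem_union, Finset.mem_erase, Finset.mem_filter, Finset.mem_univ, true_and] at hw'm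
  have hinvf : ∀ x ∈ zpowers f, z * x * z = x⁻¹ := by
    intro x hx
    obtain ⟨i, rfl⟩ := Subgroup.mem_zpowers_iff.1 hx
    have : z * f ^ i * z⁻¹ = (z * f * z⁻¹) ^ i := (conj_zpow).symm
    rw [S.z_inv, hzf, inv_zpow] at this
    exact this
  rcases hw'm with (⟨-, hm⟩ | ⟨-, hm⟩) | ⟨-, hm⟩
  · refine hws ?_
    obtain ⟨i, hi⟩ := Subgroup.mem_zpowers_iff.1 hm
    have hc : z * s ^ i = s ^ i * z := ((show Commute z s from (S.comm_z hs).symm).zpow_right i).eq
    rw [← hzz w, ← hw', ← hi, hc, mul_assoc, S.zz, mul_one]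
    exact zpow_mem (mem_zpowers s) i
  · refine hwf ?_
    rw [← hzz w, ← hw', hinvf _ hm]
    exact inv_mem hm
  · have hcomm : w * w' = w' * w := S.comm_sylow_five P hwP (hconjP hwP)
    have hu : w * w' ∈ zpowers s := S.fixed_in_sylow hs hs5 hsP (mul_mem hwP (hconjP hwP)) (by
      have e : z * (w * w') * z = w * w' := by
        calc z * (w * w') * z = (z * w * z) * (z * w' * z) := by
              rw [show z * w * z * (z * w' * z) = z * w * (z * z) * w' * z by group, S.zz]; group
          _ = w * w' := by rw [hw', hzz, ← hw', ← hcomm]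
      calc w * w' * z = z * (z * (w * w') * z) := by
            rw [show z * (z * (w * w') * z) = (z * z) * (w * w') * z by group, S.zz, one_mul]
        _ = z * (w * w') := by rw [e])
    have hu1 : w * w' = 1 := by
      by_contra hne
      refine hws ?_
      have hmem : w * w' ∈ zpowers w := mul_mem (mem_zpowers w) hm
      rw [← zpowers_eq_of_mem hs5 hu hne, zpowers_eq_of_mem hwS.1 hmem hne]
      exact mem_zpowers w
    have hwinv : w' = w⁻¹ := eq_inv_of_mul_eq_one_right hu1
    -- the inverted elements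
    let I : Subgroup G :=
      { carrier := {x | x ∈ (P : Subgroup G) ∧ z * x * z = x⁻¹}
        one_mem' := ⟨one_mem _, by rw [mul_one, S.zz, inv_one]⟩
        mul_mem' := fun {a c} ha hc => ⟨mul_mem ha.1 hc.1, by
          rw [show z * (a * c) * z = z * a * z * (z * c * z) by
            rw [show z * a * z * (z * c * z) = z * a * (z * z) * c * z by group, S.zz]; group,
            ha.2, hc.2, mul_inv_rev]
          exact S.comm_sylow_five P (inv_mem ha.1) (inv_mem hc.1)⟩
        inv_mem' := fun {a} ha => ⟨inv_mem ha.1, by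
          rw [show z * a⁻¹ * z = (z⁻¹ * a * z⁻¹)⁻¹ by group, S.z_inv, ha.2]⟩ }
    have hIP : I ≤ (P : Subgroup G) := fun x hx => hx.1
    have hfI : f ∈ I := ⟨hfP, hzf⟩
    have hwI : w ∈ I := ⟨hwP, hwinv⟩
    have hd := Subgroup.card_dvd_of_le hIP
    rw [S.card_sylow_five P, show (25 : ℕ) = 5 ^ 2 from rfl, Nat.dvd_prime_pow Nat.prime_five] at hd
    obtain ⟨k, hk, hIc⟩ := hd
    by_cases hk2 : k = 2
    · have hIeq : I = (P : Subgroup G) :=
        Subgroup.eq_of_le_of_card_ge hIP (by rw [S.card_sylow_five P, hIc, hk2]; norm_num)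
      have hsI : s ∈ I := hIeq ▸ hsP
      have h2 : s ^ 2 = 1 := by
        have hc := hsI.2
        rw [← S.comm_z hs, mul_assoc, S.zz, mul_one] at hc
        rw [pow_two]; nth_rewrite 1 [hc]; rw [inv_mul_cancel]
      have := orderOf_dvd_of_pow_eq_one h2
      rw [hs5] at this
      norm_num at this
    · have h5 : zpowers f = I := by
        refine Subgroup.eq_of_le_of_card_ge (zpowers_le.2 hfI) ?_
        rw [Nat.card_zpowers, hf5, hIc]
        simpa using Nat.pow_le_pow_right (show 0 < 5 by norm_num) (show k ≤ 1 by omega)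
      exact hwf (h5 ▸ hwI)

/-- The common centraliser with `z` of an element of order five inverted by it. -/
theorem pair_centralizer {s f : G} (hs : s ∈ centralizer ({z} : Set G)) (hs5 : orderOf s = 5) (hf5 : orderOf f = 5)
    (hsf : s * f = f * s) (hzf : z * f * z = f⁻¹) :
    Nat.card ↥(centralizer ({z} : Set G) ⊓ centralizer ({f} : Set G)) = 60 ∧
      IsSimpleGroup ↥(centralizer ({z} : Set G) ⊓ centralizer ({f} : Set G)) := by
  classical
  have : Fact (Nat.Prime 5) := ⟨Nat.prime_five⟩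
  obtain ⟨t, h, B, n, b, F⟩ := S.exists_frame
  obtain ⟨g, hg⟩ := (F.five_kinds hf5).resolve_right (S.not_stype hs hs5 hf5 hsf hzf)
  set v := g * z * g⁻¹ with hv
  set u := g * s * g⁻¹ with hu
  set X := centralizer ({b} : Set G) with hX
  have hXf : centralizer ({g * f * g⁻¹} : Set G) = X := card_centralizer_zpowers hg
  have hv2 : v * v = 1 := by
    rw [hv, show g * z * g⁻¹ * (g * z * g⁻¹) = g * (z * z) * g⁻¹ by group, S.zz]; group
  have hvinv : v⁻¹ = v := inv_eq_of_mul_eq_one_right hv2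
  have hvu : v * u = u * v := (cent_conj g s z).2 (S.comm_z hs).symm
  have hbv : v * b * v = b⁻¹ := by
    have hb : b ∈ zpowers (g * f * g⁻¹) := hg ▸ mem_zpowers b
    obtain ⟨i, hi⟩ := Subgroup.mem_zpowers_iff.1 hb
    have e : v * (g * f * g⁻¹) * v⁻¹ = (g * f * g⁻¹)⁻¹ := by
      rw [hvinv, hv, show g * z * g⁻¹ * (g * f * g⁻¹) * (g * z * g⁻¹) = g * (z * f * z) * g⁻¹ by group, hzf]
      group
    have h' := congrArg (fun y => y ^ i) e
    rw [conj_zpow, inv_zpow, hi, hvinv] at h'
    exact h'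
  have hbX : b ∈ X := mem_centralizer_singleton_iff.2 rfl
  have huX : u ∈ X := by
    rw [← hXf, mem_centralizer_singleton_iff]
    exact (cent_conj g f s).2 hsf
  have hub : u ∉ zpowers b := by
    intro hm
    obtain ⟨i, hi⟩ := Subgroup.mem_zpowers_iff.1 hm
    have h2 : u ^ 2 = 1 := by
      have e : v * b ^ i * v⁻¹ = (v * b * v⁻¹) ^ i := (conj_zpow).symm
      rw [hvinv, hbv, inv_zpow, hi, hvu, mul_assoc, hv2, mul_one] at e
      rw [pow_two]; nth_rewrite 1 [e]; rw [inv_mul_cancel]
    have := orderOf_dvd_of_pow_eq_one h2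
    rw [hu, orderOf_conj, hs5] at this
    norm_num at this
  -- conjugation by `v`
  have hvX : ∀ x : ↥X, v * (x : G) * v ∈ X := fun x => by
    have hx := mem_centralizer_singleton_iff.1 x.2
    refine mem_centralizer_singleton_iff.2 ?_
    have e : v * (x : G) * v * b⁻¹ = b⁻¹ * (v * x * v) := by
      rw [← hbv, show v * (x : G) * v * (v * b * v) = v * x * (v * v) * b * v by group, hv2, mul_one,
        show v * (x : G) * b * v = v * (x * b) * v by group, hx,
        show v * b * v * (v * x * v) = v * b * (v * v) * x * v by group, hv2, mul_one]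
      group
    exact Commute.inv_right_iff.1 e
  let τ : ↥X →* ↥X := MonoidHom.mk' (fun x => ⟨v * x * v, hvX x⟩) fun a c => Subtype.ext (by
    show v * ((a : G) * c) * v = v * a * v * (v * c * v)
    rw [show v * (a : G) * v * (v * c * v) = v * a * (v * v) * c * v by group, hv2]; group)
  have := F.Yb.zy_normal
  set Z := (zpowers b).subgroupOf X with hZ
  have hZc : Nat.card Z = 5 := by
    rw [Nat.card_congr (Subgroup.subgroupOfEquivOfLe (zpowers_le.2 hbX)).toEquiv, Nat.card_zpowers, F.Yb.hord]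
  have hXc : Nat.card ↥X = 300 := F.b_card
  have hA : Nat.card (↥X ⧸ Z) = 60 := by
    have h' := Subgroup.card_eq_card_quotient_mul_card_subgroup Z
    rw [hXc, hZc] at h'
    omega
  have hnorm : ∀ N : Subgroup (↥X ⧸ Z), N.Normal → N = ⊥ ∨ N = ⊤ := by
    intro N hN
    rcases F.Yb.card_cases with e | ⟨-, hall⟩
    · have := hXc.symm.trans e; norm_num at this
    have hle : Z ≤ N.comap (QuotientGroup.mk' Z) := fun x hx => by
      rw [mem_comap, QuotientGroup.mk'_apply, (QuotientGroup.eq_one_iff x).2 hx]; exact one_mem N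
    rcases hall _ (hN.comap _) hle with e | e
    · left
      rw [← map_comap_eq_self_of_surjective (QuotientGroup.mk'_surjective Z) N,
        ← Subgroup.eq_of_le_of_card_ge hle (by rw [e, hZc]), QuotientGroup.map_mk'_self]
    · right
      rw [← map_comap_eq_self_of_surjective (QuotientGroup.mk'_surjective Z) N,
        Subgroup.eq_top_of_card_eq (N.comap (QuotientGroup.mk' Z)) (by rw [e]; exact hXc.symm),
        map_top_of_surjective _ (QuotientGroup.mk'_surjective Z)]
  have hτZ : Z ≤ Z.comap τ := fun x hx => by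
    obtain ⟨i, hi⟩ := Subgroup.mem_zpowers_iff.1 hx
    refine Subgroup.mem_zpowers_iff.2 ⟨-i, ?_⟩
    show b ^ (-i) = v * x * v
    have e : v * b ^ i * v⁻¹ = (v * b * v⁻¹) ^ i := (conj_zpow).symm
    rw [hvinv, hbv] at e
    rw [show ((x : G)) = b ^ i from hi.symm, e, inv_zpow']
  let τ' := QuotientGroup.map Z Z τ hτZ
  have hττ : ∀ y, τ' (τ' y) = y := by
    intro y
    obtain ⟨x, rfl⟩ := QuotientGroup.mk'_surjective Z y
    refine congrArg (QuotientGroup.mk' Z) (Subtype.ext ?_)
    show v * (v * x * v) * v = x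
    rw [show v * (v * (x : G) * v) * v = v * v * x * (v * v) by group, hv2, one_mul, mul_one]
  have hu5 : orderOf (QuotientGroup.mk' Z ⟨u, huX⟩) = 5 := by
    refine orderOf_eq_prime ?_ fun e => hub ((QuotientGroup.eq_one_iff (N := Z) ⟨u, huX⟩).1 e)
    rw [← map_pow, show (⟨u, huX⟩ : ↥X) ^ 5 = 1 from Subtype.ext (by
      show u ^ 5 = 1
      rw [← (orderOf_conj g s).trans hs5]; exact pow_orderOf_eq_one u), map_one]
  have hfixq := involutive_fix_five hA hnorm τ' hττ hu5 (congrArg (QuotientGroup.mk' Z) (Subtype.ext (by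
    show v * u * v = u
    rw [hvu, mul_assoc, hv2, mul_one])))
  have hb5 : b ^ 5 = 1 := F.Yb.hord ▸ pow_orderOf_eq_one b
  -- the fixed points
  set K := centralizer ({v} : Set G) ⊓ X with hK
  let π : ↥K →* ↥X ⧸ Z := (QuotientGroup.mk' Z).comp (Subgroup.inclusion inf_le_right)
  have hπ : Function.Bijective π := by
    constructor
    · rw [← MonoidHom.ker_eq_bot_iff, Subgroup.eq_bot_iff_forall]
      intro x hx
      obtain ⟨i, hi⟩ := Subgroup.mem_zpowers_iff.1
        ((QuotientGroup.eq_one_iff (N := Z) (Subgroup.inclusion inf_le_right x)).1 hx)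
      have hx' : b ^ i = (x : G) := hi
      have e : v * b ^ i * v⁻¹ = (v * b * v⁻¹) ^ i := (conj_zpow).symm
      rw [hvinv, hbv, inv_zpow, hx', (mem_centralizer_singleton_iff.1 x.2.1).symm, mul_assoc, hv2, mul_one] at e
      refine Subtype.ext ?_
      show (x : G) = 1
      have h2 : (x : G) ^ 2 = 1 := by rw [pow_two]; nth_rewrite 1 [e]; rw [inv_mul_cancel]
      have h5 : (x : G) ^ 5 = 1 := by
        rw [← hx', ← zpow_natCast, ← zpow_mul, mul_comm, zpow_mul, zpow_natCast, hb5, one_zpow]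
      rw [← orderOf_eq_one_iff]
      exact Nat.dvd_one.1 (Nat.dvd_gcd (orderOf_dvd_of_pow_eq_one h2) (orderOf_dvd_of_pow_eq_one h5))
    · intro y
      obtain ⟨x, rfl⟩ := QuotientGroup.mk'_surjective Z y
      have hm : x⁻¹ * τ x ∈ Z := QuotientGroup.eq.1 (hfixq (QuotientGroup.mk' Z x)).symm
      obtain ⟨i, hi⟩ := Subgroup.mem_zpowers_iff.1 hm
      have hxi : v * (x : G) * v = x * b ^ i := by
        have : b ^ i = (x : G)⁻¹ * (v * x * v) := hi
        rw [this, mul_inv_cancel_left]
      -- halve the exponent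
      set j := 3 * i with hj
      have hfix : v * ((x : G) * b ^ j) * v = x * b ^ j := by
        have e : v * b ^ j * v⁻¹ = (v * b * v⁻¹) ^ j := (conj_zpow).symm
        rw [hvinv, hbv, inv_zpow'] at e
        calc v * ((x : G) * b ^ j) * v = v * x * v * (v * b ^ j * v) := by
              rw [show v * (x : G) * v * (v * b ^ j * v) = v * x * (v * v) * b ^ j * v by group, hv2]; group
          _ = x * (b ^ i * b ^ (-j)) := by rw [hxi, e, mul_assoc]
          _ = x * b ^ j := by
              rw [← zpow_add]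
              congr 1
              have h5 : b ^ (5 * i) = 1 := by
                rw [zpow_mul, show (5 : ℤ) = ((5 : ℕ) : ℤ) from rfl, zpow_natCast, hb5, one_zpow]
              calc b ^ (i + -j) = b ^ (i + -j) * b ^ (5 * i) := by rw [h5, mul_one]
                _ = b ^ j := by rw [← zpow_add]; congr 1; rw [hj]; ring
      have hxbX : (x : G) * b ^ j ∈ X := mul_mem x.2 (zpow_mem hbX j)
      refine ⟨⟨(x : G) * b ^ j, mem_centralizer_singleton_iff.2 ?_, hxbX⟩, ?_⟩
      · conv_lhs => rw [← hfix, mul_assoc _ v v, hv2, mul_one]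
      · refine QuotientGroup.eq.2 (Subgroup.mem_zpowers_iff.2 ⟨-j, ?_⟩)
        show b ^ (-j) = ((x : G) * b ^ j)⁻¹ * x
        group
  have hsimp : IsSimpleGroup (↥X ⧸ Z) := by
    have : Nontrivial (↥X ⧸ Z) := Finite.one_lt_card_iff_nontrivial.1 (by omega)
    exact ⟨hnorm⟩
  have : IsSimpleGroup ↥K := (MulEquiv.ofBijective π hπ).isSimpleGroup
  have hKc : Nat.card ↥K = 60 := (Nat.card_congr (Equiv.ofBijective π hπ)).trans hA
  have hmap : (centralizer ({z} : Set G) ⊓ centralizer ({f} : Set G)).map (MulAut.conj g).toMonoidHom = K := by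
    rw [Subgroup.map_inf _ _ _ (MulAut.conj g).injective, hK, ← hXf]
    rw [map_conj_centralizer, map_conj_centralizer]
  let eK := ((centralizer ({z} : Set G) ⊓ centralizer ({f} : Set G)).equivMapOfInjective
    (MulAut.conj g).toMonoidHom (MulAut.conj g).injective).trans (MulEquiv.subgroupCongr hmap)
  exact ⟨(Nat.card_congr eK.toEquiv).trans hKc, eK.isSimpleGroup⟩

/-- A subgroup containing `C(z)` and such an element is everything. -/
theorem eq_top_of_inverted {K : Subgroup G} (hC : centralizer ({z} : Set G) ≤ K) {f : G} (hf : f ∈ K)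
    (hf5 : orderOf f = 5) (hzf : z * f * z = f⁻¹) : K = ⊤ := by
  classical
  have : Fact (Nat.Prime 5) := ⟨Nat.prime_five⟩
  have : Fact (Nat.Prime 2) := ⟨Nat.prime_two⟩
  by_cases hmove : ∃ g ∈ K, g * z * g⁻¹ * z = z * (g * z * g⁻¹) ∧ g * z * g⁻¹ ≠ z
  · obtain ⟨g, hg, hgc, hgz⟩ := hmove
    refine S.eq_top_of_moved hC hg ⟨S.z_type_mem (mem_centralizer_singleton_iff.2 hgc) (isConj_iff.2 ⟨g, rfl⟩),
      ?_, fun e => S.z_ne (conj_eq_one_iff.1 e), hgz⟩
    rw [show g * z * g⁻¹ * (g * z * g⁻¹) = g * (z * z) * g⁻¹ by group, S.zz]; group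
  exfalso
  push Not at hmove
  have hzK : z ∈ K := hC S.zC
  have hiso : Cfsg.IsIsolatedInvolution (⟨z, hzK⟩ : ↥K) := by
    refine ⟨by rw [Subgroup.orderOf_mk]; exact S.hz, fun g hg => Subtype.ext ?_⟩
    exact hmove g g.2 (congrArg Subtype.val hg.eq.symm)
  have hzs := CfsgLib.Involutions.zstar ↥K _ hiso
  set O := (Cfsg.pPrimeCore 2 ↥K).map K.subtype with hO
  have hOn : ∀ {c x}, c ∈ K → x ∈ O → c * x * c⁻¹ ∈ O := by
    rintro c x hc ⟨y, hy, rfl⟩
    have hn : (Cfsg.pPrimeCore 2 ↥K).Normal := inferInstance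
    exact ⟨⟨c, hc⟩ * y * ⟨c, hc⟩⁻¹, hn.conj_mem y hy _, rfl⟩
  have hOK : O ≤ K := map_subtype_le _
  have hOdd : ¬ 2 ∣ Nat.card O := by
    rw [hO, Subgroup.card_subtype]
    exact CfsgLib.PCore.not_dvd_card_pPrimeCore
  have hf5' : f ^ 5 = 1 := hf5 ▸ pow_orderOf_eq_one f
  have hfO : f ∈ O := by
    have h := hzs ⟨f, hf⟩
    have h2 : f * f ∈ O := by
      refine ⟨_, h, ?_⟩
      show f * z * f⁻¹ * z⁻¹ = f * f
      rw [S.z_inv, mul_assoc f z, mul_assoc f (z * f⁻¹) z, ← hzf,
        show z * (z * f * z) * z = (z * z) * f * (z * z) by group, S.zz, one_mul, mul_one]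
    have := pow_mem h2 3
    rwa [← pow_two, ← pow_mul, show 2 * 3 = 5 + 1 from rfl, pow_succ, hf5', one_mul] at this
  have hfree : ∀ x ∈ O, x * z = z * x → x = 1 := by
    intro x hx hxz
    have hxQ : x ∈ Q := by
      refine S.self x (mem_centralizer_singleton_iff.2 hxz) fun q hq => ?_
      have hqK : q ∈ K := hC (S.hQC hq)
      have h1 : q * x * q⁻¹ * x⁻¹ ∈ O := mul_mem (hOn hqK hx) (inv_mem hx)
      have h2 : q * x * q⁻¹ * x⁻¹ ∈ Q := by
        rw [show q * x * q⁻¹ * x⁻¹ = q * (x * q⁻¹ * x⁻¹) by group]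
        exact mul_mem hq (S.norm x (mem_centralizer_singleton_iff.2 hxz) _ (inv_mem hq))
      set w := q * x * q⁻¹ * x⁻¹
      have hw : w = 1 := by
        rw [← orderOf_eq_one_iff]
        have d1 := orderOf_dvd_natCard (⟨w, h1⟩ : ↥O)
        have d2 := orderOf_dvd_natCard (⟨w, h2⟩ : ↥Q)
        rw [Subgroup.orderOf_mk] at d1 d2
        rw [S.card, show (32 : ℕ) = 2 ^ 5 from rfl, Nat.dvd_prime_pow Nat.prime_two] at d2
        obtain ⟨k, -, hk⟩ := d2
        rw [hk] at d1 ⊢
        rcases k with _ | k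
        · rfl
        · exact absurd (dvd_trans (dvd_pow_self 2 (Nat.succ_ne_zero k)) d1) hOdd
      exact mul_inv_eq_iff_eq_mul.1 (mul_inv_eq_one.1 hw)
    rw [← orderOf_eq_one_iff]
    have d1 := orderOf_dvd_natCard (⟨x, hx⟩ : ↥O)
    have d2 := orderOf_dvd_natCard (⟨x, hxQ⟩ : ↥Q)
    rw [Subgroup.orderOf_mk] at d1 d2
    rw [S.card, show (32 : ℕ) = 2 ^ 5 from rfl, Nat.dvd_prime_pow Nat.prime_two] at d2
    obtain ⟨k, -, hk⟩ := d2
    rw [hk] at d1 ⊢
    rcases k with _ | k
    · rfl
    · exact absurd (dvd_trans (dvd_pow_self 2 (Nat.succ_ne_zero k)) d1) hOdd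
  -- the core is abelian
  let τ : ↥O →* ↥O := MonoidHom.mk' (fun x => ⟨z * x * z⁻¹, hOn hzK x.2⟩) fun a c => Subtype.ext (by
    show z * ((a : G) * c) * z⁻¹ = z * a * z⁻¹ * (z * c * z⁻¹); group)
  have hcomm : ∀ a c : ↥O, Commute a c := by
    refine MonoidHom.FixedPointFree.commute_all_of_involutive (φ := τ) (fun x hx => Subtype.ext (hfree x x.2 ?_))
      (fun x => Subtype.ext ?_)
    · exact (mul_inv_eq_iff_eq_mul.1 (congrArg Subtype.val hx : z * (x : G) * z⁻¹ = x)).symm
    · show z * (z * (x : G) * z⁻¹) * z⁻¹ = x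
      rw [show z * (z * (x : G) * z⁻¹) * z⁻¹ = (z * z) * x * (z * z)⁻¹ by group, S.zz]; group
  let Y : Subgroup G :=
    { carrier := {x | x ∈ O ∧ x ^ 5 = 1}
      one_mem' := ⟨one_mem _, one_pow _⟩
      mul_mem' := fun {a c} ha hc => ⟨mul_mem ha.1 hc.1, by
        have h : Commute a c := congrArg Subtype.val (hcomm ⟨a, ha.1⟩ ⟨c, hc.1⟩).eq
        rw [h.mul_pow, ha.2, hc.2, one_mul]⟩
      inv_mem' := fun {a} ha => ⟨inv_mem ha.1, by rw [inv_pow, ha.2, inv_one]⟩ }
  have hCY : ∀ c ∈ centralizer ({z} : Set G), ∀ x ∈ Y, c * x * c⁻¹ ∈ Y := fun c hc x hx =>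
    ⟨hOn (hC hc) hx.1, by rw [conj_pow, hx.2]; group⟩
  have hYp : IsPGroup 5 Y := fun x => ⟨1, Subtype.ext (by rw [pow_one]; exact x.2.2)⟩
  obtain ⟨P, hP⟩ := hYp.exists_le_sylow
  have hd := Subgroup.card_dvd_of_le hP
  rw [S.card_sylow_five P, show (25 : ℕ) = 5 ^ 2 from rfl, Nat.dvd_prime_pow Nat.prime_five] at hd
  obtain ⟨k, hk, hYc⟩ := hd
  by_cases hk2 : k = 2
  · have hYP : Y = (P : Subgroup G) :=
      Subgroup.eq_of_le_of_card_ge hP (by rw [S.card_sylow_five P, hYc, hk2]; norm_num)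
    have hle : centralizer ({z} : Set G) ≤ normalizer ((P : Subgroup G) : Set G) := by
      intro c hc
      rw [← hYP, mem_normalizer_iff]
      refine fun x => ⟨hCY c hc x, fun hx => ?_⟩
      have := hCY c⁻¹ (inv_mem hc) _ hx
      rwa [inv_inv, show c⁻¹ * (c * x * c⁻¹) * c = x by group] at this
    have := Subgroup.card_le_of_le hle
    rw [S.card_C, (S.sylow_five P).2.2.1] at this
    omega
  · have hYf : zpowers f = Y := by
      refine Subgroup.eq_of_le_of_card_ge (zpowers_le.2 ⟨hfO, hf5'⟩) ?_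
      rw [Nat.card_zpowers, hf5, hYc]
      simpa using Nat.pow_le_pow_right (show 0 < 5 by norm_num) (show k ≤ 1 by omega)
    -- the action on a cyclic group is abelian
    have hpow : ∀ c ∈ centralizer ({z} : Set G), ∃ i : ℤ, f ^ i = c * f * c⁻¹ := fun c hc => by
      have := hCY c hc f ⟨hfO, hf5'⟩
      rw [← hYf] at this
      exact Subgroup.mem_zpowers_iff.1 this
    obtain ⟨a, ha, c, hc, hac⟩ : ∃ a ∈ Q, ∃ c ∈ Q, c * a ≠ a * c := by
      by_contra hcon
      push Not at hcon
      have hone : ∀ x ∈ Q, x = 1 ∨ x = z := fun x hx => S.cen x hx fun y hy => hcon x hx y hy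
      have : Nat.card Q ≤ 2 := by
        have hsub : Q ≤ zpowers z := fun x hx => by
          rcases hone x hx with e | e <;> rw [e]
          exacts [one_mem _, mem_zpowers z]
        have := Subgroup.card_le_of_le hsub
        rwa [Nat.card_zpowers, S.hz] at this
      rw [S.card] at this
      omega
    have hzac : c * a = z * (a * c) := (S.com a ha c hc).resolve_left hac
    obtain ⟨i, hi⟩ := hpow a (S.hQC ha)
    obtain ⟨j, hj⟩ := hpow c (S.hQC hc)
    have e1 : ∀ (c : G) (k : ℤ), c * f ^ k * c⁻¹ = (c * f * c⁻¹) ^ k := fun c k => (conj_zpow).symm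
    have hzfix : z * f * z⁻¹ = f := by
      have h1 : c * a * f * (c * a)⁻¹ = f ^ (i * j) := by
        rw [show c * a * f * (c * a)⁻¹ = c * (a * f * a⁻¹) * c⁻¹ by group, ← hi, e1, ← hj, ← zpow_mul, mul_comm]
      have h2 : a * c * f * (a * c)⁻¹ = f ^ (i * j) := by
        rw [show a * c * f * (a * c)⁻¹ = a * (c * f * c⁻¹) * a⁻¹ by group, ← hj, e1, ← hi, ← zpow_mul]
      have h12 := h1.trans h2.symm
      rw [hzac] at h12
      have hzc : Commute z (a * c) := (S.comm_z (S.hQC (mul_mem ha hc))).symm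
      have h3 : a * c * (z * f * z⁻¹) * (a * c)⁻¹ = a * c * f * (a * c)⁻¹ := by
        calc a * c * (z * f * z⁻¹) * (a * c)⁻¹ = (a * c * z) * f * (a * c * z)⁻¹ := by group
          _ = z * (a * c) * f * (z * (a * c))⁻¹ := by rw [hzc.eq]
          _ = a * c * f * (a * c)⁻¹ := h12
      exact mul_left_cancel (mul_right_cancel h3)
    rw [S.z_inv, hzf] at hzfix
    have h2 : f ^ 2 = 1 := by rw [pow_two]; nth_rewrite 1 [← hzfix]; rw [inv_mul_cancel]
    have := orderOf_dvd_of_pow_eq_one h2
    rw [hf5] at this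
    norm_num at this

end Setting

end CfsgLib.HJType
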