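import Cfsg.Agent.Lib.HJType.UniqueTable
import Cfsg.Agent.Lib.Icosian.Centralizer
import Cfsg.Agent.Lib.Involutions.BrauerSuzuki

/-!
The Hall-Janko group is the group of Hall-Janko type: simple groups with the centraliser of an
involution of this shape and two classes of involutions have a moved `z`, and the group on a hundred
points is one of them.
-/

set_option autoImplicit false
set_option linter.unusedSectionVars false

namespace CfsgLib.HJType

open Subgroup

universe u

variable {G : Type u} [Group G] [Finite G] {z : G} {Q : Subgroup G}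

/-- An involution of a simple group with such a centraliser has another conjugate commuting with it. -/
theorem Hyp.exists_conj_commute [IsSimpleGroup G] (H : Hyp z Q) :
    ∃ g : G, g * z * g⁻¹ * z = z * (g * z * g⁻¹) ∧ g * z * g⁻¹ ≠ z := by
  by_contra hcon
  push Not at hcon
  have hiso : Cfsg.IsIsolatedInvolution z := ⟨H.hz, fun g hg => hcon g hg.eq.symm⟩
  have hz := CfsgLib.Involutions.zstar G z hiso
  have hn : (Cfsg.pPrimeCore 2 G).Normal := inferInstance
  rcases IsSimpleGroup.eq_bot_or_eq_top_of_normal _ hn with e | e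
  · have hc : z ∈ Subgroup.center G := mem_center_iff.2 fun g => by
      have h := hz g
      rw [e, mem_bot, mul_inv_eq_one, mul_inv_eq_iff_eq_mul] at h
      exact h
    have hn' : (zpowers z).Normal := ⟨fun x hx g => by
      have hxc : x ∈ Subgroup.center G := zpowers_le.2 hc hx
      rwa [mem_center_iff.1 hxc g, mul_inv_cancel_right]⟩
    rcases IsSimpleGroup.eq_bot_or_eq_top_of_normal _ hn' with e' | e'
    · exact H.z_ne (mem_bot.1 (e' ▸ mem_zpowers z))
    · have h1 : Nat.card (centralizer ({z} : Set G)) ≤ Nat.card G := Subgroup.card_le_card_group _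
      rw [H.card_C, ← Subgroup.card_top, ← e', Nat.card_zpowers, H.hz] at h1
      omega
  · have h := CfsgLib.PCore.not_dvd_card_pPrimeCore (p := 2) (G := G)
    rw [e, Subgroup.card_top] at h
    exact h (H.hz ▸ orderOf_dvd_natCard z)

/-- In a simple group some conjugate of `z` is a non-central involution of `Q`. -/
theorem Hyp.moved [IsSimpleGroup G] (H : Hyp z Q) : ∃ g, Sing z Q (g * z * g⁻¹) := by
  obtain ⟨g, hgc, hgz⟩ := H.exists_conj_commute
  set y := g * z * g⁻¹ with hy
  have hy1 : ∀ k : G, k * z * k⁻¹ ≠ 1 := fun k e => H.z_ne (conj_eq_one_iff.1 e)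
  have hinv : ∀ k x : G, x * x = 1 → k * x * k⁻¹ * (k * x * k⁻¹) = 1 := fun k x hx => by
    rw [show k * x * k⁻¹ * (k * x * k⁻¹) = k * (x * x) * k⁻¹ by group, hx]; group
  by_contra hcon
  push Not at hcon
  have hno : ∀ k, k * z * k⁻¹ ∈ Q → k * z * k⁻¹ = z := fun k hk => by
    by_contra h
    exact hcon k ⟨hk, hinv k z H.zz, hy1 k, h⟩
  have hyC : y ∈ centralizer ({z} : Set G) := mem_centralizer_singleton_iff.2 hgc
  have hyO : Outer z Q y := ⟨hyC, hinv g z H.zz, fun h => hgz (hno g h)⟩
  obtain ⟨-, u, hu, hut, -⟩ := H.eGroup_inf hyO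
  have hzu := H.sing_zmul hu
  -- the pull back of a non-central involution of `Q` stays inside `Q`
  have pull : ∀ w, Sing z Q w → w * y = y * w → g⁻¹ * w * g ∈ Q := by
    intro w hw hwy
    by_contra hnQ
    have hC : g⁻¹ * w * g ∈ centralizer ({z} : Set G) := mem_centralizer_singleton_iff.2 (by
      calc g⁻¹ * w * g * z = g⁻¹ * (w * y) * g := by rw [hy]; group
        _ = z * (g⁻¹ * w * g) := by rw [hwy, hy]; group)
    have hO : Outer z Q (g⁻¹ * w * g) := ⟨hC, by simpa using hinv g⁻¹ w hw.2.1, hnQ⟩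
    obtain ⟨c, -, hc⟩ := H.outer_trans hyO hO
    have e : g * c * g * z * (g * c * g)⁻¹ = w := by
      calc g * c * g * z * (g * c * g)⁻¹ = g * (c * y * c⁻¹) * g⁻¹ := by rw [hy]; group
        _ = w := by rw [hc]; group
    exact hw.2.2.2 (e ▸ hno (g * c * g) (e ▸ hw.1))
  have h1 := pull u hu hut
  have h2 := pull (z * u) hzu (by
    calc z * u * y = z * (u * y) := by group
      _ = z * y * u := by rw [hut]; group
      _ = y * (z * u) := by rw [← H.comm_z hyC]; group)
  have h3 : g⁻¹ * z * g ∈ Q := by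
    have := mul_mem h2 (inv_mem h1)
    rwa [show g⁻¹ * (z * u) * g * (g⁻¹ * u * g)⁻¹ = g⁻¹ * z * g by group] at this
  have h4 := hno g⁻¹ (by rwa [inv_inv])
  rw [inv_inv] at h4
  refine hgz ?_
  calc y = g * (g⁻¹ * z * g) * g⁻¹ := by rw [h4]
    _ = z := by group

/-- The setting in a simple group. -/
theorem exists_setting_simple [IsSimpleGroup G] (z : G) (hz : orderOf z = 2)
    (Q₀ : Subgroup (centralizer ({z} : Set G))) [Q₀.Normal]
    (hself : centralizer (Q₀ : Set (centralizer ({z} : Set G))) ≤ Q₀)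
    (hQ : Cfsg.IsExtraspecial 2 Q₀) (hcard : Nat.card Q₀ = 32)
    (e : (centralizer ({z} : Set G)) ⧸ Q₀ ≃* A5)
    (hcl : ∃ x y : G, orderOf x = 2 ∧ orderOf y = 2 ∧ ¬ IsConj x y) :
    Nonempty (Setting z (Q₀.map (centralizer ({z} : Set G)).subtype)) := by
  obtain ⟨H⟩ := exists_hyp z hz Q₀ hself hQ (by rw [hcard]; norm_num) e
  exact ⟨{ H with moved := H.moved, two := hcl }⟩

/-! ### The group on a hundred points -/

open CfsgLib.Icosian CfsgLib.Icosian.Cent CfsgLib.Sporadic CfsgLib.Sporadic.PermCode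

theorem outer_code : prodEq (mul (hc 0) (qc 8)) (mul (hc 0) (qc 8)) (qc 0) (qc 0) = true ∧
    prodEq (mul (hc 0) (qc 8)) (qc 0) (qc 0) (qc 0) = false ∧
    (List.range 315).all (fun i => !prodEq (mul (hc 0) (qc 8)) (qc 0) (tc i) (qc 0)) = true := by
  decide +kernel

theorem pair_in_q : ∀ i : Fin 5, ∃ k : Fin 32, (pa i).1 = qc k := by decide +kernel

/-- The second class. -/
noncomputable def outerInv : HallJanko.grp := ((hH 0 * qH 8 : H) : HallJanko.grp)

theorem emb_outerInv : emb (outerInv : Equiv.Perm HallJanko.Pt) = dec (mul (hc 0) (qc 8)) := by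
  rw [hmul, outerInv, Subgroup.coe_mul, Subgroup.coe_mul, map_mul, emb_qH]
  exact congrArg (· * dec (qc 8)) (emb_hP 0)

theorem emb_qzero : emb (1 : Equiv.Perm HallJanko.Pt) = dec (qc 0) := by
  rw [map_one, q_canon.2.2.2.1, HallJanko.hone]

theorem orderOf_outerInv : orderOf outerInv = 2 := by
  refine orderOf_eq_two.2 ⟨Subtype.ext ?_, fun e => ?_⟩
  · have h := prodEq_eq emb_outerInv emb_outerInv emb_qzero emb_qzero outer_code.1
    rwa [one_mul] at h
  · exact prodEq_ne emb_outerInv emb_qzero emb_qzero emb_qzero (by rw [outer_code.2.1]; rfl)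
      (by rw [e]; rfl)

theorem orderOf_t0 : orderOf t0 = 2 := by
  have h : emb (T 0 : Equiv.Perm HallJanko.Pt) = dec (qc 7) := by rw [emb_T, q_canon.2.2.2.2]; rfl
  refine orderOf_eq_two.2 ⟨Subtype.ext ?_, fun e => ?_⟩
  · show (t0 : Equiv.Perm HallJanko.Pt) * (t0 : Equiv.Perm HallJanko.Pt) = 1
    rw [t0_coe]
    exact hemb (by rw [map_mul, emb_T, tc_sq', map_one])
  · have h1 : qH 7 = 1 := by
      refine Cent.eq_of_emb ((emb_qH 7).trans (h.symm.trans ?_))
      rw [← t0_coe, e]
      rfl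
    exact absurd (qH_injective (h1.trans qH_zero.symm)) (by decide)

theorem outerInv_not_conj : ¬ IsConj t0 outerInv := by
  intro h
  obtain ⟨g, hg⟩ := isConj_iff.1 h
  have e : (outerInv : Equiv.Perm HallJanko.Pt) = T (psi g 0) := by
    rw [psi_spec, ← t0_coe, ← hg]; rfl
  have h' := List.all_eq_true.1 outer_code.2.2 (psi g 0 : ℕ) (List.mem_range.2 (psi g 0).2)
  exact prodEq_ne emb_outerInv emb_qzero (emb_T (psi g 0)) emb_qzero h' (by rw [e])

/-- The group on a hundred points is of Hall–Janko type. -/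
theorem exists_model_setting : ∃ (z : HallJanko.grp) (Q : Subgroup HallJanko.grp), Nonempty (Setting z Q) := by
  have hs : IsSimpleGroup Cfsg.Spor.J2 := isSimple_J2
  have : Nontrivial HallJanko.grp := toHJ.symm.toEquiv.nontrivial
  have : IsSimpleGroup HallJanko.grp :=
    IsSimpleGroup.isSimpleGroup_of_surjective toHJ.toMonoidHom toHJ.surjective
  let eC : H ≃* ↥(centralizer ({t0} : Set HallJanko.grp)) := MulEquiv.subgroupCongr card_facts.2
  set Q₀ := phi.ker.map eC.toMonoidHom with hQ₀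
  have hN : Q₀.Normal := (inferInstance : phi.ker.Normal).map _ eC.surjective
  have hf : Fact (Nat.Prime 2) := ⟨Nat.prime_two⟩
  let eQ : phi.ker ≃* Q₀ := eC.subgroupMap phi.ker
  have hcard : Nat.card Q₀ = 32 := by rw [← Nat.card_congr eQ.toEquiv, card_facts.1]
  have hQ : Cfsg.IsExtraspecial 2 Q₀ := CfsgLib.LargeExtra.isExtraspecial_of_equiv eQ extraspecial_ker
  have e : ↥(centralizer ({t0} : Set HallJanko.grp)) ⧸ Q₀ ≃* A5 :=
    ((QuotientGroup.congr phi.ker Q₀ eC rfl).symm.trans (QuotientGroup.quotientKerEquivRange phi)).trans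
      (MulEquiv.subgroupCongr range_phi)
  have hself : centralizer (Q₀ : Set ↥(centralizer ({t0} : Set HallJanko.grp))) ≤ Q₀ := by
    intro x hx
    refine ⟨eC.symm x, ?_, eC.apply_symm_apply x⟩
    set g := eC.symm x with hg
    have hcomm : ∀ k, g * qH k = qH k * g := fun k => by
      apply eC.injective
      rw [map_mul, map_mul, hg, eC.apply_symm_apply]
      exact (mem_centralizer_iff.1 hx _ ⟨qH k, qH_mem_ker k, rfl⟩).symm
    show g ∈ phi.ker
    rw [MonoidHom.mem_ker]
    refine Equiv.ext fun i => obj_injective ?_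
    obtain ⟨k, hk⟩ := pair_in_q i
    have ha : pairPerm (pa i).1 = ((qH k : HallJanko.grp) : Equiv.Perm HallJanko.Pt) :=
      hemb (by rw [emb_pairPerm (pa_mem i).1, emb_qH, hk])
    have hfix : ((g : HallJanko.grp) : Equiv.Perm HallJanko.Pt) * pairPerm (pa i).1 *
        ((g : HallJanko.grp) : Equiv.Perm HallJanko.Pt)⁻¹ = pairPerm (pa i).1 := by
      rw [ha, mul_inv_eq_iff_eq_mul]
      exact congrArg (fun y : H => ((y : HallJanko.grp) : Equiv.Perm HallJanko.Pt)) (hcomm k)
    rw [phi_spec]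
    have key : ∀ j, obj (phi g i) = obj j →
        pairPerm (pa i).1 = pairPerm (pa j).1 ∨ pairPerm (pa i).1 = pairPerm (pa j).2 := by
      intro j hj
      rw [phi_spec] at hj
      change s(((g : HallJanko.grp) : Equiv.Perm HallJanko.Pt) * pairPerm (pa i).1 *
          ((g : HallJanko.grp) : Equiv.Perm HallJanko.Pt)⁻¹,
        ((g : HallJanko.grp) : Equiv.Perm HallJanko.Pt) * pairPerm (pa i).2 *
          ((g : HallJanko.grp) : Equiv.Perm HallJanko.Pt)⁻¹) =
        s(pairPerm (pa j).1, pairPerm (pa j).2) at hj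
      rw [hfix, Sym2.eq_iff] at hj
      exact hj.imp (fun h => h.1) fun h => h.1
    have hpa : ∀ i j : Fin 5, ((pa i).1 = (pa j).1 ∨ (pa i).1 = (pa j).2) → i = j := by decide +kernel
    have := hpa i (phi g i) ((key _ rfl).imp (pairPerm_inj (pa_mem i).1 (pa_mem _).1)
      (pairPerm_inj (pa_mem i).1 (pa_mem _).2))
    rw [← phi_spec, ← this]
    rfl
  exact ⟨t0, _, exists_setting_simple t0 orderOf_t0 Q₀ hself hQ hcard e
    ⟨t0, outerInv, orderOf_t0, orderOf_outerInv, outerInv_not_conj⟩⟩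

/-- A group of this type is the Hall–Janko group. -/
theorem Setting.isoJ2 (S : Setting z Q) : Cfsg.Spor.IsoJ2 G := by
  obtain ⟨z', Q', ⟨S'⟩⟩ := exists_model_setting
  obtain ⟨f⟩ := S.iso S'
  exact ⟨f.trans toHJ.symm⟩

end CfsgLib.HJType
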