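import Mathlib
import Cfsg.Agent.Lib.HJType.Quot
import Cfsg.Agent.Lib.HJOrder.Extra

/-!
An involution centraliser `C` of shape extraspecial of order 32 extended by `A₅`: the action on the
extraspecial group, singular points and fixed subgroups.
-/

set_option autoImplicit false
set_option linter.unusedSectionVars false

namespace CfsgLib.HJType

open Subgroup

variable {G : Type*} [Group G]

/-- The centraliser of `z` is `Q` extended by `A₅`, with `Q` self-centralising extraspecial of order 32. -/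
structure Hyp (z : G) (Q : Subgroup G) where
  hz : orderOf z = 2
  hQC : Q ≤ centralizer ({z} : Set G)
  norm : ∀ c ∈ centralizer ({z} : Set G), ∀ y ∈ Q, c * y * c⁻¹ ∈ Q
  card : Nat.card Q = 32
  hzQ : z ∈ Q
  sq : ∀ x ∈ Q, x * x = 1 ∨ x * x = z
  com : ∀ x ∈ Q, ∀ y ∈ Q, y * x = x * y ∨ y * x = z * (x * y)
  cen : ∀ d ∈ Q, (∀ x ∈ Q, x * d = d * x) → d = 1 ∨ d = z
  self : ∀ g ∈ centralizer ({z} : Set G), (∀ y ∈ Q, y * g = g * y) → g ∈ Q
  φ : ↥(centralizer ({z} : Set G)) →* A5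
  surj : Function.Surjective φ
  ker : ∀ c, φ c = 1 ↔ (c : G) ∈ Q

/-- Equality up to a factor `z`. -/
def Eqv (z x y : G) : Prop := x = y ∨ x = z * y

/-- A non-central involution of `Q`. -/
def Sing (z : G) (Q : Subgroup G) (p : G) : Prop := p ∈ Q ∧ p * p = 1 ∧ p ≠ 1 ∧ p ≠ z

/-- An involution of `C(z)` outside `Q`. -/
def Outer (z : G) (Q : Subgroup G) (t : G) : Prop :=
  t ∈ centralizer ({z} : Set G) ∧ t * t = 1 ∧ t ∉ Q

/-- The elements of `Q` whose class modulo `z` is fixed by `t`. -/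
def Fixed (z : G) (Q : Subgroup G) (t x : G) : Prop := x ∈ Q ∧ Eqv z (t * x * t) x

theorem mul_swap {a b : G} (h : a * a = 1) (h' : b * b = 1) (h'' : a * b * (a * b) = 1) :
    a * b = b * a := by
  rw [← inv_eq_of_mul_eq_one_right h'', mul_inv_rev, inv_eq_of_mul_eq_one_right h,
    inv_eq_of_mul_eq_one_right h']

namespace Hyp

variable {z : G} {Q : Subgroup G} (H : Hyp z Q)
include H

theorem zz : z * z = 1 := by
  rw [← pow_two, ← H.hz]; exact pow_orderOf_eq_one z

theorem z_ne : z ≠ 1 := fun e => by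
  have := H.hz
  rw [e, orderOf_one] at this
  omega

theorem z_inv : z⁻¹ = z := inv_eq_of_mul_eq_one_right H.zz

theorem zC : z ∈ centralizer ({z} : Set G) := mem_centralizer_singleton_iff.2 rfl

theorem comm_z {c : G} (hc : c ∈ centralizer ({z} : Set G)) : c * z = z * c :=
  mem_centralizer_singleton_iff.1 hc

theorem comm_zQ {x : G} (hx : x ∈ Q) : x * z = z * x := H.comm_z (H.hQC hx)

theorem z_mul_z_mul (x : G) : z * (z * x) = x := by rw [← mul_assoc, H.zz, one_mul]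

theorem eqv_refl (x : G) : Eqv z x x := Or.inl rfl

theorem eqv_zmul (x : G) : Eqv z (z * x) x := Or.inr rfl

theorem eqv_symm {x y : G} (h : Eqv z x y) : Eqv z y x := by
  rcases h with h | h
  · exact Or.inl h.symm
  · exact Or.inr (by rw [h, H.z_mul_z_mul])

theorem eqv_trans {x y w : G} (h : Eqv z x y) (h' : Eqv z y w) : Eqv z x w := by
  rcases h with h | h <;> rcases h' with h' | h'
  · exact Or.inl (h.trans h')
  · exact Or.inr (h.trans h')
  · exact Or.inr (by rw [h, h'])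
  · exact Or.inl (by rw [h, h', H.z_mul_z_mul])

theorem eqv_mul_left {c x y : G} (hc : c ∈ centralizer ({z} : Set G)) (h : Eqv z x y) :
    Eqv z (c * x) (c * y) := by
  rcases h with h | h
  · exact Or.inl (by rw [h])
  · exact Or.inr (by rw [h, ← mul_assoc, H.comm_z hc, mul_assoc])

theorem eqv_mul_right {x y : G} (c : G) (h : Eqv z x y) : Eqv z (x * c) (y * c) := by
  rcases h with h | h
  · exact Or.inl (by rw [h])
  · exact Or.inr (by rw [h, mul_assoc])

theorem eqv_conj {c x y : G} (hc : c ∈ centralizer ({z} : Set G)) (h : Eqv z x y) :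
    Eqv z (c * x * c⁻¹) (c * y * c⁻¹) :=
  H.eqv_mul_right _ (H.eqv_mul_left hc h)

theorem eqv_one {x : G} (h : Eqv z x 1) : x = 1 ∨ x = z := by
  rcases h with h | h
  · exact Or.inl h
  · exact Or.inr (by rw [h, mul_one])

theorem eqv_mem {x y : G} (hy : y ∈ Q) (h : Eqv z x y) : x ∈ Q := by
  rcases h with h | h
  · exact h ▸ hy
  · exact h ▸ mul_mem H.hzQ hy

theorem eqv_inv {x : G} (hx : x ∈ Q) : Eqv z x⁻¹ x := by
  rcases H.sq x hx with h | h
  · exact Or.inl (inv_eq_of_mul_eq_one_right h)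
  · refine Or.inr (inv_eq_of_mul_eq_one_right ?_)
    rw [← mul_assoc, H.comm_zQ hx, mul_assoc, h, H.zz]

theorem eqv_conjQ {q x : G} (hq : q ∈ Q) (hx : x ∈ Q) : Eqv z (q * x * q⁻¹) x := by
  rcases H.com x hx q hq with h | h
  · exact Or.inl (by rw [h, mul_inv_cancel_right])
  · exact Or.inr (by rw [h, mul_assoc, mul_inv_cancel_right])

theorem zmul_sq {x : G} (hx : x ∈ Q) : z * x * (z * x) = x * x := by
  rw [mul_assoc, ← mul_assoc x z x, H.comm_zQ hx, mul_assoc, H.z_mul_z_mul]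

theorem eqv_sq {x y : G} (hy : y ∈ Q) (h : Eqv z x y) : x * x = y * y := by
  rcases h with h | h <;> rw [h]
  exact H.zmul_sq hy

theorem norm_iff {c y : G} (hc : c ∈ centralizer ({z} : Set G)) : c * y * c⁻¹ ∈ Q ↔ y ∈ Q := by
  refine ⟨fun h => ?_, H.norm c hc y⟩
  have := H.norm c⁻¹ (inv_mem hc) _ h
  simpa [mul_assoc] using this

theorem norm' {c y : G} (hc : c ∈ centralizer ({z} : Set G)) (hy : y ∈ Q) : c⁻¹ * y * c ∈ Q := by
  simpa using H.norm c⁻¹ (inv_mem hc) y hy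

theorem not_mem_iff {c : G} (hc : c ∈ centralizer ({z} : Set G)) : c ∉ Q ↔ H.φ ⟨c, hc⟩ ≠ 1 :=
  (H.ker ⟨c, hc⟩).not.symm

theorem exists_lift (u : A5) : ∃ c, ∃ hc : c ∈ centralizer ({z} : Set G), H.φ ⟨c, hc⟩ = u := by
  obtain ⟨c, hc⟩ := H.surj u
  exact ⟨c, c.2, hc⟩

theorem φ_eq_iff {a b : G} (ha : a ∈ centralizer ({z} : Set G)) (hb : b ∈ centralizer ({z} : Set G)) :
    H.φ ⟨a, ha⟩ = H.φ ⟨b, hb⟩ ↔ ∃ q ∈ Q, a = b * q := by
  constructor
  · intro h
    refine ⟨b⁻¹ * a, ?_, by group⟩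
    have h1 : H.φ (⟨b, hb⟩⁻¹ * ⟨a, ha⟩) = 1 := by rw [map_mul, map_inv, h, inv_mul_cancel]
    exact (H.ker _).1 h1
  · rintro ⟨q, hq, rfl⟩
    have h1 : H.φ (⟨b, hb⟩ * ⟨q, H.hQC hq⟩) = H.φ ⟨b, hb⟩ := by
      rw [map_mul, (H.ker ⟨q, H.hQC hq⟩).2 hq, mul_one]
    exact h1

theorem pow_twenty {c : G} (hc : c ∈ centralizer ({z} : Set G)) {s : A5} (hs : s ^ 5 = 1)
    (h : H.φ ⟨c, hc⟩ = s) : (c ^ 4) ^ 5 = 1 := by
  have h5 : c ^ 5 ∈ Q := (H.ker (⟨c, hc⟩ ^ 5)).1 (by rw [map_pow, h, hs])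
  have e : (c ^ 4) ^ 5 = (c ^ 5 * c ^ 5) * (c ^ 5 * c ^ 5) := by
    rw [← pow_mul, ← pow_add, ← pow_add]
  rw [e]
  rcases H.sq _ h5 with h' | h' <;> rw [h']
  · rw [one_mul]
  · rw [H.zz]

theorem five_lift {s : A5} (hs : s ^ 5 = 1) : ∃ g, ∃ hg : g ∈ centralizer ({z} : Set G),
    g ^ 5 = 1 ∧ H.φ ⟨g, hg⟩ = s := by
  have hs' : (s ^ 4) ^ 5 = 1 := by rw [← pow_mul, mul_comm, pow_mul, hs, one_pow]
  obtain ⟨c, hc, h⟩ := H.exists_lift (s ^ 4)
  refine ⟨c ^ 4, pow_mem hc 4, H.pow_twenty hc hs' h, ?_⟩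
  have : H.φ (⟨c, hc⟩ ^ 4) = s := by
    rw [map_pow, h, ← pow_mul, show 4 * 4 = 5 * 3 + 1 from rfl, pow_add, pow_mul, hs, one_pow,
      one_mul, pow_one]
  exact this

theorem exists_five : ∃ g ∈ centralizer ({z} : Set G), g ^ 5 = 1 ∧ g ∉ Q := by
  obtain ⟨s, hs, hs1⟩ := a5_exists_five
  obtain ⟨g, hg, h5, hφ⟩ := H.five_lift hs
  exact ⟨g, hg, h5, (H.not_mem_iff hg).2 (hφ ▸ hs1)⟩

theorem five_pow {g : G} (hg : g ^ 5 = 1) (hgQ : g ∉ Q) {k : ℕ} (hk : ¬ 5 ∣ k) : g ^ k ∉ Q := by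
  intro h
  obtain ⟨m, -, hm⟩ := Nat.exists_mul_mod_eq_one_of_coprime
    ((Nat.prime_five.coprime_iff_not_dvd.2 hk).symm) (show 1 < 5 by norm_num)
  refine hgQ ?_
  have e : g = (g ^ k) ^ m := by
    rw [← pow_mul, pow_eq_pow_mod (k * m) hg, hm, pow_one]
  rw [e]
  exact pow_mem h m

/-- An element of order five fixes only `1` and `z` modulo `z`. -/
theorem five_fix [Finite G] {g : G} (hgC : g ∈ centralizer ({z} : Set G)) (hg : g ^ 5 = 1) (hgQ : g ∉ Q)
    {x : G} (hx : x ∈ Q) (hfix : Eqv z (g * x * g⁻¹) x) : x = 1 ∨ x = z := by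
  classical
  have : Fact (Nat.Prime 5) := ⟨Nat.prime_five⟩
  have : Fact (Nat.Prime 2) := ⟨Nat.prime_two⟩
  have key : ∀ y ∈ Q, Eqv z (g * y * g⁻¹) y → g * y * g⁻¹ = y := by
    intro y hy h
    rcases h with h | h
    · exact h
    · exfalso
      have h2 : g * (g * y * g⁻¹) * g⁻¹ = y := by
        rw [h, ← mul_assoc g z y, H.comm_z hgC, mul_assoc z g y, mul_assoc z (g * y) g⁻¹, h,
          H.z_mul_z_mul]
      have h5 : g ^ 5 * y * (g ^ 5)⁻¹ = g * y * g⁻¹ := by
        calc g ^ 5 * y * (g ^ 5)⁻¹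
            = g * (g * (g * (g * (g * y * g⁻¹) * g⁻¹) * g⁻¹) * g⁻¹) * g⁻¹ := by
              simp only [pow_succ, pow_zero, one_mul, mul_inv_rev, mul_assoc]
          _ = g * y * g⁻¹ := by rw [h2, h2]
      rw [hg, inv_one, one_mul, mul_one, h] at h5
      exact H.z_ne (mul_eq_right.1 h5.symm)
  have hfx : g * x = x * g := mul_inv_eq_iff_eq_mul.1 (key x hx hfix)
  let F : Subgroup G := Q ⊓ centralizer ({g} : Set G)
  have hxF : x ∈ F := mem_inf.2 ⟨hx, mem_centralizer_singleton_iff.2 hfx.symm⟩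
  have hzF : z ∈ F := mem_inf.2 ⟨H.hzQ, mem_centralizer_singleton_iff.2 (H.comm_z hgC).symm⟩
  have := Fintype.ofFinite G
  let σ : Equiv.Perm ↥Q :=
    { toFun := fun y => ⟨g * y * g⁻¹, H.norm g hgC y y.2⟩
      invFun := fun y => ⟨g⁻¹ * y * g, H.norm' hgC y.2⟩
      left_inv := fun y => by ext; simp [mul_assoc]
      right_inv := fun y => by ext; simp [mul_assoc] }
  have hσpow : ∀ (n : ℕ) (y : ↥Q), (((σ ^ n) y : ↥Q) : G) = g ^ n * y * (g ^ n)⁻¹ := by
    intro n
    induction n with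
    | zero => simp
    | succ n ih =>
      intro y
      rw [pow_succ', Equiv.Perm.mul_apply]
      show g * ((σ ^ n) y : ↥Q) * g⁻¹ = _
      rw [ih, pow_succ']; group
  have hσ5 : σ ^ 5 = 1 := by ext y; rw [hσpow, hg]; simp
  have hQp : IsPGroup 2 Q := IsPGroup.of_card (n := 5) (by rw [H.card]; norm_num)
  obtain ⟨k, hk⟩ := IsPGroup.iff_card.1 (hQp.to_le (inf_le_left : F ≤ Q))
  have hk' : k ≤ 5 := by
    have h := Subgroup.card_le_of_le (inf_le_left : F ≤ Q)
    rw [hk, H.card, show (32 : ℕ) = 2 ^ 5 from rfl] at h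
    exact (Nat.pow_le_pow_iff_right (by norm_num)).1 h
  have hmod : Fintype.card {y : ↥Q // ¬ (y : G) ∈ F} % 5 = 0 := by
    by_contra hnd
    have hstab : ∀ y : ↥Q, ¬ ((σ y : ↥Q) : G) ∈ F ↔ ¬ (y : G) ∈ F := by
      intro y
      refine not_congr ?_
      show g * y * g⁻¹ ∈ F ↔ _
      simp only [F, mem_inf, mem_centralizer_singleton_iff]
      refine and_congr ⟨fun _ => y.2, fun _ => H.norm g hgC y y.2⟩ ⟨fun h => ?_, fun h => ?_⟩
      · calc (y : G) * g = g⁻¹ * (g * y * g⁻¹ * g) * g := by group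
          _ = g⁻¹ * (g * (g * y * g⁻¹)) * g := by rw [h]
          _ = g * y := by group
      · have e : g * y * g⁻¹ = (y : G) := by rw [← h]; group
        rw [e, h]
    let τ : Equiv.Perm {y : ↥Q // ¬ (y : G) ∈ F} := σ.subtypePerm hstab
    obtain ⟨y, hy⟩ := Equiv.Perm.exists_fixed_point_of_prime (p := 5) (n := 1)
      (fun h => hnd (Nat.mod_eq_zero_of_dvd h)) (σ := τ) (by
      ext y
      simp only [pow_one, τ, Equiv.Perm.subtypePerm_pow, Equiv.Perm.subtypePerm_apply, hσ5]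
      rfl)
    have h' : g * y.1 * g⁻¹ = y.1 := congrArg (fun w => ((w.1 : ↥Q) : G)) hy
    exact y.2 (mem_inf.2 ⟨y.1.2, mem_centralizer_singleton_iff.2 (mul_inv_eq_iff_eq_mul.1 h').symm⟩)
  rw [Fintype.card_subtype_compl] at hmod
  have hQc : Fintype.card ↥Q = 32 := by rw [← Nat.card_eq_fintype_card, H.card]
  have hFc : Fintype.card {y : ↥Q // (y : G) ∈ F} = 2 ^ k := by
    rw [← hk, ← Nat.card_eq_fintype_card]
    exact Nat.card_congr
      { toFun := fun y => ⟨y.1.1, y.2⟩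
        invFun := fun y => ⟨⟨y.1, (mem_inf.1 y.2).1⟩, y.2⟩ }
  rw [hQc, hFc] at hmod
  have hk5 : k ≠ 5 := by
    rintro rfl
    have hFQ : F = Q := Subgroup.eq_of_le_of_card_ge inf_le_left (by rw [hk, H.card]; norm_num)
    refine hgQ (H.self g hgC fun y hy => ?_)
    have : y ∈ F := hFQ ▸ hy
    exact mem_centralizer_singleton_iff.1 (mem_inf.1 this).2
  have hk1 : k = 1 := by interval_cases k <;> omega
  have hle : zpowers z ≤ F := zpowers_le.2 hzF
  have heq : zpowers z = F :=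
    Subgroup.eq_of_le_of_card_ge hle (by rw [hk, hk1, Nat.card_zpowers, H.hz]; norm_num)
  rw [← heq, ← mem_powers_iff_mem_zpowers] at hxF
  obtain ⟨i, rfl⟩ := hxF
  show z ^ i = 1 ∨ z ^ i = z
  rw [← pow_mod_orderOf, H.hz]
  rcases Nat.mod_two_eq_zero_or_one i with e | e <;> simp [e]

theorem orderQ (x : ↥Q) : x * x = 1 ∨ x * x = ⟨z, H.hzQ⟩ :=
  (H.sq x x.2).imp (fun e => Subtype.ext e) (fun e => Subtype.ext e)

theorem card_sq_one [Finite G] : Nat.card {x : G // x ∈ Q ∧ x * x = 1} = 12 := by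
  classical
  have : Fact (Nat.Prime 5) := ⟨Nat.prime_five⟩
  have := Fintype.ofFinite G
  obtain ⟨g, hgC, hg, hgQ⟩ := H.exists_five
  have hcardQ : Fintype.card ↥Q = 32 := by rw [← Nat.card_eq_fintype_card, H.card]
  have e : Nat.card {x : G // x ∈ Q ∧ x * x = 1} =
      (Finset.univ.filter (fun x : ↥Q => x * x = 1)).card := by
    rw [← Fintype.card_subtype, ← Nat.card_eq_fintype_card]
    exact Nat.card_congr
      { toFun := fun x => ⟨⟨x.1, x.2.1⟩, Subtype.ext x.2.2⟩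
        invFun := fun x => ⟨x.1.1, x.1.2, congrArg Subtype.val x.2⟩ }
  rw [e]
  convert (HJOrder.card_sq_one (⟨z, H.hzQ⟩ : ↥Q) (Subtype.ext H.zz)
    (fun h => H.z_ne (congrArg Subtype.val h)) (fun x => Subtype.ext (H.comm_zQ x.2)) H.orderQ
    (fun x d => (H.com x x.2 d d.2).imp (fun h => Subtype.ext h) (fun h => Subtype.ext h))
    (fun d hd => (H.cen d d.2 fun x hx => congrArg Subtype.val (hd ⟨x, hx⟩)).imp
      (fun h => Subtype.ext h) (fun h => Subtype.ext h)) hcardQ).resolve_right fun h20 => ?_ using 3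
  -- eighteen non-central involutions would be permuted freely by an element of order five
  let S := {x : G // Sing z Q x}
  have hS : Fintype.card S = 18 := by
    have h1 : Fintype.card S = ((Finset.univ.filter (fun x : ↥Q => x * x = 1)) \
        {1, ⟨z, H.hzQ⟩}).card := by
      rw [← Fintype.card_coe]
      refine Fintype.card_congr
        { toFun := fun x => ⟨⟨x.1, x.2.1⟩, ?_⟩
          invFun := fun x => ⟨x.1.1, x.1.2, ?_, ?_, ?_⟩ }
      · simp only [Finset.mem_sdiff, Finset.mem_filter, Finset.mem_univ, true_and, Finset.mem_insert,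
          Finset.mem_singleton, not_or]
        exact ⟨Subtype.ext x.2.2.1, fun h => x.2.2.2.1 (congrArg Subtype.val h),
          fun h => x.2.2.2.2 (congrArg Subtype.val h)⟩
      · have h := (Finset.mem_filter.1 (Finset.mem_sdiff.1 x.2).1).2
        exact congrArg Subtype.val h
      · intro h
        exact (Finset.mem_sdiff.1 x.2).2 (Finset.mem_insert.2 (Or.inl (Subtype.ext h)))
      · intro h
        exact (Finset.mem_sdiff.1 x.2).2
          (Finset.mem_insert.2 (Or.inr (Finset.mem_singleton.2 (Subtype.ext h))))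
    rw [h1, Finset.card_sdiff_of_subset, show (Finset.univ.filter (fun x : ↥Q => x * x = 1)).card = 20 by
      convert h20, Finset.card_pair (fun h => H.z_ne (congrArg Subtype.val h).symm)]
    intro x hx
    simp only [Finset.mem_insert, Finset.mem_singleton] at hx
    simp only [Finset.mem_filter, Finset.mem_univ, true_and]
    rcases hx with rfl | rfl
    · exact one_mul 1
    · exact Subtype.ext H.zz
  have hsing : ∀ x : G, Sing z Q (g * x * g⁻¹) ↔ Sing z Q x := by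
    intro x
    refine and_congr (H.norm_iff hgC) (and_congr ?_ (and_congr ?_ ?_))
    · rw [show g * x * g⁻¹ * (g * x * g⁻¹) = g * (x * x) * g⁻¹ by group]
      exact conj_eq_one_iff
    · exact conj_eq_one_iff.not
    · refine not_congr ⟨fun h => ?_, fun h => ?_⟩
      · calc x = g⁻¹ * (g * x * g⁻¹) * g := by group
          _ = g⁻¹ * (z * g) := by rw [h, mul_assoc]
          _ = z := by rw [← H.comm_z hgC]; group
      · rw [h, H.comm_z hgC, mul_inv_cancel_right]
  let σ : Equiv.Perm S :=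
    { toFun := fun x => ⟨g * x.1 * g⁻¹, (hsing x.1).2 x.2⟩
      invFun := fun x => ⟨g⁻¹ * x.1 * g, (hsing _).1 (by simpa [mul_assoc] using x.2)⟩
      left_inv := fun x => by ext; simp [mul_assoc]
      right_inv := fun x => by ext; simp [mul_assoc] }
  have hσpow : ∀ (n : ℕ) (y : S), ((σ ^ n) y).1 = g ^ n * y.1 * (g ^ n)⁻¹ := by
    intro n
    induction n with
    | zero => simp
    | succ n ih =>
      intro y
      rw [pow_succ', Equiv.Perm.mul_apply]
      show g * ((σ ^ n) y).1 * g⁻¹ = _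
      rw [ih, pow_succ']; group
  obtain ⟨x, hx⟩ := Equiv.Perm.exists_fixed_point_of_prime (p := 5) (n := 1) (σ := σ)
    (by rw [hS]; norm_num) (by
      apply Equiv.ext
      intro y
      apply Subtype.ext
      rw [pow_one, hσpow, hg]
      simp)
  have hx' : g * x.1 * g⁻¹ = x.1 := congrArg Subtype.val hx
  rcases H.five_fix hgC hg hgQ x.2.1 (Or.inl hx') with h | h
  exacts [x.2.2.2.1 h, x.2.2.2.2 h]

theorem sing_comm [Finite G] {u w : G} (hu : Sing z Q u) (hw : Sing z Q w) (h : u * w = w * u) :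
    Eqv z w u := by
  classical
  have := Fintype.ofFinite G
  have hcardQ : Fintype.card ↥Q = 32 := by rw [← Nat.card_eq_fintype_card, H.card]
  have hn : (Finset.univ.filter (fun x : ↥Q => x * x = 1)).card = 12 := by
    rw [← H.card_sq_one, ← Fintype.card_subtype, ← Nat.card_eq_fintype_card]
    exact Nat.card_congr
      { toFun := fun x => ⟨x.1.1, x.1.2, congrArg Subtype.val x.2⟩
        invFun := fun x => ⟨⟨x.1, x.2.1⟩, Subtype.ext x.2.2⟩ }
  rcases HJOrder.commuting_involutions (⟨z, H.hzQ⟩ : ↥Q) (Subtype.ext H.zz)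
      (fun e => H.z_ne (congrArg Subtype.val e)) (fun x => Subtype.ext (H.comm_zQ x.2)) H.orderQ
      (fun x d => (H.com x x.2 d d.2).imp (fun e => Subtype.ext e) (fun e => Subtype.ext e))
      (fun d hd => (H.cen d d.2 fun x hx => congrArg Subtype.val (hd ⟨x, hx⟩)).imp
        (fun e => Subtype.ext e) (fun e => Subtype.ext e)) hcardQ (by convert hn)
      (u := ⟨u, hu.1⟩) (w := ⟨w, hw.1⟩) (Subtype.ext hu.2.1) (Subtype.ext hw.2.1) (Subtype.ext h)
      ⟨fun e => hu.2.2.1 (congrArg Subtype.val e), fun e => hu.2.2.2 (congrArg Subtype.val e)⟩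
      ⟨fun e => hw.2.2.1 (congrArg Subtype.val e), fun e => hw.2.2.2 (congrArg Subtype.val e)⟩ with e | e
  · exact Or.inl (congrArg Subtype.val e)
  · exact Or.inr (congrArg Subtype.val e)

theorem sing_conj_mem {c p : G} (hc : c ∈ centralizer ({z} : Set G)) (hp : Sing z Q p) :
    Sing z Q (c * p * c⁻¹) := by
  refine ⟨H.norm c hc p hp.1, ?_, fun e => hp.2.2.1 (conj_eq_one_iff.1 e), fun e => hp.2.2.2 ?_⟩
  · rw [show c * p * c⁻¹ * (c * p * c⁻¹) = c * (p * p) * c⁻¹ by group, hp.2.1]; group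
  · calc p = c⁻¹ * (c * p * c⁻¹) * c := by group
      _ = c⁻¹ * (z * c) := by rw [e, mul_assoc]
      _ = z := by rw [← H.comm_z hc]; group

theorem sing_zmul {p : G} (hp : Sing z Q p) : Sing z Q (z * p) := by
  refine ⟨mul_mem H.hzQ hp.1, (H.zmul_sq hp.1).trans hp.2.1, fun e => hp.2.2.2 ?_,
    fun e => hp.2.2.1 (mul_eq_left.1 e)⟩
  calc p = z * (z * p) := (H.z_mul_z_mul p).symm
    _ = z := by rw [e, mul_one]

theorem sing_of_eqv {p q : G} (hp : Sing z Q p) (h : Eqv z q p) : Sing z Q q := by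
  rcases h with h | h
  · exact h ▸ hp
  · exact h ▸ H.sing_zmul hp

theorem exists_swap {x : G} (hx : x ∈ Q) (h1 : x ≠ 1) (hz : x ≠ z) :
    ∃ y ∈ Q, y * x * y⁻¹ = z * x := by
  by_contra hcon
  push Not at hcon
  refine (H.cen x hx fun y hy => ?_).elim h1 hz
  rcases H.com x hx y hy with h | h
  · exact h
  · exact absurd (by rw [h, mul_assoc, mul_inv_cancel_right]) (hcon y hy)

theorem card_sing [Finite G] : Nat.card {p : G // Sing z Q p} = 10 := by
  classical
  have := Fintype.ofFinite G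
  have h := H.card_sq_one
  rw [Nat.card_eq_fintype_card, Fintype.card_subtype] at h ⊢
  have e : Finset.univ.filter (fun x : G => Sing z Q x) =
      (Finset.univ.filter (fun x : G => x ∈ Q ∧ x * x = 1)) \ {1, z} := by
    ext x
    rw [Finset.mem_filter, Finset.mem_sdiff, Finset.mem_filter]
    simp only [Finset.mem_univ, true_and, Finset.mem_insert, Finset.mem_singleton, not_or]
    exact ⟨fun h => ⟨⟨h.1, h.2.1⟩, h.2.2⟩, fun h => ⟨h.1.1, h.1.2, h.2⟩⟩
  rw [e, Finset.card_sdiff_of_subset, h, Finset.card_pair (Ne.symm H.z_ne)]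
  intro x hx
  simp only [Finset.mem_insert, Finset.mem_singleton] at hx
  simp only [Finset.mem_filter, Finset.mem_univ, true_and]
  rcases hx with rfl | rfl
  · exact ⟨one_mem Q, one_mul 1⟩
  · exact ⟨H.hzQ, H.zz⟩

/-- `C(z)` is transitive on the non-central involutions of `Q`. -/
theorem sing_trans [Finite G] {p q : G} (hp : Sing z Q p) (hq : Sing z Q q) :
    ∃ c ∈ centralizer ({z} : Set G), c * p * c⁻¹ = q := by
  classical
  have := Fintype.ofFinite G
  obtain ⟨g, hgC, hg, hgQ⟩ := H.exists_five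
  obtain ⟨y, hyQ, hy⟩ := H.exists_swap hp.1 hp.2.2.1 hp.2.2.2
  let f : Fin 5 × Bool → {p : G // Sing z Q p} := fun a =>
    ⟨(if a.2 then g ^ (a.1 : ℕ) * y else g ^ (a.1 : ℕ)) * p *
        (if a.2 then g ^ (a.1 : ℕ) * y else g ^ (a.1 : ℕ))⁻¹,
      H.sing_conj_mem (by
        split_ifs
        exacts [mul_mem (pow_mem hgC _) (H.hQC hyQ), pow_mem hgC _]) hp⟩
  have hclass : ∀ a, Eqv z (f a).1 (g ^ (a.1 : ℕ) * p * (g ^ (a.1 : ℕ))⁻¹) := by
    rintro ⟨i, b⟩
    cases b
    · exact H.eqv_refl _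
    · show Eqv z (g ^ (i : ℕ) * y * p * (g ^ (i : ℕ) * y)⁻¹) _
      rw [show g ^ (i : ℕ) * y * p * (g ^ (i : ℕ) * y)⁻¹ =
        g ^ (i : ℕ) * (y * p * y⁻¹) * (g ^ (i : ℕ))⁻¹ by group, hy]
      exact H.eqv_conj (pow_mem hgC _) (H.eqv_zmul p)
  have key : ∀ (i j : Fin 5), i ≤ j →
      Eqv z (g ^ (i : ℕ) * p * (g ^ (i : ℕ))⁻¹) (g ^ (j : ℕ) * p * (g ^ (j : ℕ))⁻¹) → i = j := by
    intro i j hij h
    by_contra hne
    have hlt : (i : ℕ) < j := lt_of_le_of_ne hij (fun e => hne (Fin.ext e))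
    have h' := H.eqv_symm (H.eqv_conj (inv_mem (pow_mem hgC (i : ℕ))) h)
    have e : g ^ (j : ℕ) = g ^ (i : ℕ) * g ^ ((j : ℕ) - i) := by rw [← pow_add]; congr 1; omega
    rw [e] at h'
    have h'' : Eqv z (g ^ ((j : ℕ) - i) * p * (g ^ ((j : ℕ) - i))⁻¹) p := by
      convert h' using 1 <;> group
    rcases H.five_fix (pow_mem hgC _) (by rw [← pow_mul, mul_comm, pow_mul, hg, one_pow])
      (H.five_pow hg hgQ (k := (j : ℕ) - i) (fun hd => by
        have := Nat.le_of_dvd (by omega) hd; omega)) hp.1 h'' with e | e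
    exacts [hp.2.2.1 e, hp.2.2.2 e]
  have hinj : Function.Injective f := by
    rintro ⟨i, b⟩ ⟨j, b'⟩ h
    have hi := hclass (i, b)
    have hj := hclass (j, b')
    rw [h] at hi
    have hij : i = j := by
      rcases le_total i j with hle | hle
      · exact key i j hle (H.eqv_trans (H.eqv_symm hi) hj)
      · exact (key j i hle (H.eqv_trans (H.eqv_symm hj) hi)).symm
    subst hij
    have hne : z * p ≠ p := fun e => H.z_ne (mul_eq_right.1 e)
    have h1 := congrArg Subtype.val h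
    cases b <;> cases b'
    · rfl
    · exfalso
      refine hne ?_
      simp only [f, Bool.false_eq_true, ↓reduceIte] at h1
      rw [← hy]
      calc y * p * y⁻¹ = (g ^ (i : ℕ))⁻¹ * (g ^ (i : ℕ) * y * p * (g ^ (i : ℕ) * y)⁻¹) * g ^ (i : ℕ) := by
            group
        _ = p := by rw [← h1]; group
    · exfalso
      refine hne ?_
      simp only [f, Bool.false_eq_true, ↓reduceIte] at h1
      rw [← hy]
      calc y * p * y⁻¹ = (g ^ (i : ℕ))⁻¹ * (g ^ (i : ℕ) * y * p * (g ^ (i : ℕ) * y)⁻¹) * g ^ (i : ℕ) := by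
            group
        _ = p := by rw [h1]; group
    · rfl
  have hbij : Function.Bijective f := by
    rw [Fintype.bijective_iff_injective_and_card]
    refine ⟨hinj, ?_⟩
    rw [← Nat.card_eq_fintype_card (α := {p : G // Sing z Q p}), H.card_sing]
    simp
  obtain ⟨⟨i, b⟩, hib⟩ := hbij.2 ⟨q, hq⟩
  have := congrArg Subtype.val hib
  exact ⟨_, by split_ifs; exacts [mul_mem (pow_mem hgC _) (H.hQC hyQ), pow_mem hgC _], this⟩

end Hyp

end CfsgLib.HJType
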