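import Cfsg.Agent.Lib.HJType.Fusion
import Cfsg.Agent.Lib.Solvable.Gaschutz
import Cfsg.Agent.S3277

/-!
The centraliser of an outer involution is a four group times a group `B`, which is alternating of
degree five or of order twelve.
-/

set_option autoImplicit false
set_option linter.unusedSectionVars false

namespace CfsgLib.HJType

open Subgroup
open scoped Pointwise

variable {G : Type*} [Group G] [Finite G] {z : G} {Q : Subgroup G}

/-- The decomposition of the centraliser of an outer involution. -/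
structure TData (S : Setting z Q) (t h : G) (B : Subgroup G) : Prop where
  T : Three S t h
  hBX : ∀ b ∈ B, b * t = t * b
  inf : vGroup S t h ⊓ B = ⊥
  split : ∀ x, x * t = t * x → ∃ v ∈ vGroup S t h, ∃ b ∈ B, x = v * b
  hB : h ∈ B
  UB : S.eGroup t ⊓ Q ≤ B
  BE : B ⊓ S.eGroup t ≤ S.eGroup t ⊓ Q

namespace TData

variable {S : Setting z Q} {t h : G} {B : Subgroup G} (D : TData S t h B)
include D

theorem vX {v : G} (hv : v ∈ vGroup S t h) : v * t = t * v := (S.mem_eGroup.1 (D.T.mem_v.1 hv).1).2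

theorem comm {v : G} (hv : v ∈ vGroup S t h) {b : G} (hb : b ∈ B) : v * b = b * v :=
  (D.T.central hv (D.hBX b hb)).symm

theorem Bnorm {x b : G} (hx : x * t = t * x) (hb : b ∈ B) : x * b * x⁻¹ ∈ B := by
  obtain ⟨v, hv, c, hc, rfl⟩ := D.split x hx
  have hm := mul_mem (mul_mem hc hb) (inv_mem hc)
  have : v * c * b * (v * c)⁻¹ = c * b * c⁻¹ := by
    calc v * c * b * (v * c)⁻¹ = v * (c * b * c⁻¹) * v⁻¹ := by group
      _ = c * b * c⁻¹ := by rw [D.comm hv hm, mul_inv_cancel_right]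
  rw [this]
  exact hm

theorem involB {b : G} (hb : b ∈ B) (h2 : b * b = 1) (h1 : b ≠ 1) : IsConj z b := by
  obtain ⟨c, hct, hc⟩ := D.T.conj_into (D.hBX b hb) (m := 1) (by rw [pow_one, pow_two]; exact h2)
  have hU := D.BE (mem_inf.2 ⟨D.Bnorm hct hb, hc⟩)
  refine (S.conjZ_of_mem (mem_inf.1 hU).2 ?_ ?_).trans (isConj_iff.2 ⟨c⁻¹, by group⟩)
  · exact S.eGroup_sq D.T.ht hc
  · intro e
    exact h1 (by simpa [mul_assoc] using congrArg (fun w => c⁻¹ * w * c) e)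

theorem involOut {x : G} (hx : x * t = t * x) (h2 : x * x = 1) (hxB : x ∉ B) : IsConj t x := by
  obtain ⟨c, hct, hc⟩ := D.T.conj_into hx (m := 1) (by rw [pow_one, pow_two]; exact h2)
  have hout : c * x * c⁻¹ ∉ Q := fun hQ => hxB (by
    have h1 := D.Bnorm (x := c⁻¹) (show Commute c⁻¹ t from (show Commute c t from hct).inv_left).eq
      (D.UB (mem_inf.2 ⟨hc, hQ⟩))
    simpa [mul_assoc] using h1)
  exact (S.outer_conjT D.T.ht ⟨(S.mem_eGroup.1 hc).1, S.eGroup_sq D.T.ht hc, hout⟩).trans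
    (isConj_iff.2 ⟨c⁻¹, by group⟩)

theorem meet {x : G} (hx : x ∈ B) (hxE : x ∈ S.eGroup t) : x ∈ S.eGroup t ⊓ Q := D.BE (mem_inf.2 ⟨hx, hxE⟩)

theorem card_inf : Nat.card ↥(S.eGroup t ⊓ Q) = 4 := (S.eGroup_inf D.T.ht).1

theorem h_ne : h ≠ 1 := fun e => D.T.hz (by rw [e]; group)

theorem card_centralizer_z :
    Nat.card ↥(centralizer ({⟨z, D.UB (mem_inf.2 ⟨S.z_mem D.T.ht, S.hzQ⟩)⟩} : Set ↥B)) = 4 := by
  rw [← D.card_inf]
  refine Nat.card_congr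
    { toFun := fun x => ⟨x.1.1, D.meet x.1.2 ((S.stab D.T.ht (S.z_mem D.T.ht) (IsConj.refl z)).2
        ⟨congrArg Subtype.val (mem_centralizer_singleton_iff.1 x.2), D.hBX _ x.1.2⟩)⟩
      invFun := fun x => ⟨⟨x.1, D.UB x.2⟩, mem_centralizer_singleton_iff.2 (Subtype.ext
        (S.comm_z (S.mem_eGroup.1 (mem_inf.1 x.2).1).1))⟩ }

theorem not_complement : ¬ Cfsg.HasNormalPComplement 2 ↥B := by
  have : Fact (Nat.Prime 2) := ⟨Nat.prime_two⟩
  rintro ⟨P, N, hN, hc⟩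
  have hodd : ¬ 2 ∣ Nat.card N := hc.index_eq_card ▸ P.not_dvd_index
  obtain ⟨k, hk⟩ := IsPGroup.iff_card.1 P.isPGroup'
  let h' : B := ⟨h, D.hB⟩
  have hh : h' ∈ N := by
    rw [← QuotientGroup.eq_one_iff, ← orderOf_eq_one_iff, ← Nat.dvd_one]
    have h2 : orderOf (h' : B ⧸ N) ∣ 2 ^ k := by
      rw [← hk, ← hc.symm.index_eq_card, Subgroup.index_eq_card]
      exact orderOf_dvd_natCard _
    have h3 : orderOf (h' : B ⧸ N) ∣ 3 := by
      refine orderOf_dvd_of_pow_eq_one ?_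
      rw [← QuotientGroup.mk_pow, show h' ^ 3 = 1 from Subtype.ext D.T.h3, QuotientGroup.mk_one]
    have := Nat.dvd_gcd h2 h3
    rwa [show Nat.gcd (2 ^ k) 3 = 1 from Nat.Coprime.pow_left k (by decide)] at this
  let z' : B := ⟨z, D.UB (mem_inf.2 ⟨S.z_mem D.T.ht, S.hzQ⟩)⟩
  have hm : h' * (z' * h'⁻¹ * z'⁻¹) ∈ N := mul_mem hh (hN.conj_mem _ (inv_mem hh) z')
  set m := h' * (z' * h'⁻¹ * z'⁻¹)
  have hmv : (m : G) = h * z * h⁻¹ * z⁻¹ := by
    show h * (z * h⁻¹ * z⁻¹) = _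
    group
  have hm2 : m ^ 2 = 1 := Subtype.ext (by
    show (m : G) ^ 2 = 1
    rw [pow_two, hmv]
    exact S.eGroup_sq D.T.ht (mul_mem (D.T.hn z (S.z_mem D.T.ht)) (inv_mem (S.z_mem D.T.ht))))
  have hm1 : m ≠ 1 := fun e => D.T.hz (mul_inv_eq_one.1 (by rw [← hmv, e]; rfl))
  apply hodd
  have := orderOf_dvd_natCard (⟨m, hm⟩ : N)
  rw [← Subgroup.orderOf_coe] at this
  change orderOf m ∣ _ at this
  rwa [orderOf_eq_prime hm2 hm1] at this

theorem pow_inj {i j : Fin 3}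
    (e : h ^ (i : ℕ) * z * (h ^ (i : ℕ))⁻¹ = h ^ (j : ℕ) * z * (h ^ (j : ℕ))⁻¹) : i = j := by
  have a := D.T.hz
  have b := D.T.hz2
  have c := D.T.hz12
  fin_cases i <;> fin_cases j <;> simp at e ⊢ <;>
    first | exact a e | exact a e.symm | exact b e | exact b e.symm | exact c e | exact c e.symm

theorem card_twelve (hU : ∀ b ∈ B, ∀ u ∈ S.eGroup t ⊓ Q, b * u * b⁻¹ ∈ S.eGroup t) :
    Nat.card B = 12 := by
  have hnorm : ∀ b ∈ B, ∀ x, x ∈ S.eGroup t → b * x * b⁻¹ ∈ S.eGroup t := by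
    intro b hb x hx
    obtain ⟨v, hv, c, hc, rfl⟩ := D.split x (S.mem_eGroup.1 hx).2
    have hcE : c ∈ S.eGroup t := by
      simpa using mul_mem (inv_mem (D.T.mem_v.1 hv).1) hx
    have e : b * (v * c) * b⁻¹ = v * (b * c * b⁻¹) := by
      rw [show b * (v * c) * b⁻¹ = (b * v) * c * b⁻¹ by group, ← D.comm hv hb]; group
    rw [e]
    exact mul_mem (D.T.mem_v.1 hv).1 (hU b hb c (D.meet hc hcE))
  have h12 : Nat.card (Fin 3 × ↥(S.eGroup t ⊓ Q)) = Nat.card B := by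
    refine Nat.card_congr (Equiv.ofBijective
      (fun p => ⟨h ^ (p.1 : ℕ) * p.2.1, mul_mem (pow_mem D.hB _) (D.UB p.2.2)⟩) ⟨?_, ?_⟩)
    · rintro ⟨i, u⟩ ⟨j, u'⟩ e
      have e1 : h ^ (i : ℕ) * u.1 = h ^ (j : ℕ) * u'.1 := congrArg Subtype.val e
      have hconj : ∀ (n : ℕ) (v : ↥(S.eGroup t ⊓ Q)),
          h ^ n * v.1 * z * (h ^ n * v.1)⁻¹ = h ^ n * z * (h ^ n)⁻¹ := fun n v => by
        rw [mul_assoc (h ^ n), S.comm_z (S.mem_eGroup.1 (mem_inf.1 v.2).1).1]; group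
      have e2 : h ^ (i : ℕ) * z * (h ^ (i : ℕ))⁻¹ = h ^ (j : ℕ) * z * (h ^ (j : ℕ))⁻¹ := by
        rw [← hconj i u, e1, hconj j u']
      have hij : i = j := D.pow_inj e2
      subst hij
      exact Prod.ext rfl (Subtype.ext (mul_left_cancel e1))
    · rintro ⟨b, hb⟩
      obtain ⟨i, hi, he⟩ := D.T.norm_cases (D.hBX b hb) (hnorm b hb)
      exact ⟨(⟨i, hi⟩, ⟨_, D.meet (mul_mem (inv_mem (pow_mem D.hB i)) hb) he⟩),
        Subtype.ext (mul_inv_cancel_left _ _)⟩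
  rw [Nat.card_prod, Nat.card_fin, D.card_inf] at h12
  omega

/-- In the small case `U` is normal in `B`. -/
theorem twelve_norm (h12 : Nat.card B = 12) {b u : G} (hb : b ∈ B) (hu : u ∈ S.eGroup t ⊓ Q) :
    b * u * b⁻¹ ∈ S.eGroup t := by
  -- `B` is the product of the powers of `h` and `U`
  let f : Fin 3 × ↥(S.eGroup t ⊓ Q) → ↥B :=
    fun p => ⟨h ^ (p.1 : ℕ) * p.2.1, mul_mem (pow_mem D.hB _) (D.UB p.2.2)⟩
  have hinj : Function.Injective f := by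
    rintro ⟨i, u⟩ ⟨j, u'⟩ e
    have e1 : h ^ (i : ℕ) * u.1 = h ^ (j : ℕ) * u'.1 := congrArg Subtype.val e
    have hconj : ∀ (n : ℕ) (v : ↥(S.eGroup t ⊓ Q)),
        h ^ n * v.1 * z * (h ^ n * v.1)⁻¹ = h ^ n * z * (h ^ n)⁻¹ := fun n v => by
      rw [mul_assoc (h ^ n), S.comm_z (S.mem_eGroup.1 (mem_inf.1 v.2).1).1]; group
    have e2 : h ^ (i : ℕ) * z * (h ^ (i : ℕ))⁻¹ = h ^ (j : ℕ) * z * (h ^ (j : ℕ))⁻¹ := by
      rw [← hconj i u, e1, hconj j u']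
    have hij : i = j := D.pow_inj e2
    subst hij
    exact Prod.ext rfl (Subtype.ext (mul_left_cancel e1))
  have hbij : Function.Bijective f := hinj.bijective_of_nat_card_le (by
    rw [Nat.card_prod, Nat.card_fin, D.card_inf, h12])
  obtain ⟨⟨i, u₀⟩, e⟩ := hbij.2 ⟨b, hb⟩
  have e' : h ^ (i : ℕ) * u₀.1 = b := congrArg Subtype.val e
  rw [← e', show h ^ (i : ℕ) * u₀.1 * u * (h ^ (i : ℕ) * u₀.1)⁻¹ =
    h ^ (i : ℕ) * (u₀.1 * u * u₀.1⁻¹) * (h ^ (i : ℕ))⁻¹ by group,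
    S.eGroup_comm D.T.ht (mem_inf.1 u₀.2).1 (mem_inf.1 hu).1, mul_inv_cancel_right]
  exact D.T.hn_iter i (mem_inf.1 hu).1

theorem alt : Nonempty (↥B ≃* A5) ∨ Nat.card B = 12 := by
  classical
  by_cases hU : ∀ b ∈ B, ∀ u ∈ S.eGroup t ⊓ Q, b * u * b⁻¹ ∈ S.eGroup t
  · exact Or.inr (D.card_twelve hU)
  refine Or.inl (Cfsg.Agent.S3277.result
    (⟨z, D.UB (mem_inf.2 ⟨S.z_mem D.T.ht, S.hzQ⟩)⟩ : ↥B)
    (orderOf_eq_two.2 ⟨Subtype.ext S.zz, fun e => S.z_ne (congrArg Subtype.val e)⟩)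
    D.card_centralizer_z ?_ D.not_complement ?_)
  · intro c hc
    have hcE := (S.stab D.T.ht (S.z_mem D.T.ht) (IsConj.refl z)).2
      ⟨congrArg Subtype.val (mem_centralizer_singleton_iff.1 hc), D.hBX _ c.2⟩
    exact Subtype.ext (by show (c : G) ^ 2 = 1; rw [pow_two]; exact S.eGroup_sq D.T.ht hcE)
  rintro N hN ⟨-, hN2⟩
  have hconjU : ∀ x ∈ N, ∃ u, ∃ hu : u ∈ B, (⟨u, hu⟩ : B) ∈ N ∧ u ∈ S.eGroup t ⊓ Q ∧
      (u = 1 ↔ x = 1) := by
    intro x hx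
    obtain ⟨c, hct, hc⟩ := D.T.conj_into (D.hBX x x.2) (m := 1)
      (by rw [pow_one]; exact congrArg Subtype.val (hN2 x hx))
    obtain ⟨v, hv, k, hk, rfl⟩ := D.split c hct
    have e : v * k * (x : G) * (v * k)⁻¹ = k * x * k⁻¹ := by
      calc v * k * (x : G) * (v * k)⁻¹ = v * (k * x * k⁻¹) * v⁻¹ := by group
        _ = _ := by rw [D.comm hv (mul_mem (mul_mem hk x.2) (inv_mem hk)), mul_inv_cancel_right]
    rw [e] at hc
    refine ⟨_, mul_mem (mul_mem hk x.2) (inv_mem hk), hN.conj_mem x hx ⟨k, hk⟩,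
      D.meet (mul_mem (mul_mem hk x.2) (inv_mem hk)) hc, ?_⟩
    exact conj_eq_one_iff.trans OneMemClass.coe_eq_one
  have hne : Nat.card N ≠ 1 → ∃ u, ∃ hu : u ∈ B, (⟨u, hu⟩ : B) ∈ N ∧ u ∈ S.eGroup t ⊓ Q ∧ u ≠ 1 := by
    intro hN1
    obtain ⟨x, hx, hx1⟩ : ∃ x ∈ N, x ≠ 1 := by
      by_contra hall
      push Not at hall
      exact hN1 (by rw [Subgroup.card_eq_one, eq_bot_iff]; exact fun x hx => mem_bot.2 (hall x hx))
    obtain ⟨u, hu, h1, h2, h3⟩ := hconjU x hx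
    exact ⟨u, hu, h1, h2, fun e => hx1 (h3.1 e)⟩
  constructor
  · intro h2card
    obtain ⟨u, hu, huN, huU, hu1⟩ := hne (by omega)
    have hfix : h * u * h⁻¹ = u := by
      have hm := hN.conj_mem _ huN ⟨h, D.hB⟩
      obtain ⟨a, ha, hall⟩ := Nat.card_eq_two_iff' (1 : N) |>.1 h2card
      have h1 := hall ⟨_, huN⟩ (fun e => hu1 (congrArg (fun y : N => ((y : B) : G)) e))
      have h2 := hall ⟨_, hm⟩ (fun e => hu1 (by
        have : h * u * h⁻¹ = 1 := congrArg (fun y : N => ((y : B) : G)) e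
        exact conj_eq_one_iff.1 this))
      exact congrArg (fun y : N => ((y : B) : G)) (h2.trans h1.symm)
    have : u ∈ vGroup S t h ⊓ B :=
      mem_inf.2 ⟨D.T.mem_v.2 ⟨(mem_inf.1 huU).1, (mul_inv_eq_iff_eq_mul.1 hfix).symm⟩, hu⟩
    rw [D.inf, mem_bot] at this
    exact hu1 this
  · intro h4
    refine hU fun b hb u huU => ?_
    obtain ⟨u₀, hu₀, hu₀N, hu₀U, hu₀1⟩ := hne (by omega)
    let W : Subgroup G := N.map B.subtype
    have hWcard : Nat.card W = 4 := by rw [Subgroup.card_subtype, h4]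
    have hWn : ∀ c ∈ B, ∀ x ∈ W, c * x * c⁻¹ ∈ W := by
      rintro c hc _ ⟨x, hx, rfl⟩
      exact ⟨_, hN.conj_mem x hx ⟨c, hc⟩, rfl⟩
    have hu₀W : u₀ ∈ W := ⟨_, hu₀N, rfl⟩
    have hz₀ : IsConj z u₀ :=
      S.conjZ_of_mem (mem_inf.1 hu₀U).2 (S.eGroup_sq D.T.ht (mem_inf.1 hu₀U).1) hu₀1
    have h4h : h ^ 4 = h := by rw [pow_succ, D.T.h3, one_mul]
    have hzW : z ∈ W := by
      rcases D.T.ztype_cases (mem_inf.1 hu₀U).1 hz₀ with e | e | e
      · exact e ▸ hu₀W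
      · have := hWn (h ^ 2) (pow_mem D.hB 2) _ hu₀W
        rwa [e, show h ^ 2 * (h * z * h⁻¹) * (h ^ 2)⁻¹ = h ^ 3 * z * (h ^ 3)⁻¹ by
          rw [pow_succ h 2]; group, D.T.h3, inv_one, one_mul, mul_one] at this
      · have := hWn h D.hB _ hu₀W
        rwa [e, show h * (h ^ 2 * z * (h ^ 2)⁻¹) * h⁻¹ = h ^ 3 * z * (h ^ 3)⁻¹ by
          rw [pow_succ' h 2]; group, D.T.h3, inv_one, one_mul, mul_one] at this
    have hsub : S.eGroup t ⊓ Q ≤ W := by
      intro x hx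
      by_cases hx1 : x = 1
      · exact hx1 ▸ one_mem W
      rcases D.T.ztype_cases (mem_inf.1 hx).1
        (S.conjZ_of_mem (mem_inf.1 hx).2 (S.eGroup_sq D.T.ht (mem_inf.1 hx).1) hx1) with e | e | e
      · exact e ▸ hzW
      · exact e ▸ hWn h D.hB z hzW
      · exact e ▸ hWn (h ^ 2) (pow_mem D.hB 2) z hzW
    have heq := Subgroup.eq_of_le_of_card_ge hsub (by rw [hWcard, D.card_inf])
    have := hWn b hb u (heq ▸ huU)
    rw [← heq] at this
    exact (mem_inf.1 this).1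

end TData

theorem Setting.exists_tdata (S : Setting z Q) {t : G} (ht : Outer z Q t) :
    ∃ h B, TData S t h B := by
  classical
  obtain ⟨h, T⟩ := S.exists_three' ht
  obtain ⟨hV4, hdis, hsup, htV⟩ := T.parts
  set X := centralizer ({t} : Set G) with hX
  set V := vGroup S t h with hV
  set E := S.eGroup t with hE
  set U := E ⊓ Q with hU
  have hVE : V ≤ E := inf_le_left
  have hEX : E ≤ X := fun x hx => mem_centralizer_singleton_iff.2 (S.mem_eGroup.1 hx).2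
  have hVX : V ≤ X := hVE.trans hEX
  have hcen : ∀ v : X, (v : G) ∈ V → ∀ x : X, x * v = v * x := fun v hv x =>
    Subtype.ext (T.central hv (mem_centralizer_singleton_iff.1 x.2))
  have : (V.subgroupOf X).Normal := ⟨fun v hv x => by
    rwa [hcen v hv x, mul_inv_cancel_right]⟩
  have : IsMulCommutative (V.subgroupOf X) := ⟨⟨fun a b => Subtype.ext (hcen b.1 b.2 a.1)⟩⟩
  have hcop : (Nat.card (V.subgroupOf X)).Coprime (E.subgroupOf X).index := by
    have : Fact (Nat.Prime 2) := ⟨Nat.prime_two⟩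
    obtain ⟨P, hP⟩ := T.exists_sylow
    rw [Nat.card_congr (Subgroup.subgroupOfEquivOfLe hVX).toEquiv, hV4, show (4 : ℕ) = 2 ^ 2 from rfl,
      ← hP]
    exact Nat.Coprime.pow_left 2 ((Nat.prime_two.coprime_iff_not_dvd).2 P.not_dvd_index)
  obtain ⟨H, hH⟩ := CfsgLib.Gaschutz.exists_complement
    (K := V.subgroupOf X) (U := E.subgroupOf X) (A := U.subgroupOf X)
    ⟨Subgroup.comap_mono hVE, Subgroup.comap_mono inf_le_left,
      by rw [eq_bot_iff]; intro x hx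
         have : (x : G) ∈ V ⊓ U := mem_inf.2 ⟨(mem_inf.1 hx).2, (mem_inf.1 hx).1⟩
         rw [hdis, mem_bot] at this
         exact mem_bot.2 (Subtype.ext this),
      by refine le_antisymm (sup_le (Subgroup.comap_mono hVE) (Subgroup.comap_mono inf_le_left)) ?_
         rw [← Subgroup.subgroupOf_sup hVX ((inf_le_left).trans hEX), hsup]⟩ hcop
  set B := H.map X.subtype with hB
  have hmemB : ∀ x (hx : x ∈ X), x ∈ B ↔ (⟨x, hx⟩ : X) ∈ H := fun x hx =>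
    ⟨fun ⟨y, hy, e⟩ => by
      have : y = ⟨x, hx⟩ := Subtype.ext e
      exact this ▸ hy, fun hy => ⟨_, hy, rfl⟩⟩
  have hBX : ∀ b ∈ B, b * t = t * b := fun b hb =>
    mem_centralizer_singleton_iff.1 (map_subtype_le _ hb)
  have hinf : V ⊓ B = ⊥ := by
    rw [eq_bot_iff]
    intro x hx
    obtain ⟨hxV, hxB⟩ := mem_inf.1 hx
    have : (⟨x, hVX hxV⟩ : X) ∈ V.subgroupOf X ⊓ H := mem_inf.2 ⟨hxV, (hmemB x _).1 hxB⟩
    rw [hH.disjoint.eq_bot, mem_bot] at this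
    exact mem_bot.2 (congrArg Subtype.val this)
  have hsplit : ∀ x, x * t = t * x → ∃ v ∈ V, ∃ b ∈ B, x = v * b := by
    intro x hx
    obtain ⟨⟨v, b⟩, e, -⟩ :=
      Subgroup.isComplement_iff_existsUnique.1 hH (⟨x, mem_centralizer_singleton_iff.2 hx⟩ : X)
    exact ⟨((v : X) : G), v.2, ((b : X) : G), ⟨_, b.2, rfl⟩, (congrArg Subtype.val e).symm⟩
  have hcomm : ∀ v ∈ V, ∀ x ∈ X, v * x = x * v := fun v hv x hx =>
    (T.central hv (mem_centralizer_singleton_iff.1 hx)).symm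
  have hcomb : ∀ a b, a * t = t * a → b * t = t * b → a * b * a⁻¹ * b⁻¹ ∈ B := by
    intro a b ha hb
    obtain ⟨v, hv, k, hk, rfl⟩ := hsplit a ha
    obtain ⟨v', hv', k', hk', rfl⟩ := hsplit b hb
    have hkX := map_subtype_le H hk
    have hk'X := map_subtype_le H hk'
    have e : v * k * (v' * k') * (v * k)⁻¹ * (v' * k')⁻¹ = k * k' * k⁻¹ * k'⁻¹ := by
      have h1 : ∀ y ∈ X, v * y * v⁻¹ = y := fun y hy => by rw [hcomm v hv y hy, mul_inv_cancel_right]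
      have h2 : ∀ y ∈ X, v' * y * v'⁻¹ = y := fun y hy => by
        rw [hcomm v' hv' y hy, mul_inv_cancel_right]
      calc v * k * (v' * k') * (v * k)⁻¹ * (v' * k')⁻¹
          = v * (k * v' * k' * k⁻¹) * v⁻¹ * k'⁻¹ * v'⁻¹ := by group
        _ = (v' * k) * k' * k⁻¹ * k'⁻¹ * v'⁻¹ := by
            rw [h1 _ (mul_mem (mul_mem (mul_mem hkX (hVX hv')) hk'X) (inv_mem hkX)),
              ← hcomm v' hv' k hkX]
        _ = v' * (k * k' * k⁻¹ * k'⁻¹) * v'⁻¹ := by group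
        _ = _ := h2 _ (mul_mem (mul_mem (mul_mem hkX hk'X) (inv_mem hkX)) (inv_mem hk'X))
    rw [e]
    exact mul_mem (mul_mem (mul_mem hk hk') (inv_mem hk)) (inv_mem hk')
  have hbz : ∀ u, u ∈ E → h * u * h⁻¹ * u⁻¹ ∈ B := fun u hu =>
    hcomb h u T.hht (S.mem_eGroup.1 hu).2
  have hUB : U ≤ B := by
    set a := h * z * h⁻¹ with ha
    set d := h ^ 2 * z * (h ^ 2)⁻¹ with hd
    have hd' : h * a * h⁻¹ = d := by rw [ha, hd, pow_two]; group
    have haE := T.hn z (S.z_mem ht)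
    have hdE := T.hn_iter 2 (S.z_mem ht)
    have hcases : ∀ u ∈ U, u ≠ 1 → u = z ∨ u = a ∨ u = d := fun u hu hu1 =>
      T.ztype_cases (mem_inf.1 hu).1
        (S.conjZ_of_mem (mem_inf.1 hu).2 (S.eGroup_sq ht (mem_inf.1 hu).1) hu1)
    have hin : ∀ u, u ∈ E → IsConj z u → u ∈ U := fun u hu hu' =>
      mem_inf.2 ⟨hu, S.z_type_mem (S.mem_eGroup.1 hu).1 hu'⟩
    have hzU := hin z (S.z_mem ht) (IsConj.refl z)
    have haU := hin a haE (isConj_iff.2 ⟨h, rfl⟩)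
    have hdU := hin d hdE (isConj_iff.2 ⟨h ^ 2, rfl⟩)
    have p1 : a * z⁻¹ ∈ B ⊓ U := mem_inf.2 ⟨hbz z (S.z_mem ht), mul_mem haU (inv_mem hzU)⟩
    have p2 : d * a⁻¹ ∈ B ⊓ U := mem_inf.2 ⟨by rw [← hd']; exact hbz a haE, mul_mem hdU (inv_mem haU)⟩
    intro u hu
    suffices hle : B ⊓ U = U from (mem_inf.1 (hle.symm ▸ hu : u ∈ B ⊓ U)).1
    refine Subgroup.eq_of_le_of_card_ge inf_le_right ?_
    rw [hU, hE, (S.eGroup_inf ht).1, ← hE, ← hU]
    have hne1 : a * z⁻¹ ≠ 1 := fun e => T.hz (mul_inv_eq_one.1 e)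
    have hne2 : d * a⁻¹ ≠ 1 := fun e => T.hz12 (mul_inv_eq_one.1 e)
    have hne3 : a * z⁻¹ ≠ d * a⁻¹ := by
      intro e
      refine T.hz2 ?_
      have ha2 : a * a = 1 := S.eGroup_sq ht haE
      calc d = (d * a⁻¹) * a := by group
        _ = (z⁻¹ * a) * a := by rw [← e, S.eGroup_comm ht haE (inv_mem (S.z_mem ht))]
        _ = z := by rw [mul_assoc, ha2, mul_one, S.z_inv]
    have h3 : 3 ≤ Nat.card ↥(B ⊓ U) := by
      have := Fintype.ofFinite G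
      rw [Nat.card_eq_fintype_card]
      refine le_trans (le_of_eq ?_) (Finset.card_le_univ
        ({⟨1, one_mem _⟩, ⟨_, p1⟩, ⟨_, p2⟩} : Finset ↥(B ⊓ U)))
      rw [eq_comm, Finset.card_eq_three]
      exact ⟨_, _, _, fun e => hne1 (congrArg Subtype.val e).symm,
        fun e => hne2 (congrArg Subtype.val e).symm, fun e => hne3 (congrArg Subtype.val e), rfl⟩
    have hd4 : Nat.card ↥(B ⊓ U) ∣ 4 := by
      have := Subgroup.card_dvd_of_le (inf_le_right : B ⊓ U ≤ U)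
      rwa [show Nat.card U = 4 from (S.eGroup_inf ht).1] at this
    have := Nat.le_of_dvd (by norm_num) hd4
    interval_cases hc : Nat.card ↥(B ⊓ U) <;> omega
  have hhB : h ∈ B := by
    obtain ⟨v, hv, k, hk, e⟩ := hsplit h T.hht
    have hc : Commute v k := hcomm v hv k (map_subtype_le H hk)
    have h3 := T.h3
    rw [e, hc.mul_pow] at h3
    have hv3 : v ^ 3 ∈ V ⊓ B :=
      mem_inf.2 ⟨pow_mem hv 3, by rw [eq_inv_of_mul_eq_one_left h3]; exact inv_mem (pow_mem hk 3)⟩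
    rw [hinf, mem_bot] at hv3
    have hv1 : v = 1 := by
      rw [pow_succ, pow_two, S.eGroup_sq ht (hVE hv), one_mul] at hv3
      exact hv3
    rw [e, hv1, one_mul]
    exact hk
  refine ⟨h, B, T, hBX, hinf, hsplit, hhB, hUB, ?_⟩
  intro x hx
  obtain ⟨hxB, hxE⟩ := mem_inf.1 hx
  have hnV : V ≤ normalizer (U : Set G) := by
    intro v hv
    have key : ∀ y ∈ E, v * y * v⁻¹ = y := fun y hy => by
      rw [S.eGroup_comm ht (hVE hv) hy, mul_inv_cancel_right]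
    rw [mem_normalizer_iff]
    intro y
    constructor
    · intro hy; rwa [key y (mem_inf.1 hy).1]
    · intro hy
      have hyE : y ∈ E := by
        simpa [mul_assoc] using mul_mem (mul_mem (inv_mem (hVE hv)) (mem_inf.1 hy).1) (hVE hv)
      rwa [key y hyE] at hy
  rw [show S.eGroup t = V ⊔ U from hsup.symm] at hxE
  have : x ∈ ((V : Set G) * (U : Set G)) := by
    rw [← Subgroup.coe_mul_of_left_le_normalizer_right V U hnV]; exact hxE
  obtain ⟨v, hv, u, hu, rfl⟩ := this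
  have hvB : v ∈ V ⊓ B := mem_inf.2 ⟨hv, by simpa using mul_mem hxB (inv_mem (hUB hu))⟩
  rw [hinf, mem_bot] at hvB
  show v * u ∈ U
  rw [hvB, one_mul]
  exact hu

end CfsgLib.HJType
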