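import Cfsg.Agent.Lib.HJType.Triple
import Cfsg.Agent.Lib.InvChar.SymSixParts
import Cfsg.Agent.Lib.Involutions.BrauerSuzuki

/-!
Fusion in the centraliser of an outer involution: its four group of fixed points is central.
-/

set_option autoImplicit false
set_option linter.unusedSectionVars false

namespace CfsgLib.HJType

open Subgroup

variable {G : Type*} [Group G] [Finite G] {z : G} {Q : Subgroup G}

/-- An element of order three on `E` centralising `t`. -/
structure Three (S : Setting z Q) (t h : G) : Prop where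
  ht : Outer z Q t
  h3 : h ^ 3 = 1
  hht : h * t = t * h
  hz : h * z * h⁻¹ ≠ z
  hn : ∀ x, x ∈ S.eGroup t → h * x * h⁻¹ ∈ S.eGroup t

/-- The fixed points of `h` on `E`. -/
def vGroup (S : Setting z Q) (t h : G) : Subgroup G := S.eGroup t ⊓ centralizer ({h} : Set G)

theorem Setting.exists_three' (S : Setting z Q) {t : G} (ht : Outer z Q t) : ∃ h, Three S t h := by
  obtain ⟨h, a, b, c, d⟩ := S.exists_three ht
  exact ⟨h, ht, a, b, c, d⟩

theorem fixed_point_two {α : Type*} [Fintype α] (hc : Odd (Fintype.card α)) {σ : Equiv.Perm α} {m : ℕ}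
    (hσ : σ ^ 2 ^ m = 1) : ∃ a, σ a = a := by
  have : Fact (Nat.Prime 2) := ⟨Nat.prime_two⟩
  exact Equiv.Perm.exists_fixed_point_of_prime (p := 2) (n := m)
    (fun h => (Nat.not_even_iff_odd.2 hc) (even_iff_two_dvd.2 h)) hσ

namespace Three

variable {S : Setting z Q} {t h : G} (T : Three S t h)
include T

theorem parts : Nat.card ↥(vGroup S t h) = 4 ∧ vGroup S t h ⊓ (S.eGroup t ⊓ Q) = ⊥ ∧
    vGroup S t h ⊔ (S.eGroup t ⊓ Q) = S.eGroup t ∧ t ∈ vGroup S t h :=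
  S.fixed_part T.ht T.h3 T.hht T.hz T.hn

theorem mem_v {x : G} : x ∈ vGroup S t h ↔ x ∈ S.eGroup t ∧ x * h = h * x := by
  rw [vGroup, mem_inf, mem_centralizer_singleton_iff]

theorem v_not_Q {x : G} (hx : x ∈ vGroup S t h) (hx1 : x ≠ 1) : x ∉ Q := fun hQ => hx1 (by
  have : x ∈ vGroup S t h ⊓ (S.eGroup t ⊓ Q) := mem_inf.2 ⟨hx, mem_inf.2 ⟨(T.mem_v.1 hx).1, hQ⟩⟩
  rwa [T.parts.2.1, mem_bot] at this)

theorem hn_iter (i : ℕ) {x : G} (hx : x ∈ S.eGroup t) : h ^ i * x * (h ^ i)⁻¹ ∈ S.eGroup t := by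
  induction i with
  | zero => simpa using hx
  | succ n ih =>
    rw [pow_succ', show h * h ^ n * x * (h * h ^ n)⁻¹ = h * (h ^ n * x * (h ^ n)⁻¹) * h⁻¹ by group]
    exact T.hn _ ih

theorem hz2 : h ^ 2 * z * (h ^ 2)⁻¹ ≠ z := fun e => T.hz (by
  have h4 : h ^ 4 = h := by rw [pow_succ, T.h3, one_mul]
  calc h * z * h⁻¹ = h ^ 4 * z * (h ^ 4)⁻¹ := by rw [h4]
    _ = h ^ 2 * (h ^ 2 * z * (h ^ 2)⁻¹) * (h ^ 2)⁻¹ := by
        rw [show h ^ 4 = h ^ 2 * h ^ 2 from pow_add h 2 2]; group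
    _ = z := by rw [e, e])

theorem hz12 : h ^ 2 * z * (h ^ 2)⁻¹ ≠ h * z * h⁻¹ := fun e => T.hz (by
  rw [pow_two, show h * h * z * (h * h)⁻¹ = h * (h * z * h⁻¹) * h⁻¹ by group] at e
  exact mul_left_cancel (mul_right_cancel e))

/-- The three conjugates of `z` inside `E`. -/
theorem ztype_cases {u : G} (hu : u ∈ S.eGroup t) (huz : IsConj z u) :
    u = z ∨ u = h * z * h⁻¹ ∨ u = h ^ 2 * z * (h ^ 2)⁻¹ := by
  obtain ⟨-, w, hw, -, hiff⟩ := S.eGroup_inf T.ht
  have htype : ∀ x, x ∈ S.eGroup t → IsConj z x → x = z ∨ x = w ∨ x = z * w := by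
    intro x hx hxz
    refine ((hiff x).1 (mem_inf.2 ⟨hx, S.z_type_mem (S.mem_eGroup.1 hx).1 hxz⟩)).resolve_left ?_
    rintro rfl
    obtain ⟨g, hg⟩ := isConj_iff.1 hxz
    exact S.z_ne (by simpa [mul_assoc] using congrArg (fun v => g⁻¹ * v * g) hg)
  by_cases h1 : u = z
  · exact Or.inl h1
  by_cases h2 : u = h * z * h⁻¹
  · exact Or.inr (Or.inl h2)
  refine Or.inr (Or.inr ?_)
  exact third_point (htype _ (T.hn z (S.z_mem T.ht)) (isConj_iff.2 ⟨h, rfl⟩)) (htype u hu huz)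
    (htype _ (T.hn_iter 2 (S.z_mem T.ht)) (isConj_iff.2 ⟨h ^ 2, rfl⟩)) T.hz h1 h2 T.hz2 T.hz12

/-- The normaliser of `E` in the centraliser of `t`. -/
theorem norm_cases {k : G} (hkt : k * t = t * k)
    (hk : ∀ x, x ∈ S.eGroup t → k * x * k⁻¹ ∈ S.eGroup t) :
    ∃ i : ℕ, i < 3 ∧ (h ^ i)⁻¹ * k ∈ S.eGroup t := by
  obtain ⟨i, hi, e⟩ : ∃ i : ℕ, i < 3 ∧ k * z * k⁻¹ = h ^ i * z * (h ^ i)⁻¹ := by
    rcases T.ztype_cases (hk z (S.z_mem T.ht)) (isConj_iff.2 ⟨k, rfl⟩) with e | e | e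
    · exact ⟨0, by omega, by simpa using e⟩
    · exact ⟨1, by omega, by simpa using e⟩
    · exact ⟨2, by omega, e⟩
  refine ⟨i, hi, (S.stab T.ht (S.z_mem T.ht) (IsConj.refl z)).2 ⟨?_, ?_⟩⟩
  · refine mul_inv_eq_iff_eq_mul.1 ?_
    calc (h ^ i)⁻¹ * k * z * ((h ^ i)⁻¹ * k)⁻¹ = (h ^ i)⁻¹ * (k * z * k⁻¹) * h ^ i := by group
      _ = z := by rw [e]; group
  · exact (((show Commute h t from T.hht).pow_left i).inv_left.mul_left (show Commute k t from hkt)).eq

theorem norm_fix {k : G} (hkt : k * t = t * k)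
    (hk : ∀ x, x ∈ S.eGroup t → k * x * k⁻¹ ∈ S.eGroup t) {v : G} (hv : v ∈ vGroup S t h) :
    k * v * k⁻¹ = v := by
  obtain ⟨i, -, he⟩ := T.norm_cases hkt hk
  obtain ⟨hvE, hvh⟩ := T.mem_v.1 hv
  refine mul_inv_eq_iff_eq_mul.2 ?_
  calc k * v = h ^ i * ((h ^ i)⁻¹ * k * v) := by group
    _ = h ^ i * (v * ((h ^ i)⁻¹ * k)) := by rw [S.eGroup_comm T.ht he hvE]
    _ = (h ^ i * v) * ((h ^ i)⁻¹ * k) := by group
    _ = (v * h ^ i) * ((h ^ i)⁻¹ * k) := by
        rw [((show Commute h v from hvh.symm).pow_left i).eq]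
    _ = v * k := by group

theorem norm_two {k : G} {m : ℕ} (hkt : k * t = t * k)
    (hk : ∀ x, x ∈ S.eGroup t → k * x * k⁻¹ ∈ S.eGroup t) (hk2 : k ^ 2 ^ m = 1) :
    k ∈ S.eGroup t := by
  classical
  have := Fintype.ofFinite G
  let α := {u : G // u ∈ S.eGroup t ∧ IsConj z u}
  have hcard : Fintype.card α = 3 := by
    rw [Fintype.card_subtype]
    have e : (Finset.univ.filter fun u => u ∈ S.eGroup t ∧ IsConj z u) =
        {z, h * z * h⁻¹, h ^ 2 * z * (h ^ 2)⁻¹} := by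
      ext u
      simp only [Finset.mem_filter, Finset.mem_univ, true_and, Finset.mem_insert, Finset.mem_singleton]
      constructor
      · exact fun hu => T.ztype_cases hu.1 hu.2
      · rintro (rfl | rfl | rfl)
        · exact ⟨S.z_mem T.ht, IsConj.refl _⟩
        · exact ⟨T.hn z (S.z_mem T.ht), isConj_iff.2 ⟨h, rfl⟩⟩
        · exact ⟨T.hn_iter 2 (S.z_mem T.ht), isConj_iff.2 ⟨h ^ 2, rfl⟩⟩
    rw [e, Finset.card_eq_three]
    exact ⟨_, _, _, T.hz.symm, T.hz2.symm, T.hz12.symm, rfl⟩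
  let f : α → α := fun u => ⟨k * u.1 * k⁻¹, hk _ u.2.1, u.2.2.trans (isConj_iff.2 ⟨k, rfl⟩)⟩
  have hinj : Function.Injective f := fun a b e =>
    Subtype.ext (mul_left_cancel (mul_right_cancel (congrArg Subtype.val e)))
  let σ := Equiv.ofBijective f (Finite.injective_iff_bijective.1 hinj)
  have hpow : ∀ (n : ℕ) (u : α), ((σ ^ n) u).1 = k ^ n * u.1 * (k ^ n)⁻¹ := by
    intro n
    induction n with
    | zero => simp
    | succ n ih =>
      intro u
      rw [pow_succ', Equiv.Perm.mul_apply]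
      show k * ((σ ^ n) u).1 * k⁻¹ = _
      rw [ih, pow_succ']; group
  obtain ⟨u, hu⟩ := fixed_point_two (σ := σ) (m := m) (by rw [hcard]; decide)
    (by ext u; rw [hpow, hk2]; simp)
  exact (S.stab T.ht u.2.1 u.2.2).2
    ⟨mul_inv_eq_iff_eq_mul.1 (congrArg Subtype.val hu), hkt⟩

theorem exists_sylow : ∃ P : Sylow 2 ↥(centralizer ({t} : Set G)),
    (P : Subgroup ↥(centralizer ({t} : Set G))) = (S.eGroup t).subgroupOf (centralizer ({t} : Set G)) := by
  have : Fact (Nat.Prime 2) := ⟨Nat.prime_two⟩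
  set X := centralizer ({t} : Set G) with hX
  have h2 : IsPGroup 2 ((S.eGroup t).subgroupOf X) := fun x =>
    ⟨1, Subtype.ext (Subtype.ext (by
      show ((x : X) : G) ^ 2 ^ 1 = 1
      rw [pow_one, pow_two]; exact S.eGroup_sq T.ht x.2))⟩
  obtain ⟨P, hP⟩ := h2.exists_le_sylow
  refine ⟨P, (le_antisymm hP ?_).symm⟩
  by_contra hne
  have hlt : ((S.eGroup t).subgroupOf X).subgroupOf (P : Subgroup X) < ⊤ :=
    lt_top_iff_ne_top.2 fun e => hne (Subgroup.subgroupOf_eq_top.1 e)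
  have : Group.IsNilpotent (P : Subgroup X) := P.isPGroup'.isNilpotent
  obtain ⟨n, hnN, hnS⟩ := SetLike.exists_of_lt (Group.normalizerCondition_of_isNilpotent _ hlt)
  have hnorm : ∀ x, x ∈ S.eGroup t → ((n : X) : G) * x * ((n : X) : G)⁻¹ ∈ S.eGroup t := by
    intro x hx
    have hxX : x ∈ X := mem_centralizer_singleton_iff.2 (S.mem_eGroup.1 hx).2
    exact (mem_normalizer_iff.1 hnN ⟨⟨x, hxX⟩, hP hx⟩).1 hx
  obtain ⟨m, hm⟩ := P.isPGroup' n
  exact hnS (T.norm_two (mem_centralizer_singleton_iff.1 (n : X).2) hnorm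
    (by simpa using congrArg (fun x : ↥(P : Subgroup X) => ((x : X) : G)) hm))

theorem conj_into {x : G} (hxt : x * t = t * x) {m : ℕ} (hx : x ^ 2 ^ m = 1) :
    ∃ c, c * t = t * c ∧ c * x * c⁻¹ ∈ S.eGroup t := by
  have : Fact (Nat.Prime 2) := ⟨Nat.prime_two⟩
  set X := centralizer ({t} : Set G) with hX
  obtain ⟨P, hP⟩ := T.exists_sylow
  let x' : X := ⟨x, mem_centralizer_singleton_iff.2 hxt⟩
  have hp : IsPGroup 2 (zpowers x') := by
    intro y
    refine ⟨m, Subtype.ext ?_⟩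
    obtain ⟨i, hi⟩ := y.2
    show (y : X) ^ 2 ^ m = 1
    rw [← hi, ← zpow_natCast, ← zpow_mul, mul_comm, zpow_mul, zpow_natCast,
      show x' ^ 2 ^ m = 1 from Subtype.ext hx, one_zpow]
  obtain ⟨P', hP'⟩ := hp.exists_le_sylow
  obtain ⟨g, hg⟩ := MulAction.exists_smul_eq X P' P
  refine ⟨g, mem_centralizer_singleton_iff.1 g.2, ?_⟩
  have : g * x' * g⁻¹ ∈ (P : Subgroup X) := by
    rw [← hg, Sylow.coe_subgroup_smul, Subgroup.mem_pointwise_smul_iff_inv_smul_mem]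
    exact hP' (by simp [mul_assoc])
  rw [hP] at this
  exact this

/-- Burnside: no element of `V` is fused in `C(t)` to another element of `E`. -/
theorem no_fusion {v g : G} (hv : v ∈ vGroup S t h) (hgt : g * t = t * g)
    (hg : g * v * g⁻¹ ∈ S.eGroup t) : g * v * g⁻¹ = v := by
  have : Fact (Nat.Prime 2) := ⟨Nat.prime_two⟩
  set X := centralizer ({t} : Set G) with hX
  obtain ⟨P, hP⟩ := T.exists_sylow
  have : IsMulCommutative (P : Subgroup X) := by
    rw [hP]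
    exact ⟨⟨fun a b => Subtype.ext (Subtype.ext (S.eGroup_comm T.ht a.2 b.2))⟩⟩
  let v' : X := ⟨v, mem_centralizer_singleton_iff.2 (S.mem_eGroup.1 (T.mem_v.1 hv).1).2⟩
  let g' : X := ⟨g, mem_centralizer_singleton_iff.2 hgt⟩
  obtain ⟨n, hn, e⟩ := P.conj_eq_normalizer_conj_of_mem v' g'⁻¹
    (show v' ∈ (P : Subgroup ↥(centralizer ({t} : Set G))) by rw [hP]; exact (T.mem_v.1 hv).1)
    (show g'⁻¹⁻¹ * v' * g'⁻¹ ∈ (P : Subgroup ↥(centralizer ({t} : Set G))) by
      rw [inv_inv, hP]; exact hg)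
  rw [inv_inv] at e
  have e' : g * v * g⁻¹ = (n : G)⁻¹ * v * (n : G) := congrArg Subtype.val e
  rw [e']
  have hk : ∀ x, x ∈ S.eGroup t → (n : G)⁻¹ * x * (n : G)⁻¹⁻¹ ∈ S.eGroup t := by
    intro x hx
    have hm := (mem_normalizer_iff.1 (inv_mem hn)
      (⟨x, mem_centralizer_singleton_iff.2 (S.mem_eGroup.1 hx).2⟩ : X)).1 (by rw [hP]; exact hx)
    rw [hP] at hm
    exact hm
  have := T.norm_fix (mem_centralizer_singleton_iff.1 (inv_mem (n : X).2)) hk hv
  rwa [inv_inv] at this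

theorem isolated {v : G} (hv : v ∈ vGroup S t h) (hv1 : v ≠ 1)
    (hvX : v ∈ centralizer ({t} : Set G)) :
    Cfsg.IsIsolatedInvolution (⟨v, hvX⟩ : ↥(centralizer ({t} : Set G))) := by
  have hv2 : v * v = 1 := S.eGroup_sq T.ht (T.mem_v.1 hv).1
  refine ⟨orderOf_eq_two.2 ⟨Subtype.ext hv2, fun e => hv1 (congrArg Subtype.val e)⟩, ?_⟩
  rintro ⟨g, hg⟩ hcomm
  have hgt := mem_centralizer_singleton_iff.1 hg
  set v₁ := g * v * g⁻¹ with hv₁
  have hc' : v * v₁ = v₁ * v := congrArg Subtype.val hcomm.eq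
  refine Subtype.ext ?_
  show v₁ = v
  -- both lie in a conjugate of `E`
  obtain ⟨c, hc⟩ : ∃ c, c * t = t * c ∧ c * v * c⁻¹ ∈ S.eGroup t ∧ c * v₁ * c⁻¹ ∈ S.eGroup t := by
    have : Fact (Nat.Prime 2) := ⟨Nat.prime_two⟩
    set X := centralizer ({t} : Set G) with hX
    let a : X := ⟨v, hvX⟩
    let b : X := ⟨v₁, mul_mem (mul_mem hg hvX) (inv_mem hg)⟩
    have ha : a * a = 1 := Subtype.ext hv2
    have hb : b * b = 1 := Subtype.ext (by
      show v₁ * v₁ = 1
      rw [hv₁, show g * v * g⁻¹ * (g * v * g⁻¹) = g * (v * v) * g⁻¹ by group, hv2]; group)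
    have hab : Commute a b := Subtype.ext hc'
    have key : ∀ x ∈ closure ({a, b} : Set X), x * x = 1 ∧ Commute x a ∧ Commute x b := by
      intro x hx
      induction hx using Subgroup.closure_induction'' with
      | one => exact ⟨mul_one 1, Commute.one_left a, Commute.one_left b⟩
      | mem x hx =>
        rcases hx with rfl | rfl
        · exact ⟨ha, Commute.refl _, hab⟩
        · exact ⟨hb, hab.symm, Commute.refl _⟩
      | inv_mem x hx =>
        rcases hx with rfl | rfl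
        · rw [inv_eq_of_mul_eq_one_right ha]; exact ⟨ha, Commute.refl _, hab⟩
        · rw [inv_eq_of_mul_eq_one_right hb]; exact ⟨hb, hab.symm, Commute.refl _⟩
      | mul x y hx hy ihx ihy =>
        have hxy : Commute x y := by
          have : y ∈ centralizer ({x} : Set X) := by
            refine (closure_le (K := centralizer ({x} : Set X))).2 ?_ hy
            rintro u (rfl | rfl)
            · exact mem_centralizer_singleton_iff.2 ihx.2.1.symm.eq
            · exact mem_centralizer_singleton_iff.2 ihx.2.2.symm.eq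
          exact (mem_centralizer_singleton_iff.1 this).symm
        refine ⟨?_, ihx.2.1.mul_left ihy.2.1, ihx.2.2.mul_left ihy.2.2⟩
        calc x * y * (x * y) = x * (y * x) * y := by group
          _ = (x * x) * (y * y) := by rw [← hxy.eq]; group
          _ = 1 := by rw [ihx.1, ihy.1, one_mul]
    have hp : IsPGroup 2 (closure ({a, b} : Set X)) := fun x =>
      ⟨1, Subtype.ext (by rw [pow_one, Subgroup.coe_pow, pow_two]; exact (key x.1 x.2).1)⟩
    obtain ⟨P, hP⟩ := T.exists_sylow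
    obtain ⟨P', hP'⟩ := hp.exists_le_sylow
    obtain ⟨c, hc⟩ := MulAction.exists_smul_eq X P' P
    have h' : ∀ x ∈ closure ({a, b} : Set X), c * x * c⁻¹ ∈ (P : Subgroup X) := fun x hx => by
      rw [← hc, Sylow.coe_subgroup_smul, Subgroup.mem_pointwise_smul_iff_inv_smul_mem]
      exact hP' (by simpa [mul_assoc] using hx)
    rw [hP] at h'
    exact ⟨c, mem_centralizer_singleton_iff.1 c.2, h' a (subset_closure (Or.inl rfl)),
      h' b (subset_closure (Or.inr rfl))⟩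
  obtain ⟨hct, hc1, hc2⟩ := hc
  have e1 := T.no_fusion hv hct hc1
  have e2 : c * g * v * (c * g)⁻¹ = v := T.no_fusion hv
    ((show Commute c t from hct).mul_left (show Commute g t from hgt)).eq
    (by rw [show c * g * v * (c * g)⁻¹ = c * v₁ * c⁻¹ by rw [hv₁]; group]; exact hc2)
  have e3 : c * v₁ * c⁻¹ = c * v * c⁻¹ := by
    rw [e1, hv₁]
    calc c * (g * v * g⁻¹) * c⁻¹ = c * g * v * (c * g)⁻¹ := by group
      _ = v := e2
  exact mul_left_cancel (mul_right_cancel e3)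

/-- The centraliser of `t` has no normal subgroup of odd order. -/
theorem core_trivial : Cfsg.pPrimeCore 2 ↥(centralizer ({t} : Set G)) = ⊥ := by
  obtain ⟨-, w, hw, hwt, hiff⟩ := S.eGroup_inf T.ht
  set X := centralizer ({t} : Set G) with hX
  set O := Cfsg.pPrimeCore 2 ↥X with hO
  have hodd : Odd (Nat.card O) := Nat.coprime_two_right.1 CfsgLib.PCore.pPrimeCore_coprime
  have hnor : O.Normal := Cfsg.pPrimeCore_normal 2 ↥X
  have hfix : ∀ (u : G) (hu : u ∈ X), u ∈ S.eGroup t → IsConj z u →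
      ∀ x ∈ O, (⟨u, hu⟩ : X) * x = x * ⟨u, hu⟩ → x = 1 := by
    intro u hu huE huz x hx hux
    have hxE := (S.stab T.ht huE huz).2
      ⟨(congrArg Subtype.val hux).symm, mem_centralizer_singleton_iff.1 x.2⟩
    have hx2 : x ^ 2 = 1 := Subtype.ext (by
      show (x : G) ^ 2 = 1
      rw [pow_two]; exact S.eGroup_sq T.ht hxE)
    have hdvd : orderOf x ∣ Nat.card O := by
      have := orderOf_dvd_natCard (⟨x, hx⟩ : O)
      rwa [← Subgroup.orderOf_coe] at this
    have h1 : orderOf x ∣ Nat.gcd 2 (Nat.card O) := Nat.dvd_gcd (orderOf_dvd_of_pow_eq_one hx2) hdvd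
    rw [(Nat.coprime_two_left.2 hodd).gcd_eq_one, Nat.dvd_one, orderOf_eq_one_iff] at h1
    exact h1
  have hzX : z ∈ X := mem_centralizer_singleton_iff.2 (S.comm_z T.ht.1).symm
  have hwX : w ∈ X := mem_centralizer_singleton_iff.2 hwt
  have hwE : w ∈ S.eGroup t := S.mem_eGroup.2 ⟨S.hQC hw.1, hwt⟩
  have hz2 : (⟨z, hzX⟩ : X) * ⟨z, hzX⟩ = 1 := Subtype.ext S.zz
  have hw2 : (⟨w, hwX⟩ : X) * ⟨w, hwX⟩ = 1 := Subtype.ext hw.2.1
  have hconj : ∀ u : X, u * u = 1 → ∀ x ∈ O, u * x * u ∈ O := fun u hu x hx => by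
    have := hnor.conj_mem x hx u
    rwa [inv_eq_of_mul_eq_one_right hu] at this
  refine CfsgLib.InvChar.SymSix.eq_bot_of_four_fpf hodd hz2 hw2
    (Subtype.ext (S.comm_z (S.hQC hw.1)).symm) (hconj _ hz2) (hconj _ hw2)
    (hfix z hzX (S.z_mem T.ht) (IsConj.refl z)) (hfix w hwX hwE (S.sing_conjZ hw))
    (hfix (z * w) (mul_mem hzX hwX) (mul_mem (S.z_mem T.ht) hwE) (S.sing_conjZ (S.sing_zmul hw)))

/-- The four group `V` is central in the centraliser of `t`. -/
theorem central {v : G} (hv : v ∈ vGroup S t h) {x : G} (hx : x * t = t * x) : x * v = v * x := by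
  by_cases hv1 : v = 1
  · rw [hv1, mul_one, one_mul]
  have hvX : v ∈ centralizer ({t} : Set G) :=
    mem_centralizer_singleton_iff.2 (S.mem_eGroup.1 (T.mem_v.1 hv).1).2
  have h1 := CfsgLib.Involutions.zstar _ _ (T.isolated hv hv1 hvX)
    ⟨x, mem_centralizer_singleton_iff.2 hx⟩
  rw [T.core_trivial, mem_bot] at h1
  have h2 : x * v * x⁻¹ * v⁻¹ = 1 := congrArg Subtype.val h1
  calc x * v = (x * v * x⁻¹ * v⁻¹) * (v * x) := by group
    _ = v * x := by rw [h2, one_mul]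

end Three

end CfsgLib.HJType
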