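import Cfsg.Agent.Lib.HJType.Normal

/-!
The isomorphism types of the centraliser of a second-class involution and of the normaliser of its
two-core.
-/

set_option autoImplicit false
set_option linter.unusedSectionVars false

namespace CfsgLib.HJType

open Subgroup

variable {G : Type*} [Group G] [Finite G] {z : G} {Q : Subgroup G}

/-- A group of order twelve with a self-centralising element structure `⟨v, n⟩` is `A₄`. -/
theorem alt_four_of {K : Type*} [Group K] [Finite K] (hK : Nat.card K = 12) (n v : K) (hn : n ^ 3 = 1)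
    (hn1 : n ≠ 1) (hcomm : n * v * n⁻¹ * v⁻¹ ∉ zpowers n) : Nonempty (K ≃* alternatingGroup (Fin 4)) := by
  classical
  have := Fintype.ofFinite K
  have : Fact (Nat.Prime 3) := ⟨Nat.prime_three⟩
  set P := zpowers n with hP
  have hP3 : Nat.card P = 3 := by rw [hP, Nat.card_zpowers]; exact orderOf_eq_prime hn hn1
  have h4 : Nat.card (K ⧸ P) = 4 := by
    have := Subgroup.card_eq_card_quotient_mul_card_subgroup P
    rw [hK, hP3] at this
    omega
  let eq : K ⧸ P ≃ Fin 4 := Fintype.equivFinOfCardEq (by rw [← Nat.card_eq_fintype_card]; exact h4)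
  let f : K →* Equiv.Perm (Fin 4) :=
    (eq.permCongrHom.toMonoidHom).comp (MulAction.toPermHom K (K ⧸ P))
  have hinj : Function.Injective f := by
    rw [← MonoidHom.ker_eq_bot_iff]
    have hker : f.ker = P.normalCore := by
      rw [Subgroup.normalCore_eq_ker]
      ext x
      simp only [f, MonoidHom.mem_ker, MonoidHom.comp_apply, MulEquiv.coe_toMonoidHom,
        EmbeddingLike.map_eq_one_iff]
    rw [hker]
    by_contra hne
    have hle := P.normalCore_le
    have hd := Subgroup.card_dvd_of_le hle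
    rw [hP3] at hd
    rcases (Nat.dvd_prime Nat.prime_three).1 hd with h1 | h1
    · exact hne (Subgroup.card_eq_one.1 h1)
    · have heq : P.normalCore = P := Subgroup.eq_of_le_of_card_ge hle (by rw [h1, hP3])
      refine hcomm ?_
      have hm : v * n⁻¹ * v⁻¹ ∈ P := by
        have := (Subgroup.normalCore_normal P).conj_mem n⁻¹ (heq.symm ▸ inv_mem (mem_zpowers n)) v
        rwa [heq] at this
      have := mul_mem (mem_zpowers n) hm
      rwa [← mul_assoc, ← mul_assoc] at this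
  have hrange : f.range.index = 2 := by
    have h := f.range.card_mul_index
    rw [Nat.card_congr (MonoidHom.ofInjective hinj).toEquiv.symm, hK, Nat.card_perm, Nat.card_fin,
      show Nat.factorial 4 = 24 by rfl] at h
    omega
  exact ⟨(MonoidHom.ofInjective hinj).trans
    (MulEquiv.subgroupCongr (Equiv.Perm.eq_alternatingGroup_of_index_eq_two hrange))⟩

theorem klein_iso {V : Type*} [Group V] [Finite V] (h4 : Nat.card V = 4) (h2 : ∀ v : V, v * v = 1) :
    Nonempty (V ≃* Multiplicative (ZMod 2) × Multiplicative (ZMod 2)) := by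
  have hn : Nontrivial V := Finite.one_lt_card_iff_nontrivial.1 (by omega)
  have : IsKleinFour V := ⟨h4, (Monoid.exponent_eq_prime_iff Nat.prime_two).2 fun w hw =>
    orderOf_eq_prime (by rw [pow_two]; exact h2 w) hw⟩
  have : IsKleinFour (Multiplicative (ZMod 2) × Multiplicative (ZMod 2)) := by
    refine ⟨by simp, (Monoid.exponent_eq_prime_iff Nat.prime_two).2 fun w hw =>
      orderOf_eq_prime ?_ hw⟩
    exact klein_sq w
  exact IsKleinFour.nonempty_mulEquiv

namespace TData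

variable {S : Setting z Q} {t h : G} {B : Subgroup G} (D : TData S t h B)
include D

theorem cent_iso : Nonempty (↥(centralizer ({t} : Set G)) ≃*
    (Multiplicative (ZMod 2) × Multiplicative (ZMod 2)) × A5) := by
  obtain ⟨e⟩ := D.equiv
  obtain ⟨f⟩ := klein_iso (V := ↥(vGroup S t h)) D.T.parts.1 fun v => Subtype.ext (D.v_sq v.2)
  let F : ↥(vGroup S t h) × ↥B →* ↥(centralizer ({t} : Set G)) :=
    { toFun := fun p => ⟨p.1.1 * p.2.1, mem_centralizer_singleton_iff.2
        ((show Commute p.1.1 t from D.vX p.1.2).mul_left (show Commute p.2.1 t from D.hBX _ p.2.2)).eq⟩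
      map_one' := Subtype.ext (one_mul 1)
      map_mul' := fun p q => Subtype.ext (by
        show (p.1.1 * q.1.1) * (p.2.1 * q.2.1) = (p.1.1 * p.2.1) * (q.1.1 * q.2.1)
        calc (p.1.1 * q.1.1) * (p.2.1 * q.2.1) = p.1.1 * (q.1.1 * p.2.1) * q.2.1 := by group
          _ = (p.1.1 * p.2.1) * (q.1.1 * q.2.1) := by rw [D.comm q.1.2 p.2.2]; group) }
  have hF : Function.Bijective F := by
    refine ⟨fun p q e => ?_, ?_⟩
    · obtain ⟨e1, e2⟩ := D.split_unique p.1.2 q.1.2 p.2.2 q.2.2 (congrArg Subtype.val e)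
      exact Prod.ext (Subtype.ext e1) (Subtype.ext e2)
    · rintro ⟨x, hx⟩
      obtain ⟨v, hv, b, hb, rfl⟩ := D.split x (mem_centralizer_singleton_iff.1 hx)
      exact ⟨(⟨v, hv⟩, ⟨b, hb⟩), rfl⟩
  exact ⟨(MulEquiv.ofBijective F hF).symm.trans (MulEquiv.prodCongr f e)⟩

theorem normalizer_iso :
    Nonempty (↥(normalizer (vGroup S t h : Set G)) ≃* alternatingGroup (Fin 4) × A5) := by
  classical
  obtain ⟨n, hn3, hnt, hnV, hnB⟩ := D.exists_outer_three
  obtain ⟨e⟩ := D.equiv
  obtain ⟨hV4, -, -, htV⟩ := D.T.parts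
  set V := vGroup S t h with hV
  have ht1 : t ≠ 1 := fun e => D.T.ht.2.2 (e ▸ one_mem Q)
  set N := normalizer (V : Set G) with hN
  have hXN : ∀ x, x * t = t * x → x ∈ N := fun x hx => by
    rw [hN, mem_normalizer_iff]
    intro v
    refine ⟨fun hv => ?_, fun hv => ?_⟩
    · rw [D.T.central hv hx, mul_inv_cancel_right]; exact hv
    · have hx' : x⁻¹ * t = t * x⁻¹ := ((show Commute x t from hx).inv_left).eq
      have h1 := D.T.central hv hx'
      have : v = x * v * x⁻¹ := by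
        calc v = x⁻¹ * (x * v * x⁻¹) * x := by group
          _ = x * v * x⁻¹ := by rw [h1]; group
      exact this ▸ hv
  have hnN : n ∈ N := by
    rw [hN, mem_normalizer_iff]
    intro v
    refine ⟨hnV v, fun hv => ?_⟩
    have := hnV _ (hnV _ hv)
    rwa [show n * (n * (n * v * n⁻¹) * n⁻¹) * n⁻¹ = n ^ 3 * v * (n ^ 3)⁻¹ by
      simp only [pow_succ, pow_zero, one_mul, mul_inv_rev, mul_assoc], hn3, inv_one, one_mul,
      mul_one] at this
  let K : Subgroup G := N ⊓ centralizer (B : Set G)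
  have hmemK : ∀ x, x ∈ K ↔ x ∈ N ∧ ∀ b ∈ B, b * x = x * b := fun x => by
    rw [mem_inf, mem_centralizer_iff]; rfl
  have hVK : ∀ v ∈ V, v ∈ K := fun v hv =>
    (hmemK v).2 ⟨hXN v (D.vX hv), fun b hb => (D.comm hv hb).symm⟩
  have hnK : n ∈ K := (hmemK n).2 ⟨hnN, fun b hb => (hnB b hb).symm⟩
  -- the three powers of `n` move `t` to the three involutions of `V`
  set a := n * t * n⁻¹ with ha
  have haV : a ∈ V := hnV t htV
  set a' := n ^ 2 * t * (n ^ 2)⁻¹ with ha'
  have ha'a : a' = n * a * n⁻¹ := by rw [ha', ha, pow_two]; group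
  have ha'V : a' ∈ V := ha'a ▸ hnV a haV
  have ha1 : a ≠ 1 := fun hh => ht1 (conj_eq_one_iff.1 hh)
  have ha'1 : a' ≠ 1 := fun hh => ht1 (conj_eq_one_iff.1 hh)
  have haa' : a' ≠ a := fun hh => hnt (by
    rw [ha'a, ha] at hh
    exact mul_left_cancel (mul_right_cancel hh))
  have ha't : a' ≠ t := fun hh => hnt (by
    have : n ^ 3 * t * (n ^ 3)⁻¹ = a := by
      rw [pow_succ' n 2, ha]
      calc n * n ^ 2 * t * (n * n ^ 2)⁻¹ = n * a' * n⁻¹ := by rw [ha']; group
        _ = n * t * n⁻¹ := by rw [hh]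
    rw [hn3, inv_one, one_mul, mul_one] at this
    rw [ha] at this
    exact this.symm)
  have hcases : ∀ x, x ∈ N → ∃ i : Fin 3, (n ^ (i : ℕ))⁻¹ * x * t = t * ((n ^ (i : ℕ))⁻¹ * x) := by
    intro x hx
    have hxt : x * t * x⁻¹ ∈ V := (mem_normalizer_iff.1 hx t).1 htV
    have hx1 : x * t * x⁻¹ ≠ 1 := fun hh => ht1 (conj_eq_one_iff.1 hh)
    have hfin : ∀ i : Fin 3, x * t * x⁻¹ = n ^ (i : ℕ) * t * (n ^ (i : ℕ))⁻¹ →
        (n ^ (i : ℕ))⁻¹ * x * t = t * ((n ^ (i : ℕ))⁻¹ * x) := fun i hi => by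
      refine mul_inv_eq_iff_eq_mul.1 ?_
      calc (n ^ (i : ℕ))⁻¹ * x * t * ((n ^ (i : ℕ))⁻¹ * x)⁻¹
          = (n ^ (i : ℕ))⁻¹ * (x * t * x⁻¹) * n ^ (i : ℕ) := by group
        _ = t := by rw [hi]; group
    have hV3 : ∀ y ∈ V, y ≠ 1 → y = t ∨ y = a ∨ y = a' := by
      intro y hy hy1
      by_contra hcon
      push Not at hcon
      have := Fintype.ofFinite G
      have hsub : ({1, t, a, a', y} : Finset G) ⊆ Finset.univ.filter fun x => x ∈ V := by
        intro w hw
        simp only [Finset.mem_insert, Finset.mem_singleton] at hw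
        simp only [Finset.mem_filter, Finset.mem_univ, true_and]
        rcases hw with rfl | rfl | rfl | rfl | rfl
        · exact one_mem V
        · exact htV
        · exact haV
        · exact ha'V
        · exact hy
      have h4 := Finset.card_le_card hsub
      rw [← Fintype.card_subtype, ← Nat.card_eq_fintype_card, hV4,
        Finset.card_insert_of_notMem (by simp [ht1.symm, ha1.symm, ha'1.symm, hy1.symm]),
        Finset.card_insert_of_notMem (by simp [hnt.symm, ha't.symm, hcon.1.symm]),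
        Finset.card_insert_of_notMem (by simp [haa'.symm, hcon.2.1.symm]),
        Finset.card_pair hcon.2.2.symm] at h4
      omega
    rcases hV3 _ hxt hx1 with q | q | q
    · exact ⟨0, hfin 0 (by simpa using q)⟩
    · exact ⟨1, hfin 1 (by simpa [ha] using q)⟩
    · exact ⟨2, hfin 2 (by simpa [ha'] using q)⟩
  have hKB : ∀ k ∈ K, ∀ b ∈ B, k * b = b * k := fun k hk b hb => (((hmemK k).1 hk).2 b hb).symm
  have hKBN : ∀ k ∈ K, ∀ b ∈ B, k * b ∈ N := fun k hk b hb =>
    mul_mem ((hmemK k).1 hk).1 (hXN b (D.hBX b hb))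
  let F : ↥K × ↥B →* ↥N :=
    { toFun := fun p => ⟨p.1.1 * p.2.1, hKBN _ p.1.2 _ p.2.2⟩
      map_one' := Subtype.ext (one_mul 1)
      map_mul' := fun p q => Subtype.ext (by
        show (p.1.1 * q.1.1) * (p.2.1 * q.2.1) = (p.1.1 * p.2.1) * (q.1.1 * q.2.1)
        calc (p.1.1 * q.1.1) * (p.2.1 * q.2.1) = p.1.1 * (q.1.1 * p.2.1) * q.2.1 := by group
          _ = (p.1.1 * p.2.1) * (q.1.1 * q.2.1) := by rw [hKB _ q.1.2 _ p.2.2]; group) }
  have hsplitN : ∀ x ∈ N, ∃ i : Fin 3, ∃ v ∈ V, ∃ b ∈ B, x = n ^ (i : ℕ) * v * b := by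
    intro x hx
    obtain ⟨i, hi⟩ := hcases x hx
    obtain ⟨v, hv, b, hb, e'⟩ := D.split _ hi
    exact ⟨i, v, hv, b, hb, by rw [mul_assoc, ← e']; group⟩
  have hF : Function.Bijective F := by
    refine ⟨fun p q e' => ?_, ?_⟩
    · have e1 : p.1.1 * p.2.1 = q.1.1 * q.2.1 := congrArg Subtype.val e'
      have e2 : q.1.1⁻¹ * p.1.1 = q.2.1 * p.2.1⁻¹ := by
        calc q.1.1⁻¹ * p.1.1 = q.1.1⁻¹ * (p.1.1 * p.2.1) * p.2.1⁻¹ := by group
          _ = q.2.1 * p.2.1⁻¹ := by rw [e1]; group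
      have hk : q.1.1⁻¹ * p.1.1 ∈ K := mul_mem (inv_mem q.1.2) p.1.2
      have h1 : q.1.1⁻¹ * p.1.1 = 1 :=
        D.b_center (e2 ▸ mul_mem q.2.2 (inv_mem p.2.2)) fun c hc => ((hmemK _).1 hk).2 c hc
      have h2 : p.1.1 = q.1.1 := (inv_mul_eq_one.1 h1).symm
      exact Prod.ext (Subtype.ext h2) (Subtype.ext (mul_left_cancel (h2 ▸ e1)))
    · rintro ⟨x, hx⟩
      obtain ⟨i, v, hv, b, hb, rfl⟩ := hsplitN x hx
      exact ⟨(⟨n ^ (i : ℕ) * v, mul_mem (pow_mem hnK _) (hVK v hv)⟩, ⟨b, hb⟩), rfl⟩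
  have hK12 : Nat.card K = 12 := by
    have e12 : Nat.card (Fin 3 × ↥V) = Nat.card K := by
      refine Nat.card_congr (Equiv.ofBijective
        (fun p => ⟨n ^ (p.1 : ℕ) * p.2.1, mul_mem (pow_mem hnK _) (hVK _ p.2.2)⟩) ⟨?_, ?_⟩)
      · rintro ⟨i, v⟩ ⟨j, w⟩ e'
        have e1 : n ^ (i : ℕ) * v.1 = n ^ (j : ℕ) * w.1 := congrArg Subtype.val e'
        have hc : ∀ (m : ℕ) (u : ↥V), n ^ m * u.1 * t * (n ^ m * u.1)⁻¹ = n ^ m * t * (n ^ m)⁻¹ :=
          fun m u => by rw [mul_assoc (n ^ m), D.vX u.2]; group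
        have e2 : n ^ (i : ℕ) * t * (n ^ (i : ℕ))⁻¹ = n ^ (j : ℕ) * t * (n ^ (j : ℕ))⁻¹ := by
          rw [← hc i v, e1, hc j w]
        have hij : i = j := by
          rw [ha'] at haa' ha't
          rw [ha] at haa'
          fin_cases i <;> fin_cases j <;> simp at e2 ⊢ <;>
            first | exact hnt e2 | exact hnt e2.symm | exact ha't e2 | exact ha't e2.symm |
              exact haa' e2 | exact haa' e2.symm
        subst hij
        exact Prod.ext rfl (Subtype.ext (mul_left_cancel e1))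
      · rintro ⟨x, hx⟩
        obtain ⟨i, v, hv, b, hb, rfl⟩ := hsplitN x ((hmemK x).1 hx).1
        have hb1 : b = 1 := by
          refine D.b_center hb fun c hc => ?_
          have hm : b ∈ K := by
            have := mul_mem (inv_mem (mul_mem (pow_mem hnK (i : ℕ)) (hVK v hv))) hx
            simpa [mul_assoc] using this
          exact ((hmemK b).1 hm).2 c hc
        exact ⟨(i, ⟨v, hv⟩), Subtype.ext (by simp [hb1])⟩
    rw [Nat.card_prod, Nat.card_fin, hV4] at e12
    omega
  obtain ⟨g⟩ := alt_four_of hK12 ⟨n, hnK⟩ ⟨t, hVK t htV⟩ (Subtype.ext hn3)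
    (fun hh => hnt (by
      have : n = 1 := congrArg Subtype.val hh
      rw [ha, this]; group)) (fun hm => by
      obtain ⟨i, hi⟩ := hm
      have hi' : n ^ i = n * t * n⁻¹ * t⁻¹ := congrArg Subtype.val hi
      have hmV : n * t * n⁻¹ * t⁻¹ ∈ V := mul_mem haV (inv_mem htV)
      have h6 : (n * t * n⁻¹ * t⁻¹) ^ 3 = 1 := by
        rw [← hi', ← zpow_natCast, ← zpow_mul, mul_comm, zpow_mul, zpow_natCast, hn3, one_zpow]
      rw [pow_succ, pow_two, D.v_sq hmV, one_mul] at h6
      exact hnt (mul_inv_eq_one.1 h6))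
  exact ⟨(MulEquiv.ofBijective F hF).symm.trans (MulEquiv.prodCongr g e)⟩

end TData

theorem twoCore_eq {t : G} (e : ↥(centralizer ({t} : Set G)) ≃*
    (Multiplicative (ZMod 2) × Multiplicative (ZMod 2)) × A5) :
    (Cfsg.pCore 2 ↥(centralizer ({t} : Set G))).map (centralizer ({t} : Set G)).subtype =
      centralizer (centralizer ({t} : Set G) : Set G) := by
  rw [pCore_eq_center e]
  refine le_antisymm ?_ (fun x hx => ?_)
  · rintro _ ⟨x, hx, rfl⟩
    exact mem_centralizer_iff.2 fun y hy => congrArg Subtype.val (mem_center_iff.1 hx ⟨y, hy⟩)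
  · have hxX : x ∈ centralizer ({t} : Set G) := mem_centralizer_singleton_iff.2
      ((mem_centralizer_iff.1 hx) t (mem_centralizer_singleton_iff.2 rfl)).symm
    exact ⟨⟨x, hxX⟩, mem_center_iff.2 fun y => Subtype.ext ((mem_centralizer_iff.1 hx) y y.2), rfl⟩

theorem mem_map_conj (g : G) (H : Subgroup G) (y : G) :
    y ∈ H.map (↑(MulAut.conj g) : G →* G) ↔ g⁻¹ * y * g ∈ H := by
  constructor
  · rintro ⟨x, hx, rfl⟩
    show g⁻¹ * (g * x * g⁻¹) * g ∈ H
    simpa [mul_assoc] using hx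
  · intro h
    exact ⟨_, h, show g * (g⁻¹ * y * g) * g⁻¹ = y by group⟩

theorem conj_centralizer (g t : G) (x : G) :
    g * x * g⁻¹ ∈ centralizer ({g * t * g⁻¹} : Set G) ↔ x ∈ centralizer ({t} : Set G) := by
  rw [mem_centralizer_singleton_iff, mem_centralizer_singleton_iff, conj_commute_iff]

theorem conj_double (g t : G) (x : G) :
    g * x * g⁻¹ ∈ centralizer (centralizer ({g * t * g⁻¹} : Set G) : Set G) ↔
      x ∈ centralizer (centralizer ({t} : Set G) : Set G) := by
  rw [mem_centralizer_iff, mem_centralizer_iff]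
  constructor
  · intro hx y hy
    exact (conj_commute_iff g y x).1 (hx _ ((conj_centralizer g t y).2 hy))
  · intro hx y hy
    have hy' : g⁻¹ * y * g ∈ centralizer ({t} : Set G) := by
      refine (conj_centralizer g t _).1 ?_
      rw [show g * (g⁻¹ * y * g) * g⁻¹ = y by group]
      exact hy
    have := (conj_commute_iff g _ _).2 (hx _ hy')
    rwa [show g * (g⁻¹ * y * g) * g⁻¹ = y by group] at this

/-- The main statement on second-class involutions. -/
theorem Setting.second_class (S : Setting z Q) {t : G} (ht : orderOf t = 2) (htz : ¬ IsConj t z) :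
    Nonempty (↥(centralizer ({t} : Set G)) ≃* (Multiplicative (ZMod 2) × Multiplicative (ZMod 2)) × A5) ∧
    Nonempty (↥(normalizer (((Cfsg.pCore 2 ↥(centralizer ({t} : Set G))).map
      (centralizer ({t} : Set G)).subtype : Subgroup G) : Set G)) ≃* alternatingGroup (Fin 4) × A5) := by
  obtain ⟨t₀, ht₀, -⟩ := S.exists_outer
  have hconj := (S.classes ht₀ ht).resolve_left fun h => htz h.symm
  obtain ⟨g, hg⟩ := isConj_iff.1 hconj.symm
  obtain ⟨h, B, D⟩ := S.exists_tdata ht₀
  obtain ⟨e₀⟩ := D.cent_iso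
  let ψ : ↥(centralizer ({t} : Set G)) ≃* ↥(centralizer ({t₀} : Set G)) :=
    ((MulAut.conj g).subgroupMap (centralizer ({t} : Set G))).trans (MulEquiv.subgroupCongr (by
      ext y
      rw [mem_map_conj, ← hg, ← conj_centralizer g t]
      simp [mul_assoc]))
  refine ⟨⟨ψ.trans e₀⟩, ?_⟩
  rw [twoCore_eq (ψ.trans e₀)]
  obtain ⟨f⟩ := D.normalizer_iso
  refine ⟨MulEquiv.trans (((MulAut.conj g).subgroupMap _).trans (MulEquiv.subgroupCongr ?_)) f⟩
  rw [← D.cent_eq, ← hg]
  ext y
  rw [mem_map_conj, mem_normalizer_iff, mem_normalizer_iff]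
  constructor
  · intro H x
    have h1 := H (g⁻¹ * x * g)
    rw [← conj_double g t (g⁻¹ * x * g), ← conj_double g t (g⁻¹ * y * g * (g⁻¹ * x * g) *
      (g⁻¹ * y * g)⁻¹)] at h1
    simpa [mul_assoc] using h1
  · intro H x
    have h1 := H (g * x * g⁻¹)
    rw [← conj_double g t x, ← conj_double g t (g⁻¹ * y * g * x * (g⁻¹ * y * g)⁻¹)]
    simpa [mul_assoc] using h1

end CfsgLib.HJType
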