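import Cfsg.Agent.Lib.HJType.Outer

/-!
The centraliser in `C(z)` of an outer involution is elementary abelian of order sixteen.
-/

set_option autoImplicit false
set_option linter.unusedSectionVars false

namespace CfsgLib.HJType

open Subgroup

variable {G : Type*} [Group G] [Finite G] {z : G} {Q : Subgroup G}

namespace Hyp

variable (H : Hyp z Q)
include H

theorem fixed_sq {t x : G} (ht : Outer z Q t) (hx : Fixed z Q t x) :
    x * x = 1 ↔ t * x * t = x := by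
  rw [H.fixed_inverted ht hx]
  exact ⟨fun h => inv_eq_of_mul_eq_one_right h, fun h => by nth_rw 1 [← h]; rw [inv_mul_cancel]⟩

theorem sing_of_sq {x : G} (hx : x ∈ Q) (h : x * x = 1) (h1 : ¬ Eqv z x 1) : Sing z Q x :=
  ⟨hx, h, fun e => h1 (Or.inl e), fun e => h1 (Or.inr (by rw [e, mul_one]))⟩

/-- An outer involution centralises a singular element, unique up to `z`, and every element it
inverts is a commutator. -/
theorem outer_sing {t : G} (ht : Outer z Q t) :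
    (∃ w, Sing z Q w ∧ t * w * t = w ∧
      ∀ x, Fixed z Q t x → x * x = 1 → Eqv z x 1 ∨ Eqv z x w) ∧
    Nat.card {x : G // x ∈ Q ∧ t * x * t = x} = 4 ∧
    ∀ x, Fixed z Q t x → ∃ y ∈ Q, H.psi t y = x := by
  classical
  have := Fintype.ofFinite G
  let QS := Finset.univ.filter (fun x : G => x ∈ Q)
  let D := Finset.univ.filter (fun x : G => x ∈ Q ∧ t * x * t = x)
  let W := Finset.univ.filter (fun x : G => Fixed z Q t x)
  have hQS : QS.card = 32 := by
    rw [← Fintype.card_subtype, ← Nat.card_eq_fintype_card]; exact H.card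
  have hW : W.card = 8 := by
    rw [← Fintype.card_subtype, ← Nat.card_eq_fintype_card]; exact (H.fixed_card ht).1
  have hDW : D ⊆ W := by
    intro x hx
    simp only [D, W, Finset.mem_filter, Finset.mem_univ, true_and] at hx ⊢
    exact ⟨hx.1, Or.inl hx.2⟩
  have hIW : QS.image (H.psi t) ⊆ W := by
    intro x hx
    obtain ⟨y, hy, rfl⟩ := Finset.mem_image.1 hx
    simp only [QS, W, Finset.mem_filter, Finset.mem_univ, true_and] at hy ⊢
    exact H.psi_fixed ht hy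
  have hfib : ∀ b ∈ QS.image (H.psi t), (QS.filter fun y => H.psi t y = b).card ≤ D.card := by
    intro b hb
    obtain ⟨y₀, hy₀, rfl⟩ := Finset.mem_image.1 hb
    simp only [QS, Finset.mem_filter, Finset.mem_univ, true_and] at hy₀
    refine Finset.card_le_card_of_injOn (fun y => y * y₀⁻¹) ?_ (fun a _ c _ h => mul_right_cancel h)
    intro y hy
    simp only [QS, Finset.coe_filter, Finset.mem_filter, Finset.mem_univ, true_and, Set.mem_setOf_eq] at hy
    simp only [D, Finset.coe_filter, Finset.mem_univ, true_and, Set.mem_setOf_eq]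
    refine ⟨mul_mem hy.1 (inv_mem hy₀), ?_⟩
    have h := hy.2
    unfold psi at h
    calc t * (y * y₀⁻¹) * t = y * (y⁻¹ * (t * y * t)) * (t * y₀⁻¹ * t) := by
          rw [show y * (y⁻¹ * (t * y * t)) * (t * y₀⁻¹ * t) = t * y * (t * t) * y₀⁻¹ * t by group,
            ht.2.1]
          group
      _ = y * (y₀⁻¹ * (t * y₀ * t)) * (t * y₀⁻¹ * t) := by rw [h]
      _ = y * y₀⁻¹ * (t * y₀ * (t * t) * y₀⁻¹ * t) := by group
      _ = y * y₀⁻¹ := by rw [ht.2.1, mul_one, mul_inv_cancel_right, ht.2.1, mul_one]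
  have h32 := Finset.card_le_mul_card_image_of_maps_to (fun y hy => Finset.mem_image_of_mem (H.psi t) hy)
    D.card hfib
  have hIle := Finset.card_le_card hIW
  rw [hQS] at h32
  rw [hW] at hIle
  have hD4 : 4 ≤ D.card := by nlinarith
  obtain ⟨w, hw, hw'⟩ : ∃ w ∈ D, w ∉ ({1, z} : Finset G) :=
    Finset.exists_mem_notMem_of_card_lt_card (lt_of_le_of_lt Finset.card_le_two (by omega))
  simp only [D, Finset.mem_filter, Finset.mem_univ, true_and] at hw
  simp only [Finset.mem_insert, Finset.mem_singleton, not_or] at hw'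
  have hwW : Fixed z Q t w := ⟨hw.1, Or.inl hw.2⟩
  have hws : Sing z Q w := ⟨hw.1, (H.fixed_sq ht hwW).2 hw.2, hw'.1, hw'.2⟩
  have huniq : ∀ x, Fixed z Q t x → x * x = 1 → Eqv z x 1 ∨ Eqv z x w := by
    intro x hx hx2
    by_cases h1 : Eqv z x 1
    · exact Or.inl h1
    · exact Or.inr (H.sing_comm hws (H.sing_of_sq hx.1 hx2 h1) (H.fixed_comm ht hwW hx))
  have hDle : D.card ≤ 4 := by
    refine le_trans (Finset.card_le_card (t := {1, z, w, z * w}) ?_) Finset.card_le_four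
    intro x hx
    simp only [D, Finset.mem_filter, Finset.mem_univ, true_and] at hx
    have hxW : Fixed z Q t x := ⟨hx.1, Or.inl hx.2⟩
    simp only [Finset.mem_insert, Finset.mem_singleton]
    rcases huniq x hxW ((H.fixed_sq ht hxW).2 hx.2) with (h | h) | (h | h)
    · exact Or.inl h
    · exact Or.inr (Or.inl (by rw [h, mul_one]))
    · exact Or.inr (Or.inr (Or.inl h))
    · exact Or.inr (Or.inr (Or.inr h))
  refine ⟨⟨w, hws, hw.2, huniq⟩, ?_, fun x hx => ?_⟩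
  · rw [Nat.card_eq_fintype_card, Fintype.card_subtype]
    exact le_antisymm hDle hD4
  · have hI8 : 8 ≤ (QS.image (H.psi t)).card := by nlinarith
    have heq := Finset.eq_of_subset_of_card_le hIW (by rw [hW]; exact hI8)
    have hxI : x ∈ QS.image (H.psi t) := heq ▸ Finset.mem_filter.2 ⟨Finset.mem_univ _, hx⟩
    obtain ⟨y, hy, e⟩ := Finset.mem_image.1 hxI
    exact ⟨y, (Finset.mem_filter.1 hy).2, e⟩

theorem coset_conj {t x : G} (ht : Outer z Q t) (hx : Fixed z Q t x) :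
    ∃ y ∈ Q, y⁻¹ * t * y = t * x := by
  obtain ⟨y, hy, e⟩ := (H.outer_sing ht).2.2 x⁻¹ (H.fixed_inv ht hx)
  refine ⟨y, hy, ?_⟩
  calc y⁻¹ * t * y = t * (t * y⁻¹ * t * y) := by
        rw [← mul_assoc, ← mul_assoc, ← mul_assoc, ht.2.1]; group
    _ = t * (t * H.psi t y * t) := by
        unfold psi
        rw [show t * (y⁻¹ * (t * y * t)) * t = t * y⁻¹ * t * y * (t * t) by group, ht.2.1, mul_one]
    _ = t * x := by rw [H.psi_inv ht, e, inv_inv]

theorem outer_lift {t : G} (ht : Outer z Q t) {u : A5} (hu : u * u = 1) (hu1 : u ≠ 1) :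
    ∃ c ∈ centralizer ({z} : Set G), ∃ h : Outer z Q (c * t * c⁻¹), H.φ ⟨c * t * c⁻¹, h.1⟩ = u := by
  obtain ⟨p, hp⟩ := a5_involution_conj _ u (H.φ_sq ht) (H.φ_ne ht) hu hu1
  obtain ⟨c, hc, hφ⟩ := H.exists_lift p
  refine ⟨c, hc, H.outer_conj hc ht, ?_⟩
  have : H.φ (⟨c, hc⟩ * ⟨t, ht.1⟩ * ⟨c, hc⟩⁻¹) = u := by
    rw [map_mul, map_mul, map_inv, hφ, hp, mul_inv_cancel_right]
  exact this

theorem outer_trans {t t' : G} (ht : Outer z Q t) (ht' : Outer z Q t') :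
    ∃ c ∈ centralizer ({z} : Set G), c * t * c⁻¹ = t' := by
  obtain ⟨c, hc, h, hφ⟩ := H.outer_lift ht (H.φ_sq ht') (H.φ_ne ht')
  obtain ⟨x, hx, e⟩ := H.coset_mem h ht' hφ.symm
  obtain ⟨y, hy, e'⟩ := H.coset_conj h hx
  refine ⟨y⁻¹ * c, mul_mem (inv_mem (H.hQC hy)) hc, ?_⟩
  rw [e, ← e']
  group

theorem outer_sing_unique {t w p : G} (ht : Outer z Q t) (hw : Sing z Q w) (hwt : Fixed z Q t w)
    (hp : Sing z Q p) (hpt : Fixed z Q t p) : Eqv z p w :=
  H.sing_comm hw hp (H.fixed_comm ht hwt hpt)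

theorem eqv_tj {t j : G} (ht : Outer z Q t) (hj : Outer z Q j)
    (hcomm : H.φ ⟨t, ht.1⟩ * H.φ ⟨j, hj.1⟩ = H.φ ⟨j, hj.1⟩ * H.φ ⟨t, ht.1⟩) {x : G} (hx : x ∈ Q) :
    Eqv z (t * (j * x * j) * t) (j * (t * x * t) * j) := by
  have h1 : H.φ (⟨t, ht.1⟩ * ⟨j, hj.1⟩) = H.φ (⟨j, hj.1⟩ * ⟨t, ht.1⟩) := by rw [map_mul, map_mul, hcomm]
  obtain ⟨q, hq, e⟩ := (H.φ_eq_iff (mul_mem ht.1 hj.1) (mul_mem hj.1 ht.1)).1 h1
  have e' : t * (j * x * j) * t = j * (t * (q * x * q⁻¹) * t) * j := by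
    calc t * (j * x * j) * t = (t * j) * x * (t * j)⁻¹ := by
          rw [mul_inv_rev, H.t_inv ht, H.t_inv hj]; group
      _ = (j * t * q) * x * (j * t * q)⁻¹ := by rw [show t * j = j * t * q from e]
      _ = _ := by rw [mul_inv_rev, mul_inv_rev, H.t_inv ht, H.t_inv hj]; group
  rw [e']
  exact H.tconj_eqv hj (H.tconj_eqv ht (H.eqv_conjQ hq hx))

theorem fixed_tconj {t j x : G} (ht : Outer z Q t) (hj : Outer z Q j)
    (hcomm : H.φ ⟨t, ht.1⟩ * H.φ ⟨j, hj.1⟩ = H.φ ⟨j, hj.1⟩ * H.φ ⟨t, ht.1⟩) (hx : Fixed z Q t x) :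
    Fixed z Q t (j * x * j) :=
  ⟨H.tconj_mem hj hx.1, H.eqv_trans (H.eqv_tj ht hj hcomm hx.1) (H.tconj_eqv hj hx.2)⟩

theorem tconj_sing {t p : G} (ht : Outer z Q t) (hp : Sing z Q p) : Sing z Q (t * p * t) := by
  have := H.sing_conj_mem ht.1 hp
  rwa [H.t_inv ht] at this

/-- Commuting cosets share their singular fixed point. -/
theorem sing_fixed {t j w : G} (ht : Outer z Q t) (hj : Outer z Q j)
    (hcomm : H.φ ⟨t, ht.1⟩ * H.φ ⟨j, hj.1⟩ = H.φ ⟨j, hj.1⟩ * H.φ ⟨t, ht.1⟩) (hw : Sing z Q w)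
    (hwt : Fixed z Q t w) : j * w * j = w := by
  have hfix : Fixed z Q j w := ⟨hw.1, H.outer_sing_unique ht hw hwt (H.tconj_sing hj hw)
    (H.fixed_tconj ht hj hcomm hwt)⟩
  exact (H.fixed_sq hj hfix).1 hw.2.1

theorem sing_anticomm {p q : G} (hp : Sing z Q p) (hq : Sing z Q q) (h : ¬ Eqv z q p) :
    p * q = z * (q * p) := by
  rcases H.com q hq.1 p hp.1 with e | e
  · exact absurd (H.sing_comm hp hq e) h
  · exact e

/-- Commuting outer cosets have different fixed groups. -/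
theorem exists_not_fixed {t j : G} (ht : Outer z Q t) (hj : Outer z Q j)
    (hcomm : H.φ ⟨t, ht.1⟩ * H.φ ⟨j, hj.1⟩ = H.φ ⟨j, hj.1⟩ * H.φ ⟨t, ht.1⟩)
    (hne : H.φ ⟨t, ht.1⟩ ≠ H.φ ⟨j, hj.1⟩) : ∃ x, Fixed z Q j x ∧ ¬ Fixed z Q t x := by
  classical
  have := Fintype.ofFinite G
  by_contra hcon
  push Not at hcon
  obtain ⟨⟨w, hw, hwt, -⟩, -, -⟩ := H.outer_sing ht
  have hwt' : Fixed z Q t w := ⟨hw.1, Or.inl hwt⟩
  have hwj : j * w * j = w := H.sing_fixed ht hj hcomm hw hwt'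
  have hwj' : Fixed z Q j w := ⟨hw.1, Or.inl hwj⟩
  -- a third involution in the product coset
  have hprod : H.φ ⟨j, hj.1⟩ * H.φ ⟨t, ht.1⟩ * (H.φ ⟨j, hj.1⟩ * H.φ ⟨t, ht.1⟩) = 1 := by
    calc H.φ ⟨j, hj.1⟩ * H.φ ⟨t, ht.1⟩ * (H.φ ⟨j, hj.1⟩ * H.φ ⟨t, ht.1⟩)
        = H.φ ⟨j, hj.1⟩ * (H.φ ⟨t, ht.1⟩ * H.φ ⟨j, hj.1⟩) * H.φ ⟨t, ht.1⟩ := by group
      _ = (H.φ ⟨j, hj.1⟩ * H.φ ⟨j, hj.1⟩) * (H.φ ⟨t, ht.1⟩ * H.φ ⟨t, ht.1⟩) := by rw [hcomm]; group
      _ = 1 := by rw [H.φ_sq ht, H.φ_sq hj, one_mul]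
  have hprod1 : H.φ ⟨j, hj.1⟩ * H.φ ⟨t, ht.1⟩ ≠ 1 := fun e => hne (by
    rw [mul_eq_one_iff_eq_inv.1 e, inv_eq_of_mul_eq_one_right (H.φ_sq ht)])
  obtain ⟨c, -, hi, hiφ⟩ := H.outer_lift ht hprod hprod1
  set i := c * t * c⁻¹
  have h1 : H.φ ⟨i, hi.1⟩ = H.φ (⟨j, hj.1⟩ * ⟨t, ht.1⟩) := by rw [map_mul, hiφ]
  obtain ⟨q, hq, eiq⟩ := (H.φ_eq_iff hi.1 (mul_mem hj.1 ht.1)).1 h1
  have hiconj : ∀ x ∈ Q, Eqv z (i * x * i) (j * (t * x * t) * j) := by
    intro x hx
    have e : i * x * i = j * (t * (q * x * q⁻¹) * t) * j := by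
      calc i * x * i = i * x * i⁻¹ := by rw [H.t_inv hi]
        _ = (j * t * q) * x * (j * t * q)⁻¹ := by rw [show i = j * t * q from eiq]
        _ = _ := by rw [mul_inv_rev, mul_inv_rev, H.t_inv ht, H.t_inv hj]; group
    rw [e]
    exact H.tconj_eqv hj (H.tconj_eqv ht (H.eqv_conjQ hq hx))
  have hwi : Fixed z Q i w := ⟨hw.1, H.eqv_trans (hiconj w hw.1) (by rw [hwt, hwj]; exact H.eqv_refl w)⟩
  -- a singular element moved by all three
  obtain ⟨p, hp, hpw⟩ : ∃ p, Sing z Q p ∧ ¬ Eqv z p w := by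
    by_contra hno
    push Not at hno
    have h10 := H.card_sing
    rw [Nat.card_eq_fintype_card, Fintype.card_subtype] at h10
    have hsub : (Finset.univ.filter fun p => Sing z Q p) ⊆ ({w, z * w} : Finset G) := by
      intro p hp
      simpa [Eqv] using hno p (Finset.mem_filter.1 hp).2
    have := (Finset.card_le_card hsub).trans Finset.card_le_two
    omega
  set b := t * p * t with hb
  set c' := j * p * j with hc'
  have hbs : Sing z Q b := H.tconj_sing ht hp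
  have hcs : Sing z Q c' := H.tconj_sing hj hp
  have hbp : ¬ Eqv z b p := fun h => hpw (H.outer_sing_unique ht hw hwt' hp ⟨hp.1, h⟩)
  have hcp : ¬ Eqv z c' p := fun h => hpw (H.outer_sing_unique hj hw hwj' hp ⟨hp.1, h⟩)
  have hcb : ¬ Eqv z c' b := by
    intro h
    refine hpw (H.outer_sing_unique hi hw hwi hp ⟨hp.1, H.eqv_trans (hiconj p hp.1) ?_⟩)
    have h' := H.eqv_symm (H.tconj_eqv hj h)
    rwa [hc', H.tconj_tconj hj] at h'
  have hpinv : p⁻¹ = p := inv_eq_of_mul_eq_one_right hp.2.1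
  have h1 : Fixed z Q t (p * b) := by
    have := H.psi_fixed ht hp.1
    simpa [psi, hpinv] using this
  have h2 : Fixed z Q t (p * c') := by
    refine hcon _ ?_
    have := H.psi_fixed hj hp.1
    simpa [psi, hpinv] using this
  have hcommute := H.fixed_comm ht h1 h2
  have a1 := H.sing_anticomm hp hbs hbp
  have a2 := H.sing_anticomm hp hcs hcp
  have a3 := H.sing_anticomm hbs hcs hcb
  have hzp : p * z = z * p := H.comm_zQ hp.1
  have e1 : p * b * (p * c') = z * (b * c') := by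
    rw [a1, show z * (b * p) * (p * c') = z * (b * (p * p) * c') by group, hp.2.1, mul_one]
  have e2 : p * c' * (p * b) = z * (c' * b) := by
    rw [a2, show z * (c' * p) * (p * b) = z * (c' * (p * p) * b) by group, hp.2.1, mul_one]
  rw [e1, e2, a3] at hcommute
  exact H.z_ne (mul_eq_right.1 (mul_left_cancel hcommute))

theorem fixed_list {t w y : G} (ht : Outer z Q t) (hw : Sing z Q w) (hwt : Fixed z Q t w)
    (hy : Fixed z Q t y) (hy2 : y * y = z) {x : G} (hx : Fixed z Q t x) :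
    Eqv z x 1 ∨ Eqv z x w ∨ Eqv z x y ∨ Eqv z x (w * y) := by
  obtain ⟨⟨w', hw', hwt', huniq⟩, -, -⟩ := H.outer_sing ht
  have hww : Eqv z w' w := H.outer_sing_unique ht hw hwt hw' ⟨hw'.1, Or.inl hwt'⟩
  have huniq' : ∀ v, Fixed z Q t v → v * v = 1 → Eqv z v 1 ∨ Eqv z v w := fun v hv hv2 =>
    (huniq v hv hv2).imp id (fun h => H.eqv_trans h hww)
  rcases H.sq x hx.1 with h | h
  · rcases huniq' x hx h with e | e
    · exact Or.inl e
    · exact Or.inr (Or.inl e)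
  · have hxy : x * y * (x * y) = 1 := by
      calc x * y * (x * y) = x * (y * x) * y := by group
        _ = (x * x) * (y * y) := by rw [← H.fixed_comm ht hx hy]; group
        _ = 1 := by rw [h, hy2, H.zz]
    have hyy : y⁻¹ = z * y := inv_eq_of_mul_eq_one_right (by
      rw [← mul_assoc, H.comm_zQ hy.1, mul_assoc, hy2, H.zz])
    have hback : ∀ v, Eqv z (x * y) v → Eqv z x (v * y) := by
      intro v hv
      have := H.eqv_mul_right y⁻¹ hv
      rw [mul_inv_cancel_right] at this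
      refine H.eqv_trans this ?_
      rw [hyy]
      rcases H.eqv_zmul y with e | e
      · exact Or.inl (by rw [e])
      · rcases hv with hv | hv
        · exact Or.inr (by rw [← hv, ← mul_assoc, H.comm_zQ (mul_mem hx.1 hy.1), mul_assoc])
        · exact Or.inr (by
            have hvQ : v ∈ Q := by
              have : v = z * (x * y) := by rw [hv, H.z_mul_z_mul]
              exact this ▸ mul_mem H.hzQ (mul_mem hx.1 hy.1)
            rw [← mul_assoc, H.comm_zQ hvQ, mul_assoc])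
    rcases huniq' _ (H.fixed_mul ht hx hy) hxy with e | e
    · exact Or.inr (Or.inr (Or.inl (by simpa using hback 1 e)))
    · exact Or.inr (Or.inr (Or.inr (hback w e)))

theorem exists_commuting {t j : G} (ht : Outer z Q t) (hj : Outer z Q j)
    (hcomm : H.φ ⟨t, ht.1⟩ * H.φ ⟨j, hj.1⟩ = H.φ ⟨j, hj.1⟩ * H.φ ⟨t, ht.1⟩)
    (hne : H.φ ⟨t, ht.1⟩ ≠ H.φ ⟨j, hj.1⟩) :
    ∃ j', ∃ h : Outer z Q j', H.φ ⟨j', h.1⟩ = H.φ ⟨j, hj.1⟩ ∧ t * j' = j' * t := by
  classical
  have := Fintype.ofFinite G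
  obtain ⟨x, hxj, hxt⟩ := H.exists_not_fixed ht hj hcomm hne
  obtain ⟨⟨w, hw, hwt, huniq⟩, -, -⟩ := H.outer_sing ht
  have hwt' : Fixed z Q t w := ⟨hw.1, Or.inl hwt⟩
  have hwj' : Fixed z Q j w := ⟨hw.1, Or.inl (H.sing_fixed ht hj hcomm hw hwt')⟩
  -- common fixed elements have square one
  have hcommon : ∀ y, Fixed z Q t y → Fixed z Q j y → Eqv z y 1 ∨ Eqv z y w := by
    intro y hyt hyj
    rcases H.sq y hyt.1 with h | h
    · exact huniq y hyt h
    · exfalso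
      let W := fun s => Finset.univ.filter (fun a : G => Fixed z Q s a)
      have hsub : W t ⊆ W j := by
        intro a ha
        simp only [W, Finset.mem_filter, Finset.mem_univ, true_and] at ha ⊢
        rcases H.fixed_list ht hw hwt' hyt h ha with e | e | e | e
        · exact H.fixed_eqv hj (H.fixed_one hj) e
        · exact H.fixed_eqv hj hwj' e
        · exact H.fixed_eqv hj hyj e
        · exact H.fixed_eqv hj (H.fixed_mul hj hwj' hyj) e
      have hcard : ∀ s, Outer z Q s → (W s).card = 8 := fun s hs => by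
        rw [← Fintype.card_subtype, ← Nat.card_eq_fintype_card]; exact (H.fixed_card hs).1
      have heq := Finset.eq_of_subset_of_card_le hsub (by rw [hcard t ht, hcard j hj])
      refine hxt ?_
      have hxW : x ∈ W t := heq ▸ Finset.mem_filter.2 ⟨Finset.mem_univ _, hxj⟩
      exact (Finset.mem_filter.1 hxW).2
  set c := t * j * (t * j) with hc
  have hφc : H.φ (⟨t, ht.1⟩ * ⟨j, hj.1⟩ * (⟨t, ht.1⟩ * ⟨j, hj.1⟩)) = 1 := by
    rw [map_mul, map_mul]
    calc _ = H.φ ⟨t, ht.1⟩ * (H.φ ⟨j, hj.1⟩ * H.φ ⟨t, ht.1⟩) * H.φ ⟨j, hj.1⟩ := by group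
      _ = (H.φ ⟨t, ht.1⟩ * H.φ ⟨t, ht.1⟩) * (H.φ ⟨j, hj.1⟩ * H.φ ⟨j, hj.1⟩) := by rw [← hcomm]; group
      _ = 1 := by rw [H.φ_sq ht, H.φ_sq hj, one_mul]
  have hcQ : c ∈ Q := (H.ker _).1 hφc
  have hcinv : c⁻¹ = j * t * (j * t) := by
    rw [hc, mul_inv_rev, mul_inv_rev, H.t_inv ht, H.t_inv hj]
  have hct : Fixed z Q t c := ⟨hcQ, by
    rw [show t * c * t = c⁻¹ by
      rw [hcinv, hc, show t * (t * j * (t * j)) * t = (t * t) * j * (t * j) * t by group, ht.2.1]; group]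
    exact H.eqv_inv hcQ⟩
  have hcj : Fixed z Q j c := ⟨hcQ, by
    rw [show j * c * j = c⁻¹ by
      rw [hcinv, hc, show j * (t * j * (t * j)) * j = j * t * j * t * (j * j) by group, hj.2.1]; group]
    exact H.eqv_inv hcQ⟩
  -- the product coset contains an involution
  have hfin : ∀ j', ∀ h : Outer z Q j', H.φ ⟨j', h.1⟩ = H.φ ⟨j, hj.1⟩ →
      Eqv z (t * j' * (t * j')) 1 → t * j' = j' * t := by
    intro j' hj' hφ' heqv
    have hprod : H.φ ⟨t, ht.1⟩ * H.φ ⟨j, hj.1⟩ * (H.φ ⟨t, ht.1⟩ * H.φ ⟨j, hj.1⟩) = 1 := by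
      rw [← map_mul, ← map_mul]; exact hφc
    have hprod1 : H.φ ⟨t, ht.1⟩ * H.φ ⟨j, hj.1⟩ ≠ 1 := fun e => hne (by
      rw [mul_eq_one_iff_eq_inv.1 e, inv_eq_of_mul_eq_one_right (H.φ_sq hj)])
    obtain ⟨c₁, -, hi, hiφ⟩ := H.outer_lift ht hprod hprod1
    have h1 : H.φ (⟨t, ht.1⟩ * ⟨j', hj'.1⟩) = H.φ ⟨c₁ * t * c₁⁻¹, hi.1⟩ := by
      rw [map_mul, hφ', hiφ]
    obtain ⟨r, hr, e⟩ := (H.φ_eq_iff (mul_mem ht.1 hj'.1) hi.1).1 h1
    refine mul_swap ht.2.1 hj'.2.1 ?_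
    rw [show t * j' = c₁ * t * c₁⁻¹ * r from e] at heqv ⊢
    exact H.sq_one hi hr heqv
  rcases hcommon c hct hcj with hc1 | hcw
  · exact ⟨j, hj, rfl, hfin j hj rfl hc1⟩
  -- replace `j` by `j x`
  have hj' : Outer z Q (j * x) := H.coset_outer hj hxj
  have hφ' : H.φ ⟨j * x, hj'.1⟩ = H.φ ⟨j, hj.1⟩ := (H.φ_eq_iff hj'.1 hj.1).2 ⟨x, hxj.1, rfl⟩
  refine ⟨j * x, hj', hφ', hfin _ hj' hφ' ?_⟩
  set d := H.psi t x with hd
  have hdt : Fixed z Q t d := H.psi_fixed ht hxj.1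
  have hdj : Fixed z Q j d := H.fixed_mul hj (H.fixed_inv hj hxj) (H.fixed_tconj hj ht hcomm.symm hxj)
  have hdw : Eqv z d w := (hcommon d hdt hdj).resolve_left fun h => hxt ⟨hxj.1, by
    have := H.eqv_mul_left (H.hQC hxj.1) h
    rwa [hd, psi, mul_inv_cancel_left, mul_one] at this⟩
  have hd2 : d * d = 1 := (H.eqv_sq hw.1 hdw).trans hw.2.1
  have hjd : j * d * j = d := (H.fixed_sq hj hdj).1 hd2
  have htxt : t * x * t = x * d := by rw [hd, psi, mul_inv_cancel_left]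
  have hexp : t * (j * x) * (t * (j * x)) = c * d := by
    calc t * (j * x) * (t * (j * x)) = t * j * (t * t) * x * t * j * x := by rw [ht.2.1]; group
      _ = t * j * t * (t * x * t) * j * x := by group
      _ = t * j * t * (j * j) * (x * d) * j * x := by rw [htxt, hj.2.1, mul_one]
      _ = c * ((j * x * j) * (j⁻¹ * d * j)) * x := by rw [hc]; group
      _ = c * (x⁻¹ * (j * d * j)) * x := by rw [H.fixed_inverted hj hxj, H.t_inv hj]
      _ = c * (x⁻¹ * d * x) := by rw [hjd]; group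
      _ = c * d := by rw [mul_assoc x⁻¹, H.fixed_comm hj hdj hxj, inv_mul_cancel_left]
  rw [hexp]
  refine H.eqv_trans (H.eqv_mul_left (H.hQC hcQ) hdw) (H.eqv_trans (H.eqv_mul_right w hcw) ?_)
  exact Or.inl hw.2.1

/-- The centraliser of an outer involution inside `C(z)`. -/
def eGroup (_ : Hyp z Q) (t : G) : Subgroup G := centralizer ({z} : Set G) ⊓ centralizer ({t} : Set G)

theorem mem_eGroup {t x : G} : x ∈ H.eGroup t ↔ x ∈ centralizer ({z} : Set G) ∧ x * t = t * x := by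
  rw [eGroup, mem_inf, mem_centralizer_singleton_iff (g := t)]

theorem comm_iff {t x : G} (ht : Outer z Q t) : x * t = t * x ↔ t * x * t = x := by
  constructor
  · intro h; rw [mul_assoc, h, H.t_cancel ht]
  · intro h
    calc x * t = t * x * t * t := by rw [h]
      _ = t * x := by rw [mul_assoc, ht.2.1, mul_one]

theorem eGroup_card {t : G} (ht : Outer z Q t) : Nat.card (H.eGroup t) = 16 := by
  classical
  have := Fintype.ofFinite G
  let f : ↥(H.eGroup t) →* A5 := H.φ.comp (Subgroup.inclusion inf_le_left)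
  have hf : ∀ x : ↥(H.eGroup t), f x = H.φ ⟨x.1, (H.mem_eGroup.1 x.2).1⟩ := fun x => rfl
  have hker : Nat.card f.ker = 4 := by
    rw [← (H.outer_sing ht).2.1]
    exact Nat.card_congr
      { toFun := fun x => ⟨x.1.1, (H.ker _).1 (by rw [← hf]; exact x.2),
          (H.comm_iff ht).1 (H.mem_eGroup.1 x.1.2).2⟩
        invFun := fun x => ⟨⟨x.1, H.mem_eGroup.2 ⟨H.hQC x.2.1, (H.comm_iff ht).2 x.2.2⟩⟩,
          by rw [MonoidHom.mem_ker, hf]; exact (H.ker _).2 x.2.1⟩ }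
  have hrange : Nat.card f.range = 4 := by
    rw [← (a5_centralizer_involution _ (H.φ_sq ht) (H.φ_ne ht)).1, ← Fintype.card_coe,
      ← Nat.card_eq_fintype_card]
    refine Nat.card_congr (Equiv.subtypeEquivRight fun p => ?_)
    simp only [Finset.mem_filter, Finset.mem_univ, true_and, MonoidHom.mem_range]
    constructor
    · rintro ⟨x, rfl⟩
      rw [hf, ← map_mul, ← map_mul]
      exact congrArg _ (Subtype.ext (H.mem_eGroup.1 x.2).2)
    · intro hp
      obtain ⟨c, hc, hφ⟩ := H.exists_lift p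
      have hct := H.outer_conj hc ht
      have hφc : H.φ ⟨c * t * c⁻¹, hct.1⟩ = H.φ ⟨t, ht.1⟩ := by
        have : H.φ (⟨c, hc⟩ * ⟨t, ht.1⟩ * ⟨c, hc⟩⁻¹) = H.φ ⟨t, ht.1⟩ := by
          rw [map_mul, map_mul, map_inv, hφ, hp, mul_inv_cancel_right]
        exact this
      obtain ⟨x, hx, e⟩ := H.coset_mem ht hct hφc
      obtain ⟨y, hy, e'⟩ := H.coset_conj ht hx
      refine ⟨⟨y * c, H.mem_eGroup.2 ⟨mul_mem (H.hQC hy) hc, ?_⟩⟩, ?_⟩
      · calc y * c * t = y * (c * t * c⁻¹) * c := by group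
          _ = y * (y⁻¹ * t * y) * c := by rw [e, e']
          _ = t * (y * c) := by group
      · rw [hf]
        have : H.φ (⟨y, H.hQC hy⟩ * ⟨c, hc⟩) = p := by
          rw [map_mul, (H.ker ⟨y, H.hQC hy⟩).2 hy, one_mul, hφ]
        exact this
  rw [Subgroup.card_eq_card_quotient_mul_card_subgroup f.ker, hker,
    Nat.card_congr (QuotientGroup.quotientKerEquivRange f).toEquiv, hrange]

theorem eGroup_sq {t : G} (ht : Outer z Q t) {e : G} (he : e ∈ H.eGroup t) : e * e = 1 := by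
  obtain ⟨heC, het⟩ := H.mem_eGroup.1 he
  have hDsq : ∀ d ∈ Q, d * t = t * d → d * d = 1 := fun d hd h =>
    (H.fixed_sq ht ⟨hd, Or.inl ((H.comm_iff ht).1 h)⟩).2 ((H.comm_iff ht).1 h)
  by_cases he1 : H.φ ⟨e, heC⟩ = 1
  · exact hDsq e ((H.ker _).1 he1) het
  have hu : H.φ ⟨e, heC⟩ * H.φ ⟨t, ht.1⟩ = H.φ ⟨t, ht.1⟩ * H.φ ⟨e, heC⟩ := by
    rw [← map_mul, ← map_mul]; exact congrArg _ (Subtype.ext het)
  have hv2 := (a5_centralizer_involution _ (H.φ_sq ht) (H.φ_ne ht)).2 _ hu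
  by_cases het' : H.φ ⟨e, heC⟩ = H.φ ⟨t, ht.1⟩
  · obtain ⟨d, hd, rfl⟩ := (H.φ_eq_iff heC ht.1).1 het'
    have hdt : d * t = t * d := by
      calc d * t = t * (t * d * t) := by rw [mul_assoc t d, H.t_cancel ht]
        _ = t * (t * (t * d)) := by rw [show t * d * t = t * (t * d) from het]
        _ = t * d := by rw [H.t_cancel ht]
    calc t * d * (t * d) = t * (d * t) * d := by group
      _ = (t * t) * (d * d) := by rw [hdt]; group
      _ = 1 := by rw [ht.2.1, hDsq d hd hdt, one_mul]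
  obtain ⟨c, -, hj, hjφ⟩ := H.outer_lift ht hv2 he1
  have hcomm : H.φ ⟨t, ht.1⟩ * H.φ ⟨c * t * c⁻¹, hj.1⟩ =
      H.φ ⟨c * t * c⁻¹, hj.1⟩ * H.φ ⟨t, ht.1⟩ := by rw [hjφ, hu]
  obtain ⟨j, hj', hjφ', hjt⟩ := H.exists_commuting ht hj hcomm (by rw [hjφ]; exact Ne.symm het')
  rw [hjφ] at hjφ'
  obtain ⟨d, hd, rfl⟩ := (H.φ_eq_iff heC hj'.1).1 hjφ'.symm
  have hdt : d * t = t * d := by
    calc d * t = j * (j * d * t) := by rw [mul_assoc j d t, H.t_cancel hj']
      _ = j * (t * (j * d)) := by rw [het]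
      _ = (j * t) * j * d := by group
      _ = t * (j * j) * d := by rw [← hjt]; group
      _ = t * d := by rw [hj'.2.1, mul_one]
  have hd2 : d * d = 1 := hDsq d hd hdt
  -- `d` is fixed by `j`
  have hdj : Fixed z Q j d := by
    by_cases h1 : Eqv z d 1
    · exact H.fixed_eqv hj' (H.fixed_one hj') h1
    · refine ⟨hd, Or.inl (H.sing_fixed ht hj' ?_ (H.sing_of_sq hd hd2 h1)
        ⟨hd, Or.inl ((H.comm_iff ht).1 hdt)⟩)⟩
      rw [hjφ', hu]
  exact (H.coset_inv_iff hj' hd).2 hdj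

theorem eGroup_comm {t : G} (ht : Outer z Q t) {a b : G} (ha : a ∈ H.eGroup t) (hb : b ∈ H.eGroup t) :
    a * b = b * a :=
  mul_swap (H.eGroup_sq ht ha) (H.eGroup_sq ht hb) (H.eGroup_sq ht (mul_mem ha hb))

end Hyp

end CfsgLib.HJType
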