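import Cfsg.Agent.Lib.HJType.Normal
import Cfsg.Agent.Lib.HJType.LocalGen

/-!
Centralisers of elements of order three and five of the component `B`.
-/

set_option autoImplicit false
set_option linter.unusedSectionVars false

namespace CfsgLib.HJType

open Subgroup LocalGen

variable {G : Type*} [Group G] [Finite G] {z : G} {Q : Subgroup G}

/-- An element of prime order of `B` which generates its own centraliser there. -/
structure OddY (S : Setting z Q) (t h : G) (B : Subgroup G) (n y : G) (p : ℕ) : Prop where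
  D : TData S t h B
  hn3 : n ^ 3 = 1
  hnt : n * t * n⁻¹ ≠ t
  hnV : ∀ v ∈ vGroup S t h, n * v * n⁻¹ ∈ vGroup S t h
  hnB : ∀ b ∈ B, n * b = b * n
  hp : p = 3 ∨ p = 5
  hyB : y ∈ B
  hord : orderOf y = p
  self : ∀ c ∈ B, c * y = y * c → c ∈ zpowers y

namespace OddY

variable {S : Setting z Q} {t h : G} {B : Subgroup G} {n y : G} {p : ℕ}
  (Y : OddY S t h B n y p)
include Y

theorem tV : t ∈ vGroup S t h := Y.D.T.parts.2.2.2

theorem t_ne : t ≠ 1 := fun e => Y.D.T.ht.2.2 (e ▸ one_mem Q)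

theorem nofix {v : G} (hv : v ∈ vGroup S t h) (hfix : n * v * n⁻¹ = v) : v = 1 := by
  by_contra hv1
  have h1 : n ∈ centralizer ({v} : Set G) :=
    mem_centralizer_singleton_iff.2 (mul_inv_eq_iff_eq_mul.1 hfix)
  rw [Y.D.cent_v hv hv1] at h1
  exact Y.hnt (by rw [mem_centralizer_singleton_iff.1 h1, mul_inv_cancel_right])

theorem vy {v : G} (hv : v ∈ vGroup S t h) : v * y = y * v := Y.D.comm hv Y.hyB

theorem ny : n * y = y * n := Y.hnB y Y.hyB

theorem odd_mem {w : G} (hw : w ∈ zpowers y) (h2 : w * w = 1) : w = 1 := by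
  have hd : orderOf w ∣ Nat.gcd 2 p := Nat.dvd_gcd
    (orderOf_dvd_of_pow_eq_one (by rw [pow_two]; exact h2)) (Y.hord ▸ orderOf_dvd_of_mem_zpowers hw)
  rcases Y.hp with e | e <;> subst e <;> simpa using hd

theorem v_meet {v : G} (hv : v ∈ vGroup S t h) (hvy : v ∈ zpowers y) : v = 1 :=
  Y.odd_mem hvy (Y.D.v_sq hv)

/-- The elements of `C(y)` centralising `t`. -/
theorem cent_t {x : G} (hxy : x * y = y * x) (hxt : x * t = t * x) :
    ∃ v ∈ vGroup S t h, ∃ c ∈ zpowers y, x = v * c := by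
  obtain ⟨v, hv, b, hb, rfl⟩ := Y.D.split x hxt
  refine ⟨v, hv, b, Y.self b hb ?_, rfl⟩
  calc b * y = v⁻¹ * (v * b * y) := by group
    _ = v⁻¹ * (y * v) * b := by rw [hxy]; group
    _ = y * b := by rw [← Y.vy hv]; group

/-- The normaliser of `V` inside `C(y)`. -/
theorem norm_v {x : G} (hxy : x * y = y * x) (hxV : x * t * x⁻¹ ∈ vGroup S t h) :
    ∃ i : Fin 3, ∃ v ∈ vGroup S t h, ∃ c ∈ zpowers y, x = n ^ (i : ℕ) * v * c := by
  classical
  have := Fintype.ofFinite G
  set V := vGroup S t h with hV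
  set a := n * t * n⁻¹ with ha
  set a' := n ^ 2 * t * (n ^ 2)⁻¹ with ha'
  have haV : a ∈ V := Y.hnV t Y.tV
  have ha'a : a' = n * a * n⁻¹ := by rw [ha', ha, pow_two]; group
  have ha'V : a' ∈ V := ha'a ▸ Y.hnV a haV
  have ha1 : a ≠ 1 := fun hh => Y.t_ne (conj_eq_one_iff.1 hh)
  have ha'1 : a' ≠ 1 := fun hh => Y.t_ne (conj_eq_one_iff.1 hh)
  have haa' : a' ≠ a := fun hh => ha1 (Y.nofix haV (by rw [← ha'a, hh]))
  have ha't : a' ≠ t := fun hh => Y.hnt (by
    have h3 : n ^ 3 * t * (n ^ 3)⁻¹ = a := by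
      rw [pow_succ' n 2, ha]
      calc n * n ^ 2 * t * (n * n ^ 2)⁻¹ = n * a' * n⁻¹ := by rw [ha']; group
        _ = n * t * n⁻¹ := by rw [hh]
    rw [Y.hn3, inv_one, one_mul, mul_one] at h3
    exact h3.symm)
  obtain ⟨i, hi⟩ : ∃ i : Fin 3, x * t * x⁻¹ = n ^ (i : ℕ) * t * (n ^ (i : ℕ))⁻¹ := by
    set q := x * t * x⁻¹ with hq
    have hq1 : q ≠ 1 := fun hh => Y.t_ne (conj_eq_one_iff.1 hh)
    by_contra hcon
    push Not at hcon
    have q0 : q ≠ t := fun hh => hcon 0 (by simpa using hh)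
    have q1 : q ≠ a := fun hh => hcon 1 (by simpa [ha] using hh)
    have q2 : q ≠ a' := fun hh => hcon 2 (by simpa [ha'] using hh)
    have hsub : ({1, t, a, a', q} : Finset G) ⊆ Finset.univ.filter fun x => x ∈ V := by
      intro w hw
      simp only [Finset.mem_insert, Finset.mem_singleton] at hw
      simp only [Finset.mem_filter, Finset.mem_univ, true_and]
      rcases hw with rfl | rfl | rfl | rfl | rfl
      · exact one_mem V
      · exact Y.tV
      · exact haV
      · exact ha'V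
      · exact hxV
    have h4 := Finset.card_le_card hsub
    have hV4 : Nat.card V = 4 := Y.D.T.parts.1
    have hat : a ≠ t := Y.hnt
    rw [← Fintype.card_subtype, ← Nat.card_eq_fintype_card, hV4,
      Finset.card_insert_of_notMem (by simp [Y.t_ne.symm, ha1.symm, ha'1.symm, hq1.symm]),
      Finset.card_insert_of_notMem (by simp [hat.symm, ha't.symm, q0.symm]),
      Finset.card_insert_of_notMem (by simp [haa'.symm, q1.symm]),
      Finset.card_pair q2.symm] at h4
    omega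
  have hxt : (n ^ (i : ℕ))⁻¹ * x * t = t * ((n ^ (i : ℕ))⁻¹ * x) := by
    refine mul_inv_eq_iff_eq_mul.1 ?_
    calc (n ^ (i : ℕ))⁻¹ * x * t * ((n ^ (i : ℕ))⁻¹ * x)⁻¹
        = (n ^ (i : ℕ))⁻¹ * (x * t * x⁻¹) * n ^ (i : ℕ) := by group
      _ = t := by rw [hi]; group
  obtain ⟨v, hv, c, hc, e⟩ := Y.cent_t
    (((show Commute n y from Y.ny).pow_left (i : ℕ)).inv_left.mul_left hxy).eq hxt
  exact ⟨i, v, hv, c, hc, by rw [mul_assoc, ← e]; group⟩

/-- The centraliser of `y` as a group. -/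
abbrev CY (y : G) := ↥(centralizer ({y} : Set G))

theorem zy_normal : ((zpowers y).subgroupOf (centralizer ({y} : Set G))).Normal := by
  refine ⟨fun w hw x => ?_⟩
  have hc : Commute (x : G) w := by
    obtain ⟨i, hi⟩ := hw
    have : Commute (x : G) (y ^ i) :=
      Commute.zpow_right (mem_centralizer_singleton_iff.1 x.2) i
    have hi' : y ^ i = (w : G) := hi
    rwa [hi'] at this
  have : x * w * x⁻¹ = w := Subtype.ext (by
    show (x : G) * w * (x : G)⁻¹ = w
    rw [hc.eq, mul_inv_cancel_right])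
  rwa [this]

theorem card_cases :
    Nat.card (CY y) = 12 * p ∨ (Nat.card (CY y) = 60 * p ∧
      ∀ N : Subgroup (CY y), N.Normal → (zpowers y).subgroupOf (centralizer ({y} : Set G)) ≤ N →
        Nat.card N = p ∨ Nat.card N = 60 * p) := by
  classical
  have : Fact (Nat.Prime 2) := ⟨Nat.prime_two⟩
  have := Y.zy_normal
  set Z := (zpowers y).subgroupOf (centralizer ({y} : Set G)) with hZ
  set V := vGroup S t h with hV
  have hV4 : Nat.card V = 4 := Y.D.T.parts.1
  have hmemY : ∀ {x}, x ∈ centralizer ({y} : Set G) ↔ x * y = y * x := mem_centralizer_singleton_iff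
  have hVY : ∀ v ∈ V, v ∈ centralizer ({y} : Set G) := fun v hv => hmemY.2 (Y.vy hv)
  have hZc : Nat.card Z = p := by
    rw [hZ, Nat.card_congr (Subgroup.subgroupOfEquivOfLe (zpowers_le.2 (hmemY.2 rfl))).toEquiv,
      Nat.card_zpowers, Y.hord]
  let π := QuotientGroup.mk' Z
  have hcard : Nat.card (CY y) = Nat.card (CY y ⧸ Z) * p := by
    rw [Subgroup.card_eq_card_quotient_mul_card_subgroup Z, hZc]
  have hZmem : ∀ x : CY y, π x = 1 ↔ (x : G) ∈ zpowers y := fun x => by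
    rw [QuotientGroup.mk'_apply, QuotientGroup.eq_one_iff]; rfl
  let πV : ↥V → CY y ⧸ Z := fun v => π ⟨v.1, hVY v v.2⟩
  have hπVinj : Function.Injective πV := fun v w e => by
    have h1 : π (⟨w.1, hVY w w.2⟩⁻¹ * ⟨v.1, hVY v v.2⟩) = 1 := by
      rw [map_mul, map_inv, show π ⟨v.1, hVY v v.2⟩ = π ⟨w.1, hVY w w.2⟩ from e, inv_mul_cancel]
    exact Subtype.ext (inv_mul_eq_one.1
      (Y.v_meet (mul_mem (inv_mem w.2) v.2) ((hZmem _).1 h1))).symm
  let n' : CY y := ⟨n, hmemY.2 Y.ny⟩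
  let t' : CY y := ⟨t, hVY t Y.tV⟩
  -- the centraliser of the image of `t`
  have hct : ∀ x : CY y, π x * π t' = π t' * π x → ∃ v : ↥V, π x = πV v := by
    intro x hx
    have h1 : π (x * t' * x⁻¹ * t'⁻¹) = 1 := by
      rw [map_mul, map_mul, map_mul, map_inv, map_inv, hx]; group
    set w := (x : G) * t * (x : G)⁻¹ * t⁻¹ with hw
    have hwy : w ∈ zpowers y := (hZmem _).1 h1
    have hwt : w * t = t * w := by
      obtain ⟨j, hj⟩ := hwy
      have hj' : y ^ j = w := hj
      rw [← hj']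
      exact (Commute.zpow_left (show Commute y t from Y.D.hBX y Y.hyB) j).eq
    have hw2 : w * w = 1 := by
      have e : w * t * (w * t) = 1 := by
        rw [show w * t = (x : G) * t * (x : G)⁻¹ by rw [hw]; group,
          show (x : G) * t * (x : G)⁻¹ * ((x : G) * t * (x : G)⁻¹) = (x : G) * (t * t) * (x : G)⁻¹ by group,
          Y.D.T.ht.2.1]
        group
      calc w * w = w * w * (t * t) := by rw [Y.D.T.ht.2.1, mul_one]
        _ = w * t * (w * t) := by rw [mul_assoc w t, ← mul_assoc t w t, ← hwt]; group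
        _ = 1 := e
    have hw1 := Y.odd_mem hwy hw2
    have hxt : (x : G) * t = t * x := by
      rw [hw, mul_inv_eq_one] at hw1
      exact mul_inv_eq_iff_eq_mul.1 hw1
    obtain ⟨v, hv, c, hc, e⟩ := Y.cent_t (hmemY.1 x.2) hxt
    refine ⟨⟨v, hv⟩, ?_⟩
    have hcY : c ∈ centralizer ({y} : Set G) := zpowers_le.2 (hmemY.2 rfl) hc
    rw [show x = (⟨v, hVY v hv⟩ : CY y) * ⟨c, hcY⟩ from Subtype.ext e, map_mul,
      (hZmem ⟨c, hcY⟩).2 hc, mul_one]
  have hVt : ∀ v : ↥V, πV v * π t' = π t' * πV v := fun v => by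
    rw [← map_mul, ← map_mul]
    exact congrArg π (Subtype.ext (Y.D.vX v.2))
  have ht2 : π t' * π t' = 1 := by
    rw [← map_mul]; exact (hZmem _).2 (by show t * t ∈ zpowers y; rw [Y.D.T.ht.2.1]; exact one_mem _)
  have hC4 : Nat.card ↥(centralizer ({π t'} : Set (CY y ⧸ Z))) = 4 := by
    rw [← hV4]
    refine (Nat.card_congr (Equiv.ofBijective (fun v : ↥V =>
      (⟨πV v, mem_centralizer_singleton_iff.2 (hVt v)⟩ : ↥(centralizer ({π t'} : Set (CY y ⧸ Z)))))
      ⟨fun v w e => hπVinj (congrArg Subtype.val e), ?_⟩)).symm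
    rintro ⟨q, hq⟩
    obtain ⟨x, rfl⟩ := QuotientGroup.mk'_surjective Z q
    obtain ⟨v, hv⟩ := hct x (mem_centralizer_singleton_iff.1 hq)
    exact ⟨v, Subtype.ext hv.symm⟩
  have hsq : ∀ v : ↥V, πV v * πV v = 1 := fun v => by
    rw [← map_mul]; exact (hZmem _).2 (by show v.1 * v.1 ∈ zpowers y; rw [Y.D.v_sq v.2]; exact one_mem _)
  -- powers of `n`
  have hn' : π n' ^ 3 = 1 := by
    rw [← map_pow, show n' ^ 3 = 1 from Subtype.ext Y.hn3, map_one]
  have hnv : ∀ v : ↥V, π n' * πV v * (π n')⁻¹ = πV v → v = 1 := by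
    intro v e
    rw [← map_inv, ← map_mul, ← map_mul] at e
    have e' : πV ⟨n * v.1 * n⁻¹, Y.hnV v v.2⟩ = πV v := e
    exact Subtype.ext (Y.nofix v.2 (congrArg Subtype.val (hπVinj e')))
  -- `8` does not divide the order of the quotient
  let W : Subgroup (CY y ⧸ Z) := centralizer ({π t'} : Set (CY y ⧸ Z))
  have hW2 : IsPGroup 2 W := IsPGroup.of_card (n := 2) (by rw [hC4]; norm_num)
  have hWnorm : ∀ x : CY y, π x ∈ normalizer (W : Set (CY y ⧸ Z)) →
      ∃ i : Fin 3, ∃ v : ↥V, π x = π n' ^ (i : ℕ) * πV v := by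
    intro x hx
    have h1 : π (x * t' * x⁻¹) ∈ W := by
      rw [map_mul, map_mul, map_inv]
      exact (mem_normalizer_iff.1 hx (π t')).1 (mem_centralizer_singleton_iff.2 rfl)
    obtain ⟨v, hv⟩ := hct _ (mem_centralizer_singleton_iff.1 h1)
    have hxV : (x : G) * t * (x : G)⁻¹ ∈ V := by
      set w := v.1⁻¹ * ((x : G) * t * (x : G)⁻¹)
      have hwy : w ∈ zpowers y := (hZmem (⟨v.1, hVY v v.2⟩⁻¹ * (x * t' * x⁻¹))).1 (by
        rw [show π (⟨v.1, hVY v v.2⟩⁻¹ * (x * t' * x⁻¹)) = (πV v)⁻¹ * π (x * t' * x⁻¹) from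
          (map_mul π _ _).trans (by rw [map_inv]), hv, inv_mul_cancel])
      have hq2 : (x : G) * t * (x : G)⁻¹ * ((x : G) * t * (x : G)⁻¹) = 1 := by
        rw [show (x : G) * t * (x : G)⁻¹ * ((x : G) * t * (x : G)⁻¹) = (x : G) * (t * t) * (x : G)⁻¹ by group,
          Y.D.T.ht.2.1]
        group
      have hvw : v.1 * w = w * v.1 := by
        obtain ⟨j, hj⟩ := hwy
        have hj' : y ^ j = w := hj
        rw [← hj']
        exact (Commute.zpow_right (show Commute v.1 y from Y.vy v.2) j).eq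
      have hw2 : w * w = 1 := by
        calc w * w = (v.1 * v.1) * (w * w) := by rw [Y.D.v_sq v.2, one_mul]
          _ = (v.1 * w) * (v.1 * w) := by rw [mul_assoc v.1 w, ← mul_assoc w v.1 w, ← hvw]; group
          _ = 1 := by
              rw [show v.1 * w = (x : G) * t * (x : G)⁻¹ by simp only [w]; group]; exact hq2
      have hw1 := Y.odd_mem hwy hw2
      rw [show (x : G) * t * (x : G)⁻¹ = v.1 * w by simp only [w]; group, hw1, mul_one]
      exact v.2
    obtain ⟨i, u, hu, c, hc, e⟩ := Y.norm_v (hmemY.1 x.2) hxV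
    refine ⟨i, ⟨u, hu⟩, ?_⟩
    have hcY : c ∈ centralizer ({y} : Set G) := zpowers_le.2 (hmemY.2 rfl) hc
    rw [show x = n' ^ (i : ℕ) * ⟨u, hVY u hu⟩ * ⟨c, hcY⟩ from Subtype.ext (by simpa using e),
      map_mul, map_mul, map_pow, (hZmem ⟨c, hcY⟩).2 hc, mul_one]
  have hnW : π n' ∈ normalizer (W : Set (CY y ⧸ Z)) := by
    have h1 : ∀ q ∈ W, π n' * q * (π n')⁻¹ ∈ W := by
      intro q hq
      obtain ⟨x, rfl⟩ := QuotientGroup.mk'_surjective Z q
      obtain ⟨v, hv⟩ := hct x (mem_centralizer_singleton_iff.1 hq)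
      show π n' * π x * (π n')⁻¹ ∈ W
      rw [hv, ← map_inv, ← map_mul, ← map_mul]
      exact mem_centralizer_singleton_iff.2 (hVt ⟨n * v.1 * n⁻¹, Y.hnV v v.2⟩)
    rw [mem_normalizer_iff]
    intro q
    refine ⟨h1 q, fun hq => ?_⟩
    have := h1 _ (h1 _ hq)
    rwa [show π n' * (π n' * (π n' * q * (π n')⁻¹) * (π n')⁻¹) * (π n')⁻¹ =
        π n' ^ 3 * q * (π n' ^ 3)⁻¹ by simp only [pow_succ, pow_zero, one_mul, mul_inv_rev, mul_assoc],
      hn', inv_one, one_mul, mul_one] at this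
  obtain ⟨P, hP⟩ := hW2.exists_le_sylow
  have hPW : (P : Subgroup (CY y ⧸ Z)) = W := by
    refine (le_antisymm hP ?_).symm
    by_contra hne
    have hlt : W.subgroupOf (P : Subgroup (CY y ⧸ Z)) < ⊤ :=
      lt_top_iff_ne_top.2 fun e => hne (Subgroup.subgroupOf_eq_top.1 e)
    have : Group.IsNilpotent (P : Subgroup (CY y ⧸ Z)) := P.isPGroup'.isNilpotent
    obtain ⟨q, hqN, hqW⟩ := SetLike.exists_of_lt (Group.normalizerCondition_of_isNilpotent _ hlt)
    obtain ⟨m, hm⟩ := P.isPGroup' q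
    obtain ⟨x, hx⟩ := QuotientGroup.mk'_surjective Z (q : CY y ⧸ Z)
    have hqn : (q : CY y ⧸ Z) ∈ normalizer (W : Set (CY y ⧸ Z)) := by
      have h1 : ∀ w ∈ W, (q : CY y ⧸ Z) * w * (q : CY y ⧸ Z)⁻¹ ∈ W := fun w hw =>
        (mem_normalizer_iff.1 hqN ⟨w, hP hw⟩).1 hw
      have h2 : ∀ w ∈ W, (q : CY y ⧸ Z)⁻¹ * w * q ∈ W := fun w hw => by
        have := (mem_normalizer_iff.1 (inv_mem hqN) ⟨w, hP hw⟩).1 hw
        simpa [Subgroup.mem_subgroupOf] using this
      rw [mem_normalizer_iff]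
      intro w
      refine ⟨h1 w, fun hw => ?_⟩
      have := h2 _ hw
      simpa [mul_assoc] using this
    obtain ⟨i, v, e⟩ := hWnorm x (show π x ∈ _ by rw [hx]; exact hqn)
    have e' : (q : CY y ⧸ Z) = π n' ^ (i : ℕ) * πV v := hx.symm.trans e
    have hpow : ∀ k : ℕ, ∃ u : ↥V, (q : CY y ⧸ Z) ^ k = π n' ^ ((i : ℕ) * k) * πV u := by
      intro k
      induction k with
      | zero => exact ⟨1, by simp [πV]; exact (map_one π).symm⟩
      | succ k ih =>
        obtain ⟨u, hu⟩ := ih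
        have hcm : ∃ u' : ↥V, πV u * π n' ^ (i : ℕ) = π n' ^ (i : ℕ) * πV u' := by
          have hm : (π n' ^ (i : ℕ))⁻¹ * πV u * π n' ^ (i : ℕ) ∈ W := by
            have := (mem_normalizer_iff.1 (inv_mem (pow_mem hnW (i : ℕ))) (πV u)).1
              (mem_centralizer_singleton_iff.2 (hVt u))
            rwa [inv_inv] at this
          obtain ⟨x', hx'⟩ := QuotientGroup.mk'_surjective Z ((π n' ^ (i : ℕ))⁻¹ * πV u * π n' ^ (i : ℕ))
          obtain ⟨u', hu'⟩ := hct x' (mem_centralizer_singleton_iff.1 (show π x' ∈ W by rw [hx']; exact hm))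
          exact ⟨u', by rw [← hu', hx']; group⟩
        obtain ⟨u', hu'⟩ := hcm
        refine ⟨u' * v, ?_⟩
        have hmul : πV (u' * v) = πV u' * πV v :=
          (congrArg π (Subtype.ext rfl : (⟨(u' * v).1, hVY _ (u' * v).2⟩ : CY y) =
            ⟨u'.1, hVY _ u'.2⟩ * ⟨v.1, hVY _ v.2⟩)).trans (map_mul π _ _)
        rw [pow_succ, hu, e', hmul, mul_add, mul_one, pow_add, mul_assoc, ← mul_assoc (πV u), hu']
        group
    obtain ⟨u, hu⟩ := hpow (2 ^ m)
    rw [show (q : CY y ⧸ Z) ^ 2 ^ m = 1 by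
      simpa using congrArg (fun w : ↥(P : Subgroup (CY y ⧸ Z)) => (w : CY y ⧸ Z)) hm] at hu
    have hi : π n' ^ ((i : ℕ) * 2 ^ m) ∈ W := by
      rw [eq_inv_of_mul_eq_one_left hu.symm]
      exact inv_mem (mem_centralizer_singleton_iff.2 (hVt u))
    have hW3 : π n' ∉ W := fun hm' => by
      refine Y.t_ne (congrArg Subtype.val (hnv ⟨t, Y.tV⟩ ?_))
      rw [mem_centralizer_singleton_iff.1 hm', mul_inv_cancel_right]
    have hi0 : ((i : ℕ) * 2 ^ m) % 3 = 0 := by
      by_contra hne3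
      refine hW3 ?_
      rw [pow_eq_pow_mod _ hn'] at hi
      rcases (show (i : ℕ) * 2 ^ m % 3 = 1 ∨ (i : ℕ) * 2 ^ m % 3 = 2 by omega) with e3 | e3 <;> rw [e3] at hi
      · simpa using hi
      · have h3 := inv_mem hi
        rwa [inv_eq_of_mul_eq_one_left (show π n' * π n' ^ 2 = 1 by rw [← pow_succ']; exact hn')] at h3
    have : (i : ℕ) = 0 := by
      have h3 : 3 ∣ (i : ℕ) * 2 ^ m := Nat.dvd_of_mod_eq_zero hi0
      rcases (Nat.Prime.dvd_mul Nat.prime_three).1 h3 with h' | h'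
      · have := i.2; omega
      · exact absurd (Nat.prime_three.dvd_of_dvd_pow h') (by norm_num)
    refine hqW ?_
    show (q : CY y ⧸ Z) ∈ W
    rw [e', this, pow_zero, one_mul]
    exact mem_centralizer_singleton_iff.2 (hVt v)
  have ht'1 : π t' ≠ 1 := fun e => Y.t_ne (Y.v_meet Y.tV ((hZmem t').1 e))
  by_cases hWn : W.Normal
  · -- the small case
    left
    have hsurj : Function.Surjective (fun q : Fin 3 × ↥V => π n' ^ (q.1 : ℕ) * πV q.2) := by
      intro q
      obtain ⟨x, rfl⟩ := QuotientGroup.mk'_surjective Z q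
      obtain ⟨i, v, e⟩ := hWnorm x (by rw [normalizer_eq_top]; exact mem_top _)
      exact ⟨(i, v), e.symm⟩
    have h12 := Nat.card_le_card_of_surjective _ hsurj
    rw [Nat.card_prod, Nat.card_fin, hV4] at h12
    have h4 : 4 ∣ Nat.card (CY y ⧸ Z) := by
      have := Subgroup.card_subgroup_dvd_card W
      rwa [hC4] at this
    have h3 : 3 ∣ Nat.card (CY y ⧸ Z) := by
      have := orderOf_dvd_natCard (π n')
      rwa [orderOf_eq_prime hn' (fun e => Y.t_ne (congrArg Subtype.val (hnv ⟨t, Y.tV⟩ (by rw [e]; group))))] at this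
    have hpos : 0 < Nat.card (CY y ⧸ Z) := Nat.card_pos
    have h12d : 12 ∣ Nat.card (CY y ⧸ Z) :=
      (show Nat.Coprime 4 3 by decide).mul_dvd_of_dvd_of_dvd h4 h3
    have := Nat.le_of_dvd hpos h12d
    have e12 : Nat.card (CY y ⧸ Z) = 12 := le_antisymm h12 this
    rw [hcard, e12]
  right
  obtain ⟨eL⟩ := Cfsg.Agent.S3277.result (π t')
    (orderOf_eq_two.2 ⟨ht2, ht'1⟩) hC4
    (fun c hc => by
      obtain ⟨x, rfl⟩ := QuotientGroup.mk'_surjective Z c
      obtain ⟨v, hv⟩ := hct x (mem_centralizer_singleton_iff.1 hc)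
      show π x ^ 2 = 1
      rw [hv, pow_two]; exact hsq v)
    (by
      rintro ⟨R, N, hN, hc⟩
      have hodd : ¬ 2 ∣ Nat.card N := hc.index_eq_card ▸ R.not_dvd_index
      obtain ⟨k, hk⟩ := IsPGroup.iff_card.1 R.isPGroup'
      have hmem : π n' ∈ N := by
        rw [← QuotientGroup.eq_one_iff, ← orderOf_eq_one_iff, ← Nat.dvd_one]
        have h2 : orderOf ((π n' : CY y ⧸ Z) : (CY y ⧸ Z) ⧸ N) ∣ 2 ^ k := by
          rw [← hk, ← hc.symm.index_eq_card, Subgroup.index_eq_card]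
          exact orderOf_dvd_natCard _
        have h3 : orderOf ((π n' : CY y ⧸ Z) : (CY y ⧸ Z) ⧸ N) ∣ 3 :=
          orderOf_dvd_of_pow_eq_one (by rw [← QuotientGroup.mk_pow, hn', QuotientGroup.mk_one])
        have := Nat.dvd_gcd h2 h3
        rwa [show Nat.gcd (2 ^ k) 3 = 1 from Nat.Coprime.pow_left k (by decide)] at this
      set m := π n' * (π t' * (π n')⁻¹ * (π t')⁻¹) with hmdef
      have hm : m ∈ N := mul_mem hmem (hN.conj_mem _ (inv_mem hmem) _)
      have hmV : n * t * n⁻¹ * t⁻¹ ∈ V := mul_mem (Y.hnV t Y.tV) (inv_mem Y.tV)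
      have hmeq : m = πV ⟨_, hmV⟩ := by
        rw [hmdef, ← map_inv, ← map_inv, ← map_mul, ← map_mul, ← map_mul]
        exact congrArg π (Subtype.ext (show n * (t * n⁻¹ * t⁻¹) = n * t * n⁻¹ * t⁻¹ by group))
      have hm1 : m ≠ 1 := fun e => Y.hnt (mul_inv_eq_one.1
        (Y.v_meet hmV ((hZmem _).1 (hmeq ▸ e))))
      apply hodd
      have := orderOf_dvd_natCard (⟨m, hm⟩ : N)
      rw [← Subgroup.orderOf_coe] at this
      change orderOf m ∣ _ at this
      rwa [orderOf_eq_prime (by rw [hmeq, pow_two]; exact hsq _) hm1] at this)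
    (by
      rintro N hN ⟨-, hN2⟩
      constructor
      · intro h2
        obtain ⟨a, ha, hall⟩ := (Nat.card_eq_two_iff' (1 : N)).1 h2
        have ha1 : (a : CY y ⧸ Z) ≠ 1 := fun e => ha (Subtype.ext e)
        have hc : ∀ q, q * (a : CY y ⧸ Z) * q⁻¹ = a := fun q =>
          congrArg Subtype.val (hall ⟨_, hN.conj_mem _ a.2 q⟩ (fun e =>
            ha1 (conj_eq_one_iff.1 (congrArg Subtype.val e))))
        obtain ⟨x, hx⟩ := QuotientGroup.mk'_surjective Z (a : CY y ⧸ Z)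
        obtain ⟨v, hv⟩ := hct x (by
          have := mul_inv_eq_iff_eq_mul.1 (hc (π t'))
          rw [show π x = (a : CY y ⧸ Z) from hx]; exact this.symm)
        have hav : (a : CY y ⧸ Z) = πV v := hx.symm.trans hv
        refine ha1 ?_
        have := hnv v (by rw [← hav]; exact hc _)
        rw [hav, this]
        exact map_one π
      · intro h4
        refine hWn ?_
        obtain ⟨g, hg⟩ := mem_sylow_conj (IsPGroup.of_card (n := 2) h4) P
        have hNW : N = W := by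
          refine Subgroup.eq_of_le_of_card_ge (fun q hq => ?_) (by rw [hC4, h4])
          have h1 := hg _ (hN.conj_mem q hq g⁻¹)
          rw [hPW] at h1
          simpa [mul_assoc] using h1
        exact hNW ▸ hN)
  have h60 : Nat.card (CY y ⧸ Z) = 60 := by rw [Nat.card_congr eL.toEquiv, a5_card]
  refine ⟨by rw [hcard, h60], fun N hN hle => ?_⟩
  rcases a5_simple_of_normal eL (hN.map π (QuotientGroup.mk'_surjective Z)) with e | e
  · left
    rw [← hZc]
    refine (congrArg (fun K : Subgroup (CY y) => Nat.card K) (le_antisymm ?_ hle))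
    rw [Subgroup.map_eq_bot_iff, QuotientGroup.ker_mk'] at e
    exact e
  · right
    have : N = ⊤ := by
      have := congrArg (Subgroup.comap π) e
      rwa [Subgroup.comap_top, Subgroup.comap_map_eq, QuotientGroup.ker_mk', sup_eq_left.2 hle] at this
    rw [this, Subgroup.card_top, hcard, h60]

end OddY

end CfsgLib.HJType
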