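import Cfsg.Agent.Lib.HJType.LocalThreeA
import Cfsg.Agent.Lib.Fusion.EssentialFourth

/-!
The Sylow three-subgroups of a group of Hall–Janko type.
-/

set_option autoImplicit false
set_option linter.unusedSectionVars false

namespace CfsgLib.HJType

open Subgroup LocalGen
open scoped Pointwise

variable {G : Type*} [Group G] [Finite G] {z : G} {Q : Subgroup G}

/-- A Sylow three-subgroup containing the two commuting elements. -/
structure RFrame (S : Setting z Q) (t h : G) (B : Subgroup G) (n b : G) (R : Sylow 3 G) : Prop where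
  F : Frame S t h B n b
  hn : n ∈ (R : Subgroup G)
  hh : h ∈ (R : Subgroup G)

namespace Frame

variable {S : Setting z Q} {t h : G} {B : Subgroup G} {n b : G} (F : Frame S t h B n b)
include F

theorem h_not_mem : h ∉ zpowers n := fun hm =>
  F.n_not_h (g := 1) (by rwa [one_mul, inv_one, mul_one])

theorem e_card : Nat.card ↥(zpowers n ⊔ zpowers h) = 9 := by
  have : Fact (Nat.Prime 3) := ⟨Nat.prime_three⟩
  rw [HJOrder.card_sup_mul, Nat.card_zpowers, Nat.card_zpowers, F.n_ord, F.Yh.hord]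
  · refine le_trans (zpowers_le.2 ?_) (centralizer_le_normalizer _)
    exact mem_centralizer_iff.2 fun y hy => (commute_of_mem_zpowers hy F.Yh.ny).symm
  · rw [eq_bot_iff]
    intro x hx
    obtain ⟨h1, h2⟩ := mem_inf.1 hx
    rw [mem_bot]
    by_contra hx1
    refine F.h_not_mem ?_
    rw [← zpowers_eq_of_mem F.n_ord h1 hx1, zpowers_eq_of_mem F.Yh.hord h2 hx1]
    exact mem_zpowers h

theorem exists_R : ∃ R : Sylow 3 G, RFrame S t h B n b R := by
  have : Fact (Nat.Prime 3) := ⟨Nat.prime_three⟩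
  obtain ⟨R, hR⟩ := (IsPGroup.of_card (p := 3) (n := 2)
    (show Nat.card ↥(zpowers n ⊔ zpowers h) = 3 ^ 2 by rw [F.e_card]; norm_num)).exists_le_sylow
  exact ⟨R, F, hR (mem_sup_left (mem_zpowers n)), hR (mem_sup_right (mem_zpowers h))⟩

theorem seven_free {g x : G} (hg : orderOf g = 7) (hx : x * g = g * x) :
    orderOf x ≠ 2 ∧ orderOf x ≠ 5 := by
  constructor
  · intro h2
    have hd := orderOf_dvd_natCard (⟨g, mem_centralizer_singleton_iff.2 hx.symm⟩ :
      ↥(centralizer ({x} : Set G)))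
    rw [Subgroup.orderOf_mk, hg] at hd
    rcases S.classes F.Yh.D.T.ht h2 with hc | hc
    · obtain ⟨c, hc'⟩ := isConj_iff.1 hc
      rw [← hc', card_centralizer_conj, S.card_C] at hd
      norm_num at hd
    · obtain ⟨c, hc'⟩ := isConj_iff.1 hc
      obtain ⟨e⟩ := F.Yh.D.equiv
      rw [← hc', card_centralizer_conj, F.Yh.D.card_ct, Nat.card_congr e.toEquiv, a5_card] at hd
      norm_num at hd
  · intro h5
    have hd := orderOf_dvd_natCard (⟨g, mem_centralizer_singleton_iff.2 hx.symm⟩ :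
      ↥(centralizer ({x} : Set G)))
    rw [Subgroup.orderOf_mk, hg] at hd
    rcases F.five_kinds h5 with ⟨c, hc⟩ | hs
    · rw [← card_centralizer_conj c x, card_centralizer_zpowers hc, F.b_card] at hd
      norm_num at hd
    · rw [F.stype_card hs] at hd
      norm_num at hd

/-- The centraliser of an element of order seven has order dividing 189. -/
theorem seven_cent {g : G} (hg : orderOf g = 7) :
    Nat.card (centralizer ({g} : Set G)) ∣ 189 := by
  have hd : Nat.card (centralizer ({g} : Set G)) ∣ 3200 * 189 := by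
    rw [show 3200 * 189 = 604800 by norm_num, ← S.order_eq]
    exact Subgroup.card_subgroup_dvd_card _
  refine (Nat.Coprime.dvd_mul_left ?_).1 hd
  rw [show (3200 : ℕ) = 2 ^ 7 * 5 ^ 2 by norm_num, Nat.coprime_mul_iff_right]
  constructor <;> refine Nat.Coprime.pow_right _ ?_ <;> rw [Nat.coprime_comm]
  · rw [Nat.prime_two.coprime_iff_not_dvd]
    intro h2
    have : Fact (Nat.Prime 2) := ⟨Nat.prime_two⟩
    obtain ⟨x, hx⟩ := exists_prime_orderOf_dvd_card' 2 h2
    exact (F.seven_free hg (mem_centralizer_singleton_iff.1 x.2)).1 (by rw [Subgroup.orderOf_coe]; exact hx)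
  · rw [Nat.prime_five.coprime_iff_not_dvd]
    intro h5
    have : Fact (Nat.Prime 5) := ⟨Nat.prime_five⟩
    obtain ⟨x, hx⟩ := exists_prime_orderOf_dvd_card' 5 h5
    exact (F.seven_free hg (mem_centralizer_singleton_iff.1 x.2)).2 (by rw [Subgroup.orderOf_coe]; exact hx)

theorem seven_norm {g : G} (hg : orderOf g = 7) :
    Nat.card (centralizer ({g} : Set G)) = 7 ∧ Nat.card (normalizer (zpowers g : Set G)) = 42 ∨
    Nat.card (centralizer ({g} : Set G)) = 21 ∧ Nat.card (normalizer (zpowers g : Set G)) = 42 ∨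
    Nat.card (centralizer ({g} : Set G)) ∈ ({63, 189} : Set ℕ) ∧
      Nat.card (normalizer (zpowers g : Set G)) = 189 := by
  have : Fact (Nat.Prime 7) := ⟨by norm_num⟩
  obtain ⟨e, he, hN⟩ := card_normalizer_zpowers hg
  obtain ⟨P, hP⟩ := (isPGroup_zpowers (p := 7) (k := 1)
    (show g ^ 7 ^ 1 = 1 by rw [pow_one, ← hg]; exact pow_orderOf_eq_one g)).exists_le_sylow
  have hP7 : Nat.card (P : Subgroup G) = 7 := by
    simpa using sylow_of_card (p := 7) (a := 1) (m := 86400) (by rw [S.order_eq]; norm_num) (by norm_num) P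
  have heq : zpowers g = (P : Subgroup G) :=
    Subgroup.eq_of_le_of_card_ge hP (by rw [hP7, Nat.card_zpowers, hg])
  have hmod := sylow_mod P
  rw [← heq, S.order_eq, hN] at hmod
  have hd : Nat.card (centralizer ({g} : Set G)) * e ∣ 604800 := by
    rw [← hN, ← S.order_eq]; exact Subgroup.card_subgroup_dvd_card _
  have h7 : 7 ∣ Nat.card (centralizer ({g} : Set G)) := by
    have h := orderOf_dvd_natCard (⟨g, mem_centralizer_singleton_iff.2 rfl⟩ : ↥(centralizer ({g} : Set G)))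
    rwa [Subgroup.orderOf_mk, hg] at h
  have h189 := F.seven_cent hg
  have hmemd : Nat.card (centralizer ({g} : Set G)) ∈ Nat.divisors 189 :=
    Nat.mem_divisors.2 ⟨h189, by norm_num⟩
  have hed : e ∈ Nat.divisors 6 := Nat.mem_divisors.2 ⟨he, by norm_num⟩
  rw [show Nat.divisors 189 = {1, 3, 7, 9, 21, 27, 63, 189} by decide] at hmemd
  rw [show Nat.divisors 6 = {1, 2, 3, 6} by decide] at hed
  simp only [Finset.mem_insert, Finset.mem_singleton] at hmemd hed
  simp only [Set.mem_insert_iff, Set.mem_singleton_iff, hN]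
  rcases hmemd with hc | hc | hc | hc | hc | hc | hc | hc <;> rw [hc] at hmod hd h7 ⊢ <;>
    rcases hed with rfl | rfl | rfl | rfl <;>
    first
      | (norm_num at h7; done)
      | (norm_num at hmod; done)
      | (norm_num at hd; done)
      | (norm_num; done)

end Frame

namespace RFrame

variable {S : Setting z Q} {t h : G} {B : Subgroup G} {n b : G} {R : Sylow 3 G}
  (K : RFrame S t h B n b R)
include K

theorem card_R : Nat.card (R : Subgroup G) = 27 := by
  have : Fact (Nat.Prime 3) := ⟨Nat.prime_three⟩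
  simpa using sylow_of_card (p := 3) (a := 3) (m := 22400) (by rw [S.order_eq]; norm_num) (by norm_num) R

theorem not_comm : ¬ ∀ a ∈ (R : Subgroup G), ∀ c ∈ (R : Subgroup G), a * c = c * a := by
  intro hall
  have hd := Subgroup.card_dvd_of_le (show (R : Subgroup G) ≤ centralizer ({h} : Set G) from
    fun a ha => mem_centralizer_singleton_iff.2 (hall a ha h K.hh))
  rw [K.card_R, K.F.h_card] at hd
  norm_num at hd

theorem r_inf_h : (R : Subgroup G) ⊓ centralizer ({h} : Set G) = zpowers n ⊔ zpowers h := by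
  have hle : zpowers n ⊔ zpowers h ≤ (R : Subgroup G) ⊓ centralizer ({h} : Set G) :=
    sup_le (zpowers_le.2 (mem_inf_centralizer.2 ⟨K.hn, K.F.Yh.ny⟩))
      (zpowers_le.2 (mem_inf_centralizer.2 ⟨K.hh, rfl⟩))
  refine (Subgroup.eq_of_le_of_card_ge hle ?_).symm
  have h1 : Nat.card ↥((R : Subgroup G) ⊓ centralizer ({h} : Set G)) ∣ Nat.gcd 27 36 :=
    Nat.dvd_gcd (K.card_R ▸ Subgroup.card_dvd_of_le inf_le_left)
      (K.F.h_card ▸ Subgroup.card_dvd_of_le inf_le_right)
  rw [K.F.e_card]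
  exact Nat.le_of_dvd (by norm_num) (by simpa using h1)

/-- The centre is `⟨n⟩`, and `h` is conjugate to its whole coset. -/
theorem centre : (∀ r ∈ (R : Subgroup G), r * n = n * r) ∧
    (∀ w ∈ zpowers n, ∃ r ∈ (R : Subgroup G), r * h * r⁻¹ = h * w) ∧
    ∀ x ∈ (R : Subgroup G), (∀ r ∈ (R : Subgroup G), r * x = x * r) → x ∈ zpowers n := by
  classical
  have : Fact (Nat.Prime 3) := ⟨Nat.prime_three⟩
  set R' := (R : Subgroup G) with hR'
  set E := zpowers n ⊔ zpowers h with hE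
  have hR3 : IsPGroup 3 ↥R' := R.isPGroup'
  have hnt : Nontrivial ↥R' := Finite.one_lt_card_iff_nontrivial.1 (by rw [hR', K.card_R]; norm_num)
  set Z := (center ↥R').map R'.subtype with hZ
  have hmemZ : ∀ x, x ∈ Z → x ∈ R' ∧ ∀ r ∈ R', r * x = x * r := by
    rintro _ ⟨c, hc, rfl⟩
    exact ⟨c.2, fun r hr => congrArg Subtype.val (mem_center_iff.1 hc ⟨r, hr⟩)⟩
  have hZE : Z ≤ E := fun x hx => by
    rw [hE, ← K.r_inf_h]
    exact mem_inf_centralizer.2 ⟨(hmemZ x hx).1, ((hmemZ x hx).2 h K.hh).symm⟩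
  obtain ⟨r₀, hr₀, hr₀E⟩ : ∃ r ∈ R', r * h ≠ h * r := by
    by_contra hall
    push Not at hall
    have hd := Subgroup.card_dvd_of_le (show R' ≤ centralizer ({h} : Set G) from
      fun a ha => mem_centralizer_singleton_iff.2 (hall a ha))
    rw [hR', K.card_R, K.F.h_card] at hd
    norm_num at hd
  have hZc : Nat.card ↥Z = 3 := by
    have hd : Nat.card ↥Z ∣ 9 := by rw [← K.F.e_card]; exact Subgroup.card_dvd_of_le hZE
    have h1 : Nat.card ↥Z ≠ 1 := by
      rw [hZ, Subgroup.card_subtype]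
      have := hR3.center_nontrivial
      exact (Finite.one_lt_card_iff_nontrivial.2 this).ne'
    rcases (Nat.dvd_prime_pow Nat.prime_three).1 (show Nat.card ↥Z ∣ 3 ^ 2 by simpa using hd) with ⟨i, hi, e⟩
    interval_cases i
    · exact absurd (e.trans (pow_zero 3)) h1
    · simpa using e
    · exfalso
      have hZE' : Z = E := Subgroup.eq_of_le_of_card_ge hZE (by rw [e, hE, K.F.e_card]; norm_num)
      have hhZ : h ∈ Z := by rw [hZE', hE]; exact mem_sup_right (mem_zpowers h)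
      exact hr₀E ((hmemZ h hhZ).2 r₀ hr₀)
  have hcommZ : ∀ a ∈ R', ∀ c ∈ R', a * c * a⁻¹ * c⁻¹ ∈ Z := by
    intro a ha c hc
    have hq : Nat.card (↥R' ⧸ center ↥R') = 3 ^ 2 := by
      have h27 := Subgroup.card_eq_card_quotient_mul_card_subgroup (center ↥R')
      have hc3 : Nat.card ↥(center ↥R') = 3 := by rw [← hZc, hZ, Subgroup.card_subtype]
      rw [hc3, show Nat.card ↥R' = 27 from K.card_R] at h27
      omega
    have hco := IsPGroup.commutative_of_card_eq_prime_sq (p := 3) hq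
    refine ⟨⟨a, ha⟩ * ⟨c, hc⟩ * (⟨a, ha⟩ : ↥R')⁻¹ * (⟨c, hc⟩ : ↥R')⁻¹, ?_, rfl⟩
    show _ ∈ center ↥R'
    rw [← QuotientGroup.eq_one_iff, QuotientGroup.mk_mul, QuotientGroup.mk_mul, QuotientGroup.mk_mul,
      QuotientGroup.mk_inv, QuotientGroup.mk_inv, hco ((⟨a, ha⟩ : ↥R') : ↥R' ⧸ center ↥R')]
    group
  set w₀ := r₀ * h * r₀⁻¹ * h⁻¹ with hw₀
  have hw₀Z : w₀ ∈ Z := hcommZ r₀ hr₀ h K.hh
  have hw₀1 : w₀ ≠ 1 := fun e => hr₀E (mul_inv_eq_iff_eq_mul.1 (mul_inv_eq_one.1 e))
  have hw₀ord : orderOf w₀ = 3 := by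
    have h1 := orderOf_dvd_natCard (⟨w₀, hw₀Z⟩ : ↥Z)
    rw [hZc, Subgroup.orderOf_mk] at h1
    exact ((Nat.dvd_prime Nat.prime_three).1 h1).resolve_left (fun e => hw₀1 (orderOf_eq_one_iff.1 e))
  have hZeq : zpowers w₀ = Z :=
    Subgroup.eq_of_le_of_card_ge (zpowers_le.2 hw₀Z) (by rw [hZc, Nat.card_zpowers, hw₀ord])
  have horb : ∀ w ∈ Z, ∃ r ∈ R', r * h * r⁻¹ = h * w := by
    intro w hw
    rw [← hZeq, ← mem_powers_iff_mem_zpowers] at hw
    obtain ⟨i, rfl⟩ := hw
    refine ⟨r₀ ^ i, pow_mem hr₀ i, ?_⟩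
    show r₀ ^ i * h * (r₀ ^ i)⁻¹ = h * w₀ ^ i
    induction i with
    | zero => simp
    | succ i ih =>
      rw [pow_succ' r₀, show r₀ * r₀ ^ i * h * (r₀ * r₀ ^ i)⁻¹ = r₀ * (r₀ ^ i * h * (r₀ ^ i)⁻¹) * r₀⁻¹ by group,
        ih]
      calc r₀ * (h * w₀ ^ i) * r₀⁻¹ = (r₀ * h * r₀⁻¹) * (r₀ * w₀ ^ i * r₀⁻¹) := by group
        _ = (w₀ * h) * w₀ ^ i := by
            rw [(hmemZ _ (pow_mem hw₀Z i)).2 r₀ hr₀, mul_inv_cancel_right, hw₀]; group
        _ = h * w₀ ^ (i + 1) := by
            rw [← (hmemZ _ hw₀Z).2 h K.hh, pow_succ', mul_assoc]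
  have hnZ : n ∈ Z := by
    have hsup : zpowers h ⊔ Z = E := by
      refine Subgroup.eq_of_le_of_card_ge (sup_le (hE ▸ le_sup_right) hZE) ?_
      have hE9 : Nat.card ↥E = 9 := K.F.e_card
      rw [hE9, HJOrder.card_sup_mul, Nat.card_zpowers, K.F.Yh.hord, hZc]
      · refine le_trans (zpowers_le.2 ?_) (centralizer_le_normalizer _)
        exact mem_centralizer_iff.2 fun y hy => ((hmemZ y hy).2 h K.hh).symm
      · rw [eq_bot_iff]
        intro x hx
        rw [mem_bot]
        by_contra hx1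
        obtain ⟨h1, h2⟩ := mem_inf.1 hx
        have hhx : h ∈ zpowers x := (zpowers_eq_of_mem K.F.Yh.hord h1 hx1).symm ▸ mem_zpowers h
        exact hr₀E ((hmemZ h (zpowers_le.2 h2 hhx)).2 r₀ hr₀)
    have hnE : n ∈ zpowers h ⊔ Z := by rw [hsup, hE]; exact mem_sup_left (mem_zpowers n)
    have hn' : n ∈ ((zpowers h : Set G) * (Z : Set G)) := by
      rw [← Subgroup.coe_mul_of_left_le_normalizer_right (zpowers h) Z]
      · exact hnE
      · refine le_trans (zpowers_le.2 ?_) (centralizer_le_normalizer _)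
        exact mem_centralizer_iff.2 fun y hy => ((hmemZ y hy).2 h K.hh).symm
    obtain ⟨u, hu, w, hw, e⟩ := hn'
    change u * w = n at e
    rw [SetLike.mem_coe, ← mem_powers_iff_mem_zpowers] at hu
    obtain ⟨i, rfl⟩ := hu
    change h ^ i * w = n at e
    rw [pow_eq_pow_mod i K.F.Yh.D.T.h3] at e
    rcases (show i % 3 = 0 ∨ i % 3 = 1 ∨ i % 3 = 2 by omega) with e3 | e3 | e3 <;> rw [e3] at e
    · rw [pow_zero, one_mul] at e; exact e ▸ hw
    · obtain ⟨r, hr, hr'⟩ := horb w hw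
      refine absurd ?_ (K.F.n_not_h (g := r))
      rw [hr', ← pow_one h, e]; exact mem_zpowers n
    · obtain ⟨r, hr, hr'⟩ := horb w⁻¹ (inv_mem hw)
      refine absurd ?_ (K.F.n_not_h (g := r))
      have h2 : h ^ 2 = h⁻¹ := eq_inv_of_mul_eq_one_left (by rw [← pow_succ, K.F.Yh.D.T.h3])
      have hh2 : h * w⁻¹ = n⁻¹ := by
        rw [← e, h2, mul_inv_rev, inv_inv]
        exact (hmemZ w⁻¹ (inv_mem hw)).2 h K.hh
      rw [hr', hh2]
      exact inv_mem (mem_zpowers n)
  have hZn : zpowers n = Z :=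
    Subgroup.eq_of_le_of_card_ge (zpowers_le.2 hnZ) (by rw [hZc, Nat.card_zpowers, K.F.n_ord])
  refine ⟨(hmemZ n hnZ).2, fun w hw => horb w (hZn ▸ hw), fun x hx hall => ?_⟩
  rw [hZn]
  exact ⟨⟨x, hx⟩, mem_center_iff.2 fun r => Subtype.ext (hall r r.2), rfl⟩

theorem R_le_n : (R : Subgroup G) ≤ centralizer ({n} : Set G) := fun r hr =>
  mem_centralizer_singleton_iff.2 (K.centre.1 r hr)

theorem n_card_cases : Nat.card (centralizer ({n} : Set G)) = 1080 ∨
    Nat.card (centralizer ({n} : Set G)) = 7560 := by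
  have : Fact (Nat.Prime 2) := ⟨Nat.prime_two⟩
  have : Fact (Nat.Prime 3) := ⟨Nat.prime_three⟩
  have : Fact (Nat.Prime 5) := ⟨Nat.prime_five⟩
  set X := centralizer ({n} : Set G) with hX
  have h8 : 24 ∣ Nat.card ↥X := by
    have := Subgroup.card_dvd_of_le (inf_le_right : centralizer ({z} : Set G) ⊓ X ≤ X)
    rwa [hX, S.cent_C (Or.inl rfl) K.F.nC K.F.n_ord, K.F.kerC_n] at this
  have h5 : 5 ∣ Nat.card ↥X := by
    have := orderOf_dvd_natCard (⟨b, mem_centralizer_singleton_iff.2 K.F.Yb.ny.symm⟩ : ↥X)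
    rwa [Subgroup.orderOf_mk, K.F.Yb.hord] at this
  have h27 : 27 ∣ Nat.card ↥X := K.card_R ▸ Subgroup.card_dvd_of_le K.R_le_n
  have h16 : ¬ 16 ∣ Nat.card ↥X := by
    intro hd
    obtain ⟨T, hT⟩ := Sylow.exists_subgroup_card_pow_prime (G := ↥X) 2 (n := 4) (by simpa using hd)
    have hnt : Nontrivial ↥T := Finite.one_lt_card_iff_nontrivial.1 (by rw [hT]; norm_num)
    have hcen := (IsPGroup.of_card (p := 2) (n := 4) hT).center_nontrivial
    have h2 : 2 ∣ Nat.card ↥(center ↥T) := by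
      obtain ⟨i, hi⟩ := IsPGroup.iff_card.1
        ((IsPGroup.of_card (p := 2) (n := 4) hT).to_subgroup (center ↥T))
      rw [hi]
      rcases i with _ | i
      · exact absurd (hi.trans (pow_zero 2)) (Finite.one_lt_card_iff_nontrivial.2 hcen).ne'
      · exact dvd_pow_self 2 (Nat.succ_ne_zero i)
    obtain ⟨w, hw⟩ := exists_prime_orderOf_dvd_card' 2 h2
    have hw' : orderOf (((w.1 : ↥T) : ↥X) : G) = 2 := by
      rw [Subgroup.orderOf_coe, Subgroup.orderOf_coe, Subgroup.orderOf_coe]; exact hw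
    have hwn : (((w.1 : ↥T) : ↥X) : G) * n = n * ((w.1 : ↥T) : ↥X) :=
      mem_centralizer_singleton_iff.1 (w.1 : ↥X).2
    rcases S.classes K.F.Yh.D.T.ht hw' with hc | hc
    · obtain ⟨g, hg⟩ := isConj_iff.1 hc.symm
      have hn'C : g * n * g⁻¹ ∈ centralizer ({z} : Set G) := mem_centralizer_singleton_iff.2 (by
        rw [← hg]; exact (cent_conj g _ n).2 hwn.symm)
      have h24 : Nat.card ↥(centralizer ({z} : Set G) ⊓ centralizer ({g * n * g⁻¹} : Set G)) = 24 := by
        rw [S.cent_C (Or.inl rfl) hn'C (by rw [orderOf_conj]; exact K.F.n_ord),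
          K.F.kerC hn'C (by rw [orderOf_conj]; exact K.F.n_ord)]
      have hle : (T.map X.subtype).map (MulAut.conj g).toMonoidHom ≤
          centralizer ({z} : Set G) ⊓ centralizer ({g * n * g⁻¹} : Set G) := by
        rintro _ ⟨_, ⟨c, hc', rfl⟩, rfl⟩
        refine mem_inf_centralizer.2 ⟨mem_centralizer_singleton_iff.2 ?_,
          (cent_conj g n _).2 (mem_centralizer_singleton_iff.1 c.2)⟩
        rw [← hg]
        exact (cent_conj g _ _).2
          (congrArg (fun u : ↥T => ((u : ↥X) : G)) (mem_center_iff.1 w.2 ⟨c, hc'⟩))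
      have := Subgroup.card_dvd_of_le hle
      rw [Subgroup.card_map_of_injective (MulAut.conj g).injective, Subgroup.card_subtype, hT, h24] at this
      norm_num at this
    · exact K.F.n_no_t hc hwn
  have h25 : ¬ 25 ∣ Nat.card ↥X := by
    intro hd
    obtain ⟨T, hT⟩ := Sylow.exists_subgroup_card_pow_prime (G := ↥X) 5 (n := 2) (by simpa using hd)
    obtain ⟨P, hP⟩ := ((IsPGroup.of_card (p := 5) (n := 2) hT).map X.subtype).exists_le_sylow
    have hPT : T.map X.subtype = (P : Subgroup G) :=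
      Subgroup.eq_of_le_of_card_ge hP (by rw [Subgroup.card_subtype, hT, S.card_sylow_five P]; norm_num)
    have hnP : n ∈ centralizer ((P : Subgroup G) : Set G) := by
      rw [mem_centralizer_iff]
      intro c hc
      rw [SetLike.mem_coe, ← hPT] at hc
      obtain ⟨c', -, rfl⟩ := hc
      exact mem_centralizer_singleton_iff.1 c'.2
    rw [K.F.cent_five P] at hnP
    have := orderOf_dvd_natCard (⟨n, hnP⟩ : ↥(P : Subgroup G))
    rw [S.card_sylow_five P, Subgroup.orderOf_mk, K.F.n_ord] at this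
    norm_num at this
  obtain ⟨j, hj⟩ : 1080 ∣ Nat.card ↥X := by
    have h216 : Nat.lcm 24 27 ∣ Nat.card ↥X := Nat.lcm_dvd h8 h27
    have := Nat.lcm_dvd h216 h5
    simpa [Nat.lcm] using this
  have hd : 1080 * j ∣ 1080 * (80 * 7) := by
    rw [← hj, show 1080 * (80 * 7) = 604800 by norm_num, ← S.order_eq]
    exact Subgroup.card_subgroup_dvd_card X
  have hj' : j ∣ 80 * 7 := Nat.dvd_of_mul_dvd_mul_left (by norm_num : 0 < 1080) hd
  have hcop : Nat.Coprime j 80 := by
    rw [show (80 : ℕ) = 2 ^ 4 * 5 by norm_num, Nat.coprime_mul_iff_right]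
    refine ⟨Nat.Coprime.pow_right _ (Nat.coprime_comm.1 ((Nat.prime_two.coprime_iff_not_dvd).2 ?_)),
      Nat.coprime_comm.1 ((Nat.prime_five.coprime_iff_not_dvd).2 ?_)⟩
    · rintro ⟨i, rfl⟩
      exact h16 ⟨135 * i, by rw [hj]; ring⟩
    · rintro ⟨i, rfl⟩
      exact h25 ⟨216 * i, by rw [hj]; ring⟩
  rcases (Nat.dvd_prime (by norm_num : Nat.Prime 7)).1 (hcop.dvd_of_dvd_mul_left hj') with rfl | rfl
  · exact Or.inl (by rw [hj])
  · exact Or.inr (by rw [hj])

/-- The order of the centraliser of `n`. -/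
theorem n_card : Nat.card (centralizer ({n} : Set G)) = 1080 := by
  refine K.n_card_cases.resolve_right fun hbig => ?_
  have : Fact (Nat.Prime 7) := ⟨by norm_num⟩
  have : Fact (Nat.Prime 3) := ⟨Nat.prime_three⟩
  -- counting in the centraliser of a conjugate of `n`
  have key : ∀ n' g : G, orderOf n' = 3 → orderOf g = 7 → g * n' = n' * g →
      Nat.card (centralizer ({n'} : Set G)) = 7560 →
      Nat.card ↥(normalizer (zpowers g : Set G) ⊓ centralizer ({n'} : Set G)) = 63 ∧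
        Nat.card (normalizer (zpowers g : Set G)) = 189 := by
    intro n' g hn' hg hgn hX
    set X := centralizer ({n'} : Set G) with hXdef
    set g' : ↥X := ⟨g, mem_centralizer_singleton_iff.2 hgn⟩
    have hg' : orderOf g' = 7 := by rw [Subgroup.orderOf_mk]; exact hg
    obtain ⟨P, hP⟩ := (isPGroup_zpowers (p := 7) (k := 1)
      (show g' ^ 7 ^ 1 = 1 by rw [pow_one, ← hg']; exact pow_orderOf_eq_one g')).exists_le_sylow
    have hP7 : Nat.card (P : Subgroup ↥X) = 7 := by
      simpa using sylow_of_card (p := 7) (a := 1) (m := 1080) (by rw [hX]; norm_num) (by norm_num) P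
    have heq : zpowers g' = (P : Subgroup ↥X) :=
      Subgroup.eq_of_le_of_card_ge hP (by rw [hP7, Nat.card_zpowers, hg'])
    have hmod := sylow_mod P
    rw [← heq, hX] at hmod
    have hmemg : ∀ (y : G) (hy : y ∈ X), (⟨y, hy⟩ : ↥X) ∈ zpowers g' ↔ y ∈ zpowers g := by
      intro y hy
      exact ⟨fun ⟨i, hi⟩ => ⟨i, congrArg Subtype.val hi⟩, fun ⟨i, hi⟩ => ⟨i, Subtype.ext hi⟩⟩
    have hN : Nat.card ↥(normalizer (zpowers g' : Set ↥X)) =
        Nat.card ↥(normalizer (zpowers g : Set G) ⊓ X) := by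
      refine Nat.card_congr
        { toFun := fun c => ⟨c.1.1, mem_inf.2 ⟨mem_normalizer_zpowers hg ?_, c.1.2⟩⟩
          invFun := fun c => ⟨⟨c.1, (mem_inf.1 c.2).2⟩, mem_normalizer_zpowers hg' ?_⟩ }
      · exact (hmemg _ (c.1 * g' * c.1⁻¹).2).1 ((mem_normalizer_iff.1 c.2 g').1 (mem_zpowers g'))
      · exact (hmemg _ _).2 ((mem_normalizer_iff.1 (mem_inf.1 c.2).1 g).1 (mem_zpowers g))
    rw [hN] at hmod
    have hdN := Subgroup.card_dvd_of_le (inf_le_left : normalizer (zpowers g : Set G) ⊓ X ≤ _)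
    have hle : zpowers g ⊔ zpowers n' ≤ normalizer (zpowers g : Set G) ⊓ X := by
      refine sup_le (zpowers_le.2 (mem_inf.2 ⟨le_normalizer (mem_zpowers g),
        mem_centralizer_singleton_iff.2 hgn⟩)) (zpowers_le.2 (mem_inf.2 ⟨?_, mem_centralizer_singleton_iff.2 rfl⟩))
      exact mem_normalizer_zpowers hg (by rw [← hgn, mul_inv_cancel_right]; exact mem_zpowers g)
    have h21 : 21 ∣ Nat.card ↥(normalizer (zpowers g : Set G) ⊓ X) := by
      have ha := Subgroup.card_dvd_of_le (le_sup_left.trans hle : zpowers g ≤ _)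
      have hb := Subgroup.card_dvd_of_le (le_sup_right.trans hle : zpowers n' ≤ _)
      rw [Nat.card_zpowers, hg] at ha
      rw [Nat.card_zpowers, hn'] at hb
      exact (show Nat.Coprime 7 3 by decide).mul_dvd_of_dvd_of_dvd ha hb
    obtain ⟨j, hj⟩ := h21
    rw [hj] at hdN hmod ⊢
    have hc3 : 3 ∣ Nat.card (centralizer ({g} : Set G)) := by
      have h := orderOf_dvd_natCard (⟨n', mem_centralizer_singleton_iff.2 hgn.symm⟩ :
        ↥(centralizer ({g} : Set G)))
      rwa [Subgroup.orderOf_mk, hn'] at h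
    rcases K.F.seven_norm hg with ⟨hc, -⟩ | ⟨-, hn⟩ | ⟨-, hn⟩
    · rw [hc] at hc3; norm_num at hc3
    · rw [hn] at hdN
      have := Nat.le_of_dvd (by norm_num) hdN
      have : j ≤ 2 := by omega
      interval_cases j <;> omega
    · rw [hn] at hdN ⊢
      have hd' : j ∣ 9 := Nat.dvd_of_mul_dvd_mul_left (by norm_num : 0 < 21) (by simpa using hdN)
      obtain ⟨i, hi, rfl⟩ := (Nat.dvd_prime_pow Nat.prime_three).1 (show j ∣ 3 ^ 2 from hd')
      interval_cases i <;> first | (norm_num at hmod; done) | norm_num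
  obtain ⟨g, hg⟩ := exists_prime_orderOf_dvd_card' (G := ↥(centralizer ({n} : Set G))) 7
    (by rw [hbig]; norm_num)
  have hg' : orderOf (g : G) = 7 := by rw [Subgroup.orderOf_coe]; exact hg
  have hgn : (g : G) * n = n * g := mem_centralizer_singleton_iff.1 g.2
  obtain ⟨-, h189⟩ := key n g K.F.n_ord hg' hgn hbig
  set N := normalizer (zpowers (g : G) : Set G) with hNdef
  have hCN : centralizer ({(g : G)} : Set G) ≤ N := by
    rw [← centralizer_closure ({(g : G)} : Set G), ← zpowers_eq_closure]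
    exact centralizer_le_normalizer _
  have h9 : 9 ∣ Nat.card (centralizer ({(g : G)} : Set G)) := by
    rcases K.F.seven_norm hg' with ⟨-, hn⟩ | ⟨-, hn⟩ | ⟨hc, -⟩
    · rw [← hNdef, h189] at hn; norm_num at hn
    · rw [← hNdef, h189] at hn; norm_num at hn
    · rcases hc with hc | hc
      · rw [hc]; norm_num
      · rw [Set.mem_singleton_iff] at hc; rw [hc]; norm_num
  obtain ⟨A, hA⟩ := Sylow.exists_subgroup_card_pow_prime (G := ↥(centralizer ({(g : G)} : Set G))) 3
    (n := 2) (by simpa using h9)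
  let A' : Subgroup ↥N := A.map (Subgroup.inclusion hCN)
  have hA' : Nat.card ↥A' = 3 ^ 2 := by
    rw [Subgroup.card_map_of_injective (Subgroup.inclusion_injective hCN), hA]
  obtain ⟨T, hT⟩ := (IsPGroup.of_card hA').exists_le_sylow
  have hT27 : Nat.card (T : Subgroup ↥N) = 27 := by
    simpa using sylow_of_card (p := 3) (a := 3) (m := 7) (by rw [h189]; norm_num) (by norm_num) T
  obtain ⟨u, hu⟩ := mem_sylow_conj (IsPGroup.of_card (p := 3) (n := 3)
    (show Nat.card ↥((T : Subgroup ↥N).map N.subtype) = 3 ^ 3 by rw [Subgroup.card_subtype, hT27]; norm_num)) R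
  -- move `A` into `R`
  set A₀ : Subgroup G := ((A.map (centralizer ({(g : G)} : Set G)).subtype)).map (MulAut.conj u).toMonoidHom
    with hA₀
  have hA₀R : A₀ ≤ (R : Subgroup G) := by
    rintro _ ⟨_, ⟨a, ha, rfl⟩, rfl⟩
    exact hu _ ⟨⟨a.1, hCN a.2⟩, hT ⟨a, ha, rfl⟩, rfl⟩
  have hA₀c : Nat.card ↥A₀ = 9 := by
    rw [hA₀, Subgroup.card_map_of_injective (MulAut.conj u).injective, Subgroup.card_subtype, hA]
    norm_num
  have hnA : n ∈ A₀ := by
    by_contra hn
    refine K.not_comm ?_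
    have hAcomm := IsPGroup.commutative_of_card_eq_prime_sq (p := 3) (G := ↥A₀)
      (by rw [hA₀c]; norm_num)
    have hnorm : A₀ ≤ normalizer (zpowers n : Set G) := fun a ha =>
      centralizer_le_normalizer _ (mem_centralizer_iff.2 fun y hy =>
        (commute_of_mem_zpowers hy (K.centre.1 a (hA₀R ha))).symm)
    have hmeet : A₀ ⊓ zpowers n = ⊥ := by
      rw [eq_bot_iff]
      intro x hx
      rw [mem_bot]
      by_contra hx1
      obtain ⟨h1, h2⟩ := mem_inf.1 hx
      exact hn (zpowers_le.2 h1 ((zpowers_eq_of_mem K.F.n_ord h2 hx1).symm ▸ mem_zpowers n))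
    have hR : A₀ ⊔ zpowers n = (R : Subgroup G) :=
      Subgroup.eq_of_le_of_card_ge (sup_le hA₀R (zpowers_le.2 K.hn)) (by
        rw [HJOrder.card_sup_mul _ _ hnorm hmeet, hA₀c, Nat.card_zpowers, K.F.n_ord, K.card_R])
    intro a ha c hc
    have hdec : ∀ x ∈ (R : Subgroup G), ∃ p ∈ A₀, ∃ q ∈ zpowers n, x = p * q := by
      intro x hx
      rw [← hR] at hx
      have hx' : x ∈ ((A₀ : Set G) * (zpowers n : Set G)) := by
        rw [← Subgroup.coe_mul_of_left_le_normalizer_right _ _ hnorm]; exact hx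
      obtain ⟨p, hp, q, hq, e⟩ := hx'
      exact ⟨p, hp, q, hq, e.symm⟩
    obtain ⟨p, hp, q, hq, rfl⟩ := hdec a ha
    obtain ⟨p', hp', q', hq', rfl⟩ := hdec c hc
    have e1 : Commute p p' := congrArg Subtype.val (hAcomm ⟨p, hp⟩ ⟨p', hp'⟩)
    have e2 : ∀ x ∈ (R : Subgroup G), ∀ y ∈ zpowers n, Commute x y := fun x hx y hy =>
      commute_of_mem_zpowers hy (K.centre.1 x hx)
    have hqR : ∀ y ∈ zpowers n, y ∈ (R : Subgroup G) := fun y hy => zpowers_le.2 K.hn hy
    exact ((e1.mul_right (e2 p (hA₀R hp) q' hq')).mul_left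
      (((e2 p' (hA₀R hp') q hq).symm).mul_right (e2 q (hqR q hq) q' hq'))).eq
  obtain ⟨_, ⟨a, ha, rfl⟩, hau⟩ := hnA
  set n' := u⁻¹ * n * u with hn'def
  have hn' : n' = (a : G) := by
    have e : u * (a : G) * u⁻¹ = n := hau
    calc n' = u⁻¹ * (u * (a : G) * u⁻¹) * u := by rw [hn'def, e]
      _ = a := by group
  have hgn' : (g : G) * n' = n' * g := by rw [hn']; exact (mem_centralizer_singleton_iff.1 a.2).symm
  have hn'c : Nat.card (centralizer ({n'} : Set G)) = 7560 := by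
    rw [hn'def, show u⁻¹ * n * u = u⁻¹ * n * u⁻¹⁻¹ by rw [inv_inv], card_centralizer_conj, hbig]
  have hn'o : orderOf n' = 3 := by
    rw [hn'def, show u⁻¹ * n * u = u⁻¹ * n * u⁻¹⁻¹ by rw [inv_inv], orderOf_conj, K.F.n_ord]
  obtain ⟨h63, -⟩ := key n' g hn'o hg' hgn' hn'c
  have hle : (T : Subgroup ↥N).map N.subtype ≤ N ⊓ centralizer ({n'} : Set G) := by
    rintro _ ⟨c, hc, rfl⟩
    refine mem_inf.2 ⟨c.2, mem_centralizer_singleton_iff.2 ((cent_conj u n' _).1 ?_)⟩
    rw [show u * n' * u⁻¹ = n by rw [hn'def]; group]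
    exact K.centre.1 _ (hu _ ⟨c, hc, rfl⟩)
  have := Subgroup.card_dvd_of_le hle
  rw [Subgroup.card_subtype, hT27, h63] at this
  norm_num at this

theorem norm_n_card : Nat.card (normalizer (zpowers n : Set G)) = 2160 := by
  have : Fact (Nat.Prime 3) := ⟨Nat.prime_three⟩
  obtain ⟨e, he, hN⟩ := card_normalizer_zpowers K.F.n_ord
  rcases (Nat.dvd_prime Nat.prime_two).1 (show e ∣ 2 from he) with rfl | rfl
  · exfalso
    obtain ⟨c, hc⟩ := K.F.n_inverted
    have hle : centralizer ({n} : Set G) ≤ normalizer (zpowers n : Set G) := by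
      rw [← centralizer_closure ({n} : Set G), ← zpowers_eq_closure]; exact centralizer_le_normalizer _
    have heq := Subgroup.eq_of_le_of_card_ge hle (by rw [hN, mul_one])
    have hcN : c ∈ normalizer (zpowers n : Set G) :=
      mem_normalizer_zpowers K.F.n_ord (hc ▸ inv_mem (mem_zpowers n))
    rw [← heq, mem_centralizer_singleton_iff] at hcN
    rw [hcN, mul_inv_cancel_right] at hc
    have h2 : n ^ 2 = 1 := by rw [pow_two]; nth_rw 1 [hc]; rw [inv_mul_cancel]
    have := orderOf_dvd_of_pow_eq_one h2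
    rw [K.F.n_ord] at this
    norm_num at this
  · rw [hN, K.n_card]

theorem norm_le : normalizer ((R : Subgroup G) : Set G) ≤ normalizer (zpowers n : Set G) := by
  have : Fact (Nat.Prime 3) := ⟨Nat.prime_three⟩
  intro c hc
  refine mem_normalizer_zpowers K.F.n_ord (K.centre.2.2 _ ((mem_normalizer_iff.1 hc n).1 K.hn) ?_)
  intro r hr
  have hr' : c⁻¹ * r * c ∈ (R : Subgroup G) := by
    refine (mem_normalizer_iff.1 hc _).2 ?_
    rw [show c * (c⁻¹ * r * c) * c⁻¹ = r by group]; exact hr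
  have := (cent_conj c n _).2 (K.centre.1 _ hr')
  rwa [show c * (c⁻¹ * r * c) * c⁻¹ = r by group] at this

theorem five_not_norm {e : G} (he : e ∈ normalizer ((R : Subgroup G) : Set G)) : orderOf e ≠ 5 := by
  classical
  intro he5
  have := Fintype.ofFinite G
  have : Fact (Nat.Prime 5) := ⟨Nat.prime_five⟩
  have : Fact (Nat.Prime 3) := ⟨Nat.prime_three⟩
  have he1 : e ^ 5 = 1 := he5 ▸ pow_orderOf_eq_one e
  obtain ⟨i, hi⟩ : e * n * e⁻¹ ∈ zpowers n :=
    (mem_normalizer_iff.1 (K.norm_le he) n).1 (mem_zpowers n)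
  have hen : e * n = n * e := by
    have hi' : n ^ i = e * n * e⁻¹ := hi
    have h2 : n ^ (i % 3) = e * n * e⁻¹ := by
      rw [← hi', ← zpow_mod_orderOf n i, K.F.n_ord]; norm_num
    have hr : i % 3 = 0 ∨ i % 3 = 1 ∨ i % 3 = 2 := by omega
    rcases hr with r | r | r <;> rw [r] at h2
    · have h1 : e * n * e⁻¹ = 1 := by simpa using h2.symm
      exact absurd (conj_eq_one_iff.1 h1) K.F.n_ne
    · exact mul_inv_eq_iff_eq_mul.1 (by simpa using h2.symm)
    · have hn2 : n ^ (2 : ℤ) = n⁻¹ := by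
        rw [zpow_ofNat]; exact eq_inv_of_mul_eq_one_left (by rw [← pow_succ, K.F.Yh.hn3])
      rw [hn2] at h2
      have hee : Commute (e ^ 2) n := by
        refine mul_inv_eq_iff_eq_mul.1 ?_
        calc e ^ 2 * n * (e ^ 2)⁻¹ = e * (e * n * e⁻¹) * e⁻¹ := by rw [pow_two]; group
          _ = (e * n * e⁻¹)⁻¹ := by conv_lhs => rw [← h2]
                                    group
          _ = n := by rw [← h2, inv_inv]
      have h6 : Commute ((e ^ 2) ^ 3) n := hee.pow_left 3
      rw [← pow_mul, show 2 * 3 = 5 + 1 from rfl, pow_succ, he1, one_mul] at h6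
      exact h6.eq
  let A := {x : G // x ∈ (R : Subgroup G) ∧ x ∉ zpowers n}
  have hA : Fintype.card A = 24 := by
    rw [Fintype.card_subtype]
    have e1 : (Finset.univ.filter fun x => x ∈ (R : Subgroup G) ∧ x ∉ zpowers n) =
        (Finset.univ.filter fun x => x ∈ (R : Subgroup G)) \ (Finset.univ.filter fun x => x ∈ zpowers n) := by
      ext x; simp
    rw [e1, Finset.card_sdiff_of_subset (by
      intro x hx
      simp only [Finset.mem_filter, Finset.mem_univ, true_and] at hx ⊢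
      exact zpowers_le.2 K.hn hx), ← Fintype.card_subtype, ← Fintype.card_subtype,
      ← Nat.card_eq_fintype_card, ← Nat.card_eq_fintype_card,
      show Nat.card {x // x ∈ (R : Subgroup G)} = 27 from K.card_R,
      show Nat.card {x // x ∈ zpowers n} = 3 from (Nat.card_zpowers n).trans K.F.n_ord]
  have hstab : ∀ x, x ∈ zpowers n ↔ e * x * e⁻¹ ∈ zpowers n := fun x =>
    mem_normalizer_iff.1 (K.norm_le he) x
  let f : A → A := fun x =>
    ⟨e * x.1 * e⁻¹, (mem_normalizer_iff.1 he _).1 x.2.1, fun h => x.2.2 ((hstab _).2 h)⟩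
  have hfinj : Function.Injective f := fun a c h =>
    Subtype.ext (mul_left_cancel (mul_right_cancel (congrArg Subtype.val h)))
  let σ : Equiv.Perm A := Equiv.ofBijective f (Finite.injective_iff_bijective.1 hfinj)
  have hpow : ∀ (m : ℕ) (x : A), ((σ ^ m) x).1 = e ^ m * x.1 * (e ^ m)⁻¹ := by
    intro m
    induction m with
    | zero => simp
    | succ m ih =>
      intro x
      rw [pow_succ', Equiv.Perm.mul_apply]
      show e * ((σ ^ m) x).1 * e⁻¹ = _
      rw [ih, pow_succ']; group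
  obtain ⟨⟨y, hyR, hyn⟩, hy⟩ := Equiv.Perm.exists_fixed_point_of_prime (p := 5) (n := 1)
    (by rw [hA]; norm_num) (σ := σ) (by ext x; rw [pow_one, hpow, he1]; simp)
  have hey : e * y = y * e := mul_inv_eq_iff_eq_mul.1 (congrArg Subtype.val hy)
  set W := (R : Subgroup G) ⊓ centralizer ({e} : Set G) with hW
  have hWn : zpowers n ≤ W := zpowers_le.2 (mem_inf_centralizer.2 ⟨K.hn, hen.symm⟩)
  obtain ⟨k, hk, hWc⟩ := (Nat.dvd_prime_pow Nat.prime_three).1
    (show Nat.card ↥W ∣ 3 ^ 3 by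
      rw [show (3 : ℕ) ^ 3 = 27 by norm_num, ← K.card_R]
      exact Subgroup.card_dvd_of_le inf_le_left)
  have hk2 : 2 ≤ k := by
    by_contra hlt
    have hWeq : zpowers n = W := Subgroup.eq_of_le_of_card_ge hWn (by
      rw [hWc, Nat.card_zpowers, K.F.n_ord]
      interval_cases k <;> norm_num)
    exact hyn (hWeq ▸ mem_inf_centralizer.2 ⟨hyR, hey.symm⟩)
  have hd : 9 ∣ Nat.card (centralizer ({e} : Set G)) :=
    ((pow_dvd_pow 3 hk2).trans hWc.symm.dvd).trans (Subgroup.card_dvd_of_le inf_le_right)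
  rcases K.F.five_kinds he5 with ⟨c, hc⟩ | hs
  · rw [← card_centralizer_conj c e, card_centralizer_zpowers hc, K.F.b_card] at hd
    norm_num at hd
  · rw [K.F.stype_card hs] at hd
    norm_num at hd

theorem not_self_norm : ¬ normalizer ((R : Subgroup G) : Set G) ⊓ centralizer ({n} : Set G) = (R : Subgroup G) := by
  intro hself
  have : Fact (Nat.Prime 3) := ⟨Nat.prime_three⟩
  set X := centralizer ({n} : Set G) with hX
  let n₀ : ↥X := ⟨n, mem_centralizer_singleton_iff.2 rfl⟩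
  let Z : Subgroup ↥X := zpowers n₀
  have hZn : Z.Normal := ⟨fun w hw x => by
    obtain ⟨i, rfl⟩ := hw
    have : Commute x n₀ := Subtype.ext (mem_centralizer_singleton_iff.1 x.2)
    show x * n₀ ^ i * x⁻¹ ∈ Z
    rw [(this.zpow_right i).eq, mul_inv_cancel_right]
    exact ⟨i, rfl⟩⟩
  have hZc : Nat.card ↥Z = 3 := by rw [Nat.card_zpowers, Subgroup.orderOf_mk, K.F.n_ord]
  let π := QuotientGroup.mk' Z
  set R₁ := (R : Subgroup G).subgroupOf X with hR₁
  have hZR : Z ≤ R₁ := zpowers_le.2 K.hn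
  have hR₁c : Nat.card ↥R₁ = 27 := by
    rw [hR₁, Nat.card_congr (Subgroup.subgroupOfEquivOfLe K.R_le_n).toEquiv, K.card_R]
  have hcomap : (R₁.map π).comap π = R₁ := by
    rw [Subgroup.comap_map_eq, QuotientGroup.ker_mk', sup_eq_left.2 hZR]
  have hRc : Nat.card ↥(R₁.map π) = 9 := by
    let f := π.subgroupMap R₁
    have hker : Nat.card f.ker = 3 := by
      rw [← hZc]
      refine Nat.card_congr
        { toFun := fun c => ⟨c.1.1, (QuotientGroup.eq_one_iff _).1 (congrArg Subtype.val c.2)⟩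
          invFun := fun c => ⟨⟨c.1, hZR c.2⟩, Subtype.ext ((QuotientGroup.eq_one_iff _).2 c.2)⟩ }
    have h27 := Subgroup.card_eq_card_quotient_mul_card_subgroup f.ker
    rw [hker, hR₁c, Nat.card_congr (QuotientGroup.quotientKerEquivOfSurjective f
      (π.subgroupMap_surjective R₁)).toEquiv] at h27
    omega
  have hL : Nat.card (↥X ⧸ Z) = 360 := by
    have h := Subgroup.card_eq_card_quotient_mul_card_subgroup Z
    rw [hZc, show Nat.card ↥X = 1080 from K.n_card] at h
    omega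
  obtain ⟨P, hP⟩ := (IsPGroup.of_card (p := 3) (n := 2)
    (show Nat.card ↥(R₁.map π) = 3 ^ 2 by rw [hRc]; norm_num)).exists_le_sylow
  have hP9 : Nat.card (P : Subgroup (↥X ⧸ Z)) = 9 := by
    simpa using sylow_of_card (p := 3) (a := 2) (m := 40) (by rw [hL]; norm_num) (by norm_num) P
  have heq : R₁.map π = (P : Subgroup (↥X ⧸ Z)) := Subgroup.eq_of_le_of_card_ge hP (by rw [hP9, hRc])
  have hPcomm := IsPGroup.commutative_of_card_eq_prime_sq (p := 3) (G := ↥(P : Subgroup (↥X ⧸ Z)))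
    (by rw [hP9]; norm_num)
  have hNP : normalizer ((P : Subgroup (↥X ⧸ Z)) : Set (↥X ⧸ Z)) ≤ (P : Subgroup (↥X ⧸ Z)) := by
    intro q hq
    obtain ⟨x, rfl⟩ := QuotientGroup.mk'_surjective Z q
    have hmem : ∀ y : ↥X, π y ∈ (P : Subgroup (↥X ⧸ Z)) ↔ (y : G) ∈ (R : Subgroup G) := fun y => by
      rw [← heq, ← Subgroup.mem_comap, hcomap, hR₁, Subgroup.mem_subgroupOf]
    refine (hmem x).2 ?_
    rw [← hself, mem_inf]
    refine ⟨?_, x.2⟩
    rw [mem_normalizer_iff]
    intro y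
    constructor
    · intro hy
      have h1 := (mem_normalizer_iff.1 hq (π ⟨y, K.R_le_n hy⟩)).1 ((hmem ⟨y, K.R_le_n hy⟩).2 hy)
      exact (hmem (x * ⟨y, K.R_le_n hy⟩ * x⁻¹)).1 (by rw [map_mul, map_mul, map_inv]; exact h1)
    · intro hy
      have hyX : y ∈ X := by
        have := mul_mem (mul_mem (inv_mem x.2) (K.R_le_n hy)) x.2
        simpa [mul_assoc] using this
      refine (hmem ⟨y, hyX⟩).1 ((mem_normalizer_iff.1 hq (π ⟨y, hyX⟩)).2 ?_)
      have h1 := (hmem (x * ⟨y, hyX⟩ * x⁻¹)).2 hy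
      rw [map_mul, map_mul, map_inv] at h1
      exact h1
  have hNC : normalizer ((P : Subgroup (↥X ⧸ Z)) : Set (↥X ⧸ Z)) ≤
      centralizer ((P : Subgroup (↥X ⧸ Z)) : Set (↥X ⧸ Z)) := fun q hq => mem_centralizer_iff.2
    fun r hr => congrArg Subtype.val (hPcomm ⟨r, hr⟩ ⟨q, hNP hq⟩)
  let τ := MonoidHom.transferSylow P hNC
  let ι : ↥B →* ↥X := Subgroup.inclusion (fun c hc => mem_centralizer_singleton_iff.2 (K.F.Yh.hnB c hc).symm)
  let f : ↥B →* ↥(P : Subgroup (↥X ⧸ Z)) := τ.comp (π.comp ι)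
  obtain ⟨eB⟩ := K.F.Yh.D.equiv
  rcases a5_simple_of_normal eB f.normal_ker with hk | hk
  · have hinj := MonoidHom.ker_eq_bot_iff f |>.1 hk
    have := Nat.card_le_card_of_injective f hinj
    rw [Nat.card_congr eB.toEquiv, a5_card, hP9] at this
    omega
  · let h₀ : ↥X := ι ⟨h, K.F.Yh.hyB⟩
    have hh₀ : π h₀ ∈ (P : Subgroup (↥X ⧸ Z)) := by rw [← heq]; exact ⟨h₀, K.hh, rfl⟩
    have hm : (⟨h, K.F.Yh.hyB⟩ : ↥B) ∈ f.ker := by rw [hk]; exact mem_top _
    have h1 : τ (π h₀) = 1 := MonoidHom.mem_ker.1 hm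
    rw [MonoidHom.transferSylow_eq_pow P hNC _ hh₀] at h1
    have h2 : π h₀ ^ (P : Subgroup (↥X ⧸ Z)).index = 1 := congrArg Subtype.val h1
    have h3 : π h₀ ^ 3 = 1 := by
      rw [← map_pow, show h₀ ^ 3 = 1 from Subtype.ext K.F.Yh.D.T.h3, map_one]
    have hh1 : π h₀ ≠ 1 := fun e => K.F.h_not_mem (by
      obtain ⟨i, hi⟩ := (QuotientGroup.eq_one_iff h₀).1 e
      exact ⟨i, congrArg Subtype.val hi⟩)
    have h4 : π h₀ ^ Nat.gcd (P : Subgroup (↥X ⧸ Z)).index 3 = 1 := pow_gcd_eq_one.2 ⟨h2, h3⟩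
    rw [Nat.Coprime.gcd_eq_one (Nat.coprime_comm.1
      ((Nat.prime_three.coprime_iff_not_dvd).2 P.not_dvd_index)), pow_one] at h4
    exact hh1 h4

theorem norm_card : Nat.card (normalizer ((R : Subgroup G) : Set G)) = 216 := by
  have : Fact (Nat.Prime 3) := ⟨Nat.prime_three⟩
  have : Fact (Nat.Prime 5) := ⟨Nat.prime_five⟩
  set N := normalizer ((R : Subgroup G) : Set G) with hN
  obtain ⟨k, hk⟩ : 27 ∣ Nat.card ↥N := K.card_R ▸ Subgroup.card_dvd_of_le le_normalizer
  have hd := Subgroup.card_dvd_of_le K.norm_le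
  rw [← hN, K.norm_n_card, hk] at hd
  have hk80 : k ∣ 5 * 16 := Nat.dvd_of_mul_dvd_mul_left (by norm_num : 0 < 27) hd
  have hk5 : ¬ 5 ∣ k := fun h5 => by
    obtain ⟨e, he⟩ := exists_prime_orderOf_dvd_card' (G := ↥N) 5 (hk ▸ h5.mul_left 27)
    exact K.five_not_norm e.2 (by rw [Subgroup.orderOf_coe]; exact he)
  have hk16 : k ∣ 2 ^ 4 :=
    (Nat.coprime_comm.1 ((Nat.prime_five.coprime_iff_not_dvd).2 hk5)).dvd_of_dvd_mul_left hk80
  have hmod := sylow_mod R
  rw [S.order_eq, ← hN, hk] at hmod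
  obtain ⟨i, hi, rfl⟩ := (Nat.dvd_prime_pow Nat.prime_two).1 hk16
  interval_cases i
  · norm_num at hmod
  · exfalso
    -- an inverting element in the normaliser
    obtain ⟨c, hc⟩ := K.F.n_inverted
    set X := centralizer ({n} : Set G) with hX
    have hcR : ((c • R : Sylow 3 G) : Subgroup G) ≤ X := by
      intro y hy
      rw [Sylow.coe_subgroup_smul, Subgroup.mem_pointwise_smul_iff_inv_smul_mem] at hy
      have hy' : c⁻¹ * y * c ∈ (R : Subgroup G) := by simpa using hy
      refine mem_centralizer_singleton_iff.2 ?_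
      have h1 := (cent_conj c n _).2 (K.centre.1 _ hy')
      rw [show c * (c⁻¹ * y * c) * c⁻¹ = y by group, hc] at h1
      exact Commute.inv_right_iff.1 h1
    obtain ⟨q, hq⟩ := MulAction.exists_smul_eq ↥X ((c • R).subtype hcR) (R.subtype K.R_le_n)
    simp_rw [Sylow.smul_subtype, Subgroup.smul_def, smul_smul] at hq
    have hqc : (q : G) * c ∈ N := Sylow.smul_eq_iff_mem_normalizer.1 (Sylow.subtype_injective hq)
    refine K.not_self_norm ?_
    rw [← hN, ← hX]
    have hle : (R : Subgroup G) ≤ N ⊓ X := le_inf le_normalizer K.R_le_n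
    refine (Subgroup.eq_of_le_of_card_ge hle ?_).symm
    obtain ⟨j, hj⟩ : 27 ∣ Nat.card ↥(N ⊓ X) := K.card_R ▸ Subgroup.card_dvd_of_le hle
    have hd2 := Subgroup.card_dvd_of_le (inf_le_left : N ⊓ X ≤ N)
    rw [hk, hj] at hd2
    rcases (Nat.dvd_prime Nat.prime_two).1
      (show j ∣ 2 by simpa using Nat.dvd_of_mul_dvd_mul_left (by norm_num : 0 < 27) hd2) with rfl | rfl
    · rw [hj, K.card_R]
    · exfalso
      have heq : N ⊓ X = N := Subgroup.eq_of_le_of_card_ge inf_le_left (by rw [hk, hj]; norm_num)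
      have hqcX : (q : G) * c ∈ X := (mem_inf.1 (heq.symm ▸ hqc : (q : G) * c ∈ N ⊓ X)).2
      have hcX : c ∈ X := by simpa using mul_mem (inv_mem q.2) hqcX
      rw [mem_centralizer_singleton_iff.1 hcX, mul_inv_cancel_right] at hc
      have h2 : n ^ 2 = 1 := by rw [pow_two]; nth_rw 1 [hc]; rw [inv_mul_cancel]
      have := orderOf_dvd_of_pow_eq_one h2
      rw [K.F.n_ord] at this
      norm_num at this
  · norm_num at hmod
  · simpa using hk
  · norm_num at hmod

theorem cent_h_norm :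
    Nat.card ↥(normalizer ((R : Subgroup G) : Set G) ⊓ centralizer ({h} : Set G)) = 9 := by
  have : Fact (Nat.Prime 2) := ⟨Nat.prime_two⟩
  have : Fact (Nat.Prime 3) := ⟨Nat.prime_three⟩
  set W := normalizer ((R : Subgroup G) : Set G) ⊓ centralizer ({h} : Set G) with hW
  have hle : zpowers n ⊔ zpowers h ≤ W := by
    rw [← K.r_inf_h]; exact inf_le_inf_right _ le_normalizer
  obtain ⟨j, hj⟩ : 9 ∣ Nat.card ↥W := K.F.e_card ▸ Subgroup.card_dvd_of_le hle
  have hd := Subgroup.card_dvd_of_le (inf_le_right : W ≤ centralizer ({h} : Set G))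
  rw [K.F.h_card, hj] at hd
  have hj4 : j ∣ 2 ^ 2 := Nat.dvd_of_mul_dvd_mul_left (by norm_num : 0 < 9) hd
  obtain ⟨i, -, rfl⟩ := (Nat.dvd_prime_pow Nat.prime_two).1 hj4
  rcases i with _ | i
  · simpa using hj
  exfalso
  obtain ⟨v, hv⟩ := exists_prime_orderOf_dvd_card' (G := ↥W) 2
    (hj ▸ (dvd_pow_self 2 (Nat.succ_ne_zero i)).mul_left 9)
  have hv' : orderOf (v : G) = 2 := by rw [Subgroup.orderOf_coe]; exact hv
  obtain ⟨hvN, hvh⟩ := mem_inf_centralizer.1 v.2
  obtain ⟨hv2, hv1⟩ := orderOf_eq_two.1 hv'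
  have hvV := K.F.h_invol hvh hv2
  have hvc : (v : G) * n * (v : G)⁻¹ ∈ zpowers n :=
    (mem_normalizer_iff.1 (K.norm_le hvN) n).1 (mem_zpowers n)
  set m := (v : G) * (n * (v : G)⁻¹ * n⁻¹) with hm
  have hmV : m ∈ vGroup S t h := mul_mem hvV (K.F.Yh.hnV _ (inv_mem hvV))
  have hmn : m ∈ zpowers n := by
    rw [show m = (v : G) * n * (v : G)⁻¹ * n⁻¹ by rw [hm]; group]
    exact mul_mem hvc (inv_mem (mem_zpowers n))
  have hm1 : m = 1 := by
    have h1 := Nat.dvd_gcd (orderOf_dvd_of_pow_eq_one (show m ^ 2 = 1 by rw [pow_two]; exact K.F.Yh.D.v_sq hmV))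
      (orderOf_dvd_of_mem_zpowers hmn)
    rw [K.F.n_ord] at h1
    exact orderOf_eq_one_iff.1 (Nat.dvd_one.1 h1)
  have hvn : (v : G) * n = n * v := by
    rw [show m = (v : G) * n * (v : G)⁻¹ * n⁻¹ by rw [hm]; group, mul_inv_eq_one] at hm1
    exact mul_inv_eq_iff_eq_mul.1 hm1
  exact K.F.n_no_t (S.outer_conjT K.F.Yh.D.T.ht (K.F.Yh.D.v_outer hvV hv1)) hvn

/-- Outside the centre every element of `R` is conjugate to `h`. -/
theorem fusion {x : G} (hx : x ∈ (R : Subgroup G)) (hxn : x ∉ zpowers n) : IsConj h x := by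
  classical
  have := Fintype.ofFinite G
  set N := normalizer ((R : Subgroup G) : Set G) with hN
  have hhN : h ∈ N := le_normalizer K.hh
  have hcl := HJOrder.card_class_mul (⟨h, hhN⟩ : ↥N)
  rw [card_inf_centralizer, K.cent_h_norm, show Nat.card ↥N = 216 from K.norm_card] at hcl
  let cls := Finset.univ.filter fun y => ∃ c ∈ N, c * h * c⁻¹ = y
  have hc24 : cls.card = 24 := by
    have e : Nat.card {y : ↥N // IsConj (⟨h, hhN⟩ : ↥N) y} = cls.card := by
      rw [← Fintype.card_coe, ← Nat.card_eq_fintype_card]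
      refine Nat.card_congr
        { toFun := fun y => ⟨y.1.1, ?_⟩
          invFun := fun y => ⟨⟨y.1, ?_⟩, ?_⟩ }
      · obtain ⟨c, e⟩ := isConj_iff.1 y.2
        exact Finset.mem_filter.2 ⟨Finset.mem_univ _, c.1, c.2, congrArg Subtype.val e⟩
      · obtain ⟨c, hc, e⟩ := (Finset.mem_filter.1 y.2).2
        exact e ▸ mul_mem (mul_mem hc hhN) (inv_mem hc)
      · obtain ⟨c, hc, e⟩ := (Finset.mem_filter.1 y.2).2
        exact isConj_iff.2 ⟨⟨c, hc⟩, Subtype.ext e⟩
    omega
  set A := Finset.univ.filter fun y => y ∈ (R : Subgroup G) ∧ y ∉ zpowers n with hA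
  have hA24 : A.card = 24 := by
    have e1 : A = (Finset.univ.filter fun y => y ∈ (R : Subgroup G)) \
        (Finset.univ.filter fun y => y ∈ zpowers n) := by
      ext y; simp [hA]
    rw [e1, Finset.card_sdiff_of_subset (by
      intro y hy
      simp only [Finset.mem_filter, Finset.mem_univ, true_and] at hy ⊢
      exact zpowers_le.2 K.hn hy), ← Fintype.card_subtype, ← Fintype.card_subtype,
      ← Nat.card_eq_fintype_card, ← Nat.card_eq_fintype_card,
      show Nat.card {x // x ∈ (R : Subgroup G)} = 27 from K.card_R,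
      show Nat.card {x // x ∈ zpowers n} = 3 from (Nat.card_zpowers n).trans K.F.n_ord]
  have hsub : cls ⊆ A := by
    intro y hy
    obtain ⟨c, hc, rfl⟩ := (Finset.mem_filter.1 hy).2
    exact Finset.mem_filter.2 ⟨Finset.mem_univ _, (mem_normalizer_iff.1 hc h).1 K.hh, K.F.n_not_h⟩
  have heq := Finset.eq_of_subset_of_card_le hsub (by rw [hc24, hA24])
  have hm : x ∈ cls := heq ▸ Finset.mem_filter.2 ⟨Finset.mem_univ _, hx, hxn⟩
  obtain ⟨c, -, e⟩ := (Finset.mem_filter.1 hm).2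
  exact isConj_iff.2 ⟨c, e⟩

theorem exponent {x : G} (hx : x ∈ (R : Subgroup G)) : x ^ 3 = 1 := by
  by_cases hxn : x ∈ zpowers n
  · refine orderOf_dvd_iff_pow_eq_one.1 ?_
    exact K.F.n_ord ▸ orderOf_dvd_of_mem_zpowers hxn
  · obtain ⟨c, rfl⟩ := isConj_iff.1 (K.fusion hx hxn)
    rw [conj_pow, K.F.Yh.D.T.h3]; group

/-- The two classes of elements of order three. -/
theorem three_kinds {x : G} (hx : orderOf x = 3) : IsConj x n ∨ IsConj x h := by
  have : Fact (Nat.Prime 3) := ⟨Nat.prime_three⟩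
  obtain ⟨g, hg⟩ := mem_sylow_conj (isPGroup_zpowers (p := 3) (k := 1)
    (show x ^ 3 ^ 1 = 1 by rw [pow_one, ← hx]; exact pow_orderOf_eq_one x)) R
  have hxR := hg x (mem_zpowers x)
  set x' := g * x * g⁻¹ with hx'
  have hxx : IsConj x x' := isConj_iff.2 ⟨g, rfl⟩
  by_cases hxn : x' ∈ zpowers n
  · left
    obtain ⟨i, hi⟩ := hxn
    have hi' : n ^ i = x' := hi
    have h2 : n ^ (i % 3) = x' := by
      rw [← hi', ← zpow_mod_orderOf n i, K.F.n_ord]; norm_num
    rcases (show i % 3 = 0 ∨ i % 3 = 1 ∨ i % 3 = 2 by omega) with r | r | r <;> rw [r] at h2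
    · exfalso
      rw [zpow_zero] at h2
      rw [conj_eq_one_iff.1 h2.symm, orderOf_one] at hx
      omega
    · rw [zpow_one] at h2; exact hxx.trans (h2 ▸ IsConj.refl n)
    · have hn2 : n ^ (2 : ℤ) = n⁻¹ := by
        rw [zpow_ofNat]; exact eq_inv_of_mul_eq_one_left (by rw [← pow_succ, K.F.Yh.hn3])
      rw [hn2] at h2
      obtain ⟨c, hc⟩ := K.F.n_inverted
      exact hxx.trans (h2 ▸ (isConj_iff.2 ⟨c, hc⟩ : IsConj n n⁻¹).symm)
  · exact Or.inr (hxx.trans (K.fusion hxR hxn).symm)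

end RFrame

theorem Setting.sylow_three (S : Setting z Q) (P : Sylow 3 G) :
    Cfsg.IsExtraspecial 3 (P : Subgroup G) ∧ Nat.card (P : Subgroup G) = 27 ∧
      Nat.card (normalizer ((P : Subgroup G) : Set G)) = 216 ∧
      ∃ a c : G, orderOf a = 3 ∧ orderOf c = 3 ∧ ¬ IsConj a c ∧
        ∀ x : G, orderOf x = 3 → IsConj x a ∨ IsConj x c := by
  have : Fact (Nat.Prime 3) := ⟨Nat.prime_three⟩
  obtain ⟨t, h, B, n, b, F⟩ := S.exists_frame
  obtain ⟨R, K⟩ := F.exists_R
  obtain ⟨g, hg⟩ := MulAction.exists_smul_eq G R P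
  have hmem : ∀ x, g * x * g⁻¹ ∈ (P : Subgroup G) ↔ x ∈ (R : Subgroup G) := fun x => by
    rw [← hg, Sylow.coe_subgroup_smul, Subgroup.mem_pointwise_smul_iff_inv_smul_mem]
    simp [mul_assoc]
  have hP27 : Nat.card (P : Subgroup G) = 27 := by
    simpa using sylow_of_card (p := 3) (a := 3) (m := 22400) (by rw [S.order_eq]; norm_num) (by norm_num) P
  refine ⟨?_, hP27, ?_, n, h, F.n_ord, F.Yh.hord, fun hc => ?_, fun x hx => K.three_kinds hx⟩
  · refine CfsgLib.FusionFourth.extraspecial_of_exponent (p := 3) (by rw [hP27]; norm_num) ?_ ?_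
    · intro hcm
      refine K.not_comm fun a ha c hc => (cent_conj g c a).1 ?_
      exact congrArg Subtype.val (hcm.is_comm.comm (⟨_, (hmem a).2 ha⟩ : ↥(P : Subgroup G)) ⟨_, (hmem c).2 hc⟩)
    · intro x
      have hx : g⁻¹ * (x : G) * g ∈ (R : Subgroup G) :=
        (hmem _).1 (by rw [show g * (g⁻¹ * (x : G) * g) * g⁻¹ = x by group]; exact x.2)
      refine Subtype.ext ?_
      rw [Subgroup.coe_pow, OneMemClass.coe_one,
        show (x : G) = g * (g⁻¹ * (x : G) * g) * g⁻¹ by group, conj_pow, K.exponent hx]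
      group
  · have h1 := (normalizer ((P : Subgroup G) : Set G)).card_mul_index
    have h2 := (normalizer ((R : Subgroup G) : Set G)).card_mul_index
    have i1 : Nat.card (Sylow 3 G) = (normalizer ((P : Subgroup G) : Set G)).index :=
      P.card_eq_index_normalizer
    have i2 : Nat.card (Sylow 3 G) = (normalizer ((R : Subgroup G) : Set G)).index :=
      R.card_eq_index_normalizer
    rw [← i1] at h1
    rw [← i2] at h2
    exact (Nat.eq_of_mul_eq_mul_right Nat.card_pos (h1.trans h2.symm)).trans K.norm_card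
  · obtain ⟨c, e⟩ := isConj_iff.1 hc.symm
    exact F.n_not_h (g := c) (e ▸ mem_zpowers n)

theorem Setting.sylow_seven (S : Setting z Q) (D : Sylow 7 G) :
    centralizer ((D : Subgroup G) : Set G) = D ∧
      Nat.card (normalizer ((D : Subgroup G) : Set G)) = 42 ∧
      ¬ IsMulCommutative (normalizer ((D : Subgroup G) : Set G)) := by
  have : Fact (Nat.Prime 7) := ⟨by norm_num⟩
  have : Fact (Nat.Prime 3) := ⟨Nat.prime_three⟩
  obtain ⟨t, h, B, n, b, F⟩ := S.exists_frame
  obtain ⟨R, K⟩ := F.exists_R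
  have hD : Nat.card (D : Subgroup G) = 7 := by
    simpa using sylow_of_card (p := 7) (a := 1) (m := 86400) (by rw [S.order_eq]; norm_num) (by norm_num) D
  obtain ⟨g, hg⟩ := exists_prime_orderOf_dvd_card' (G := ↥(D : Subgroup G)) 7 (by rw [hD])
  have hg' : orderOf (g : G) = 7 := by rw [Subgroup.orderOf_coe]; exact hg
  have hDg : zpowers (g : G) = (D : Subgroup G) :=
    Subgroup.eq_of_le_of_card_ge (zpowers_le.2 g.2) (by rw [hD, Nat.card_zpowers, hg'])
  have hC7 : Nat.card (centralizer ({(g : G)} : Set G)) = 7 ∧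
      Nat.card (normalizer (zpowers (g : G) : Set G)) = 42 := by
    have hno3 : ¬ 3 ∣ Nat.card (centralizer ({(g : G)} : Set G)) := by
      intro h3
      obtain ⟨x, hx⟩ := exists_prime_orderOf_dvd_card' 3 h3
      have hx' : orderOf (x : G) = 3 := by rw [Subgroup.orderOf_coe]; exact hx
      have hd := orderOf_dvd_natCard
        (⟨(g : G), mem_centralizer_singleton_iff.2 (mem_centralizer_singleton_iff.1 x.2).symm⟩ :
          ↥(centralizer ({(x : G)} : Set G)))
      rw [Subgroup.orderOf_mk, hg'] at hd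
      rcases K.three_kinds hx' with hc | hc <;> obtain ⟨u, hu⟩ := isConj_iff.1 hc
      · rw [← card_centralizer_conj u (x : G), hu, K.n_card] at hd; norm_num at hd
      · rw [← card_centralizer_conj u (x : G), hu, F.h_card] at hd; norm_num at hd
    rcases F.seven_norm hg' with h1 | ⟨hc, -⟩ | ⟨hc, -⟩
    · exact h1
    · exact absurd (by rw [hc]; norm_num) hno3
    · rcases hc with hc | hc
      · exact absurd (by rw [hc]; norm_num) hno3
      · rw [Set.mem_singleton_iff] at hc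
        exact absurd (by rw [hc]; norm_num) hno3
  have hcent : centralizer ((D : Subgroup G) : Set G) = D := by
    have heq : zpowers (g : G) = centralizer ({(g : G)} : Set G) :=
      Subgroup.eq_of_le_of_card_ge (zpowers_le.2 (mem_centralizer_singleton_iff.2 rfl))
        (by rw [hC7.1, Nat.card_zpowers, hg'])
    rw [← hDg]
    conv_lhs => rw [zpowers_eq_closure, centralizer_closure]
    exact heq.symm
  refine ⟨hcent, by rw [← hDg]; exact hC7.2, fun hcomm => ?_⟩
  have hle : normalizer ((D : Subgroup G) : Set G) ≤ centralizer ((D : Subgroup G) : Set G) := fun c hc =>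
    mem_centralizer_iff.2 fun d hd =>
      congrArg Subtype.val (hcomm.is_comm.comm (⟨d, le_normalizer hd⟩ :
        ↥(normalizer ((D : Subgroup G) : Set G))) ⟨c, hc⟩)
  have := Subgroup.card_le_of_le hle
  rw [hcent, hD, ← hDg, hC7.2] at this
  omega

end CfsgLib.HJType
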