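import Cfsg.Agent.Lib.HJType.LocalFive

/-!
The two kinds of elements of order three.
-/

set_option autoImplicit false
set_option linter.unusedSectionVars false

namespace CfsgLib.HJType

open Subgroup LocalGen

variable {G : Type*} [Group G] [Finite G] {z : G} {Q : Subgroup G}

theorem a5_invert_three : ∀ u : A5, u ^ 3 = 1 → ∃ v : A5, v * u = u⁻¹ * v := by decide +kernel

theorem isConj_sq_one {a v : G} (ha : a * a = 1) (hv : IsConj a v) : v * v = 1 := by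
  obtain ⟨g, rfl⟩ := isConj_iff.1 hv
  rw [show g * a * g⁻¹ * (g * a * g⁻¹) = g * (a * a) * g⁻¹ by group, ha]; group

theorem commute_of_mem_zpowers {v x y : G} (hx : x ∈ zpowers y) (h : v * y = y * v) : v * x = x * v := by
  obtain ⟨i, rfl⟩ := hx
  exact ((show Commute v y from h).zpow_right i).eq

namespace Frame

variable {S : Setting z Q} {t h : G} {B : Subgroup G} {n b : G} (F : Frame S t h B n b)
include F

theorem zB : z ∈ B := F.Yh.D.UB (mem_inf.2 ⟨S.z_mem F.Yh.D.T.ht, S.hzQ⟩)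

theorem nC : n ∈ centralizer ({z} : Set G) := mem_centralizer_singleton_iff.2 (F.Yh.hnB z F.zB)

theorem n_ne : n ≠ 1 := fun e => F.Yh.hnt (by rw [e]; group)

theorem n_ord : orderOf n = 3 := orderOf_eq_prime F.Yh.hn3 F.n_ne

theorem conj_n_z {x g : G} (hx : g * x * g⁻¹ ∈ zpowers n) :
    ∃ v, IsConj z v ∧ v * x = x * v := by
  refine ⟨g⁻¹ * z * g, isConj_iff.2 ⟨g⁻¹, by rw [inv_inv]⟩, (cent_conj g x (g⁻¹ * z * g)).1 ?_⟩
  rw [show g * (g⁻¹ * z * g) * g⁻¹ = z by group]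
  exact commute_of_mem_zpowers hx (F.Yh.hnB z F.zB).symm

theorem n_not_h {g : G} : g * h * g⁻¹ ∉ zpowers n := fun hm => by
  obtain ⟨v, hv, hvh⟩ := F.conj_n_z hm
  exact F.Yh.no_z hv hvh

theorem h_card : Nat.card (centralizer ({h} : Set G)) = 36 := by
  have : Fact (Nat.Prime 3) := ⟨Nat.prime_three⟩
  have : Fact (Nat.Prime 5) := ⟨Nat.prime_five⟩
  rcases F.Yh.card_cases with e | ⟨e, -⟩
  · simpa using e
  exfalso
  obtain ⟨u, hu⟩ := exists_prime_orderOf_dvd_card' (G := ↥(centralizer ({h} : Set G))) 5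
    (by rw [show Nat.card ↥(centralizer ({h} : Set G)) = 180 by simpa using e]; norm_num)
  have hu' : orderOf (u : G) = 5 := by rw [Subgroup.orderOf_coe]; exact hu
  have huh : (u : G) * h = h * u := mem_centralizer_singleton_iff.1 u.2
  rcases F.five_kinds hu' with ⟨g, hg⟩ | hs
  · set h' := g * h * g⁻¹ with hh'
    have hh'b : h' * b = b * h' := by
      refine commute_of_mem_zpowers (y := g * (u : G) * g⁻¹) (hg ▸ mem_zpowers b) ?_
      exact (cent_conj g (u : G) h).2 huh.symm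
    set X := centralizer ({b} : Set G) with hX
    obtain ⟨P, hP⟩ := (isPGroup_zpowers (p := 3) (k := 1)
      (show (⟨n, mem_centralizer_singleton_iff.2 F.Yb.ny⟩ : ↥X) ^ 3 ^ 1 = 1 by
        rw [pow_one]; exact Subtype.ext F.Yh.hn3)).exists_le_sylow
    have hXc : Nat.card ↥X = 300 := F.b_card
    have hP3 : Nat.card (P : Subgroup ↥X) = 3 := by
      simpa using sylow_of_card (p := 3) (a := 1) (m := 100) (by rw [hXc]; norm_num) (by norm_num) P
    have heq : zpowers (⟨n, mem_centralizer_singleton_iff.2 F.Yb.ny⟩ : ↥X) = (P : Subgroup ↥X) :=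
      Subgroup.eq_of_le_of_card_ge hP (by rw [hP3, Nat.card_zpowers, Subgroup.orderOf_mk, F.n_ord])
    obtain ⟨c, hc, -⟩ := prime_card_eq_sylow
      (x := (⟨h', mem_centralizer_singleton_iff.2 hh'b⟩ : ↥X))
      (by rw [Subgroup.orderOf_mk, hh', orderOf_conj]; exact F.Yh.hord) P hP3
    rw [← heq] at hc
    obtain ⟨i, hi⟩ := hc
    refine F.n_not_h (g := (c : G) * g) ⟨i, ?_⟩
    have := congrArg Subtype.val hi
    show n ^ i = (c : G) * g * h * ((c : G) * g)⁻¹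
    calc n ^ i = (c : G) * h' * (c : G)⁻¹ := this
      _ = _ := by rw [hh']; group
  · have h1 := orderOf_dvd_natCard (⟨h, mem_centralizer_singleton_iff.2 huh.symm⟩ :
      ↥(centralizer ({(u : G)} : Set G)))
    rw [F.stype_card hs, Subgroup.orderOf_mk, F.Yh.hord] at h1
    norm_num at h1

/-- The involutions of `C(h)` lie in `V`. -/
theorem h_invol {v : G} (hvh : v * h = h * v) (hv : v * v = 1) : v ∈ vGroup S t h := by
  classical
  set V := vGroup S t h with hV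
  set X := centralizer ({h} : Set G) with hX
  let f : Fin 3 × ↥V × ↥(zpowers h) → ↥X := fun q =>
    ⟨n ^ (q.1 : ℕ) * q.2.1.1 * q.2.2.1, mem_centralizer_singleton_iff.2
      ((((show Commute n h from F.Yh.ny).pow_left (q.1 : ℕ)).mul_left
        (show Commute q.2.1.1 h from F.Yh.vy q.2.1.2)).mul_left
        (show Commute q.2.2.1 h from (commute_of_mem_zpowers q.2.2.2 rfl).symm)).eq⟩
  have hct : ∀ c ∈ zpowers h, c * t = t * c := fun c hc =>
    (commute_of_mem_zpowers hc (F.Yh.D.hBX h F.Yh.hyB).symm).symm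
  have hconj : ∀ (i : ℕ) (w c : G), w ∈ V → c ∈ zpowers h →
      n ^ i * w * c * t * (n ^ i * w * c)⁻¹ = n ^ i * t * (n ^ i)⁻¹ := fun i w c hw hc => by
    rw [show n ^ i * w * c * t * (n ^ i * w * c)⁻¹ = n ^ i * w * (c * t * c⁻¹) * (n ^ i * w)⁻¹ by group,
      hct c hc, mul_inv_cancel_right, mul_assoc (n ^ i), F.Yh.D.vX hw]
    group
  have hne2 : n ^ 2 * t * (n ^ 2)⁻¹ ≠ t := fun e => F.Yh.hnt (by
    have h4 : n ^ 4 = n := by rw [pow_succ, F.Yh.hn3, one_mul]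
    calc n * t * n⁻¹ = n ^ 4 * t * (n ^ 4)⁻¹ := by rw [h4]
      _ = n ^ 2 * (n ^ 2 * t * (n ^ 2)⁻¹) * (n ^ 2)⁻¹ := by
          rw [show n ^ 4 = n ^ 2 * n ^ 2 from pow_add n 2 2]; group
      _ = t := by rw [e, e])
  have hne12 : n ^ 2 * t * (n ^ 2)⁻¹ ≠ n * t * n⁻¹ := fun e => F.Yh.hnt (by
    rw [pow_two, show n * n * t * (n * n)⁻¹ = n * (n * t * n⁻¹) * n⁻¹ by group] at e
    exact mul_left_cancel (mul_right_cancel e))
  have hinj : Function.Injective f := by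
    rintro ⟨i, ⟨a, ha⟩, ⟨c, hc⟩⟩ ⟨j, ⟨a', ha'⟩, ⟨c', hc'⟩⟩ e
    have e1 : n ^ (i : ℕ) * a * c = n ^ (j : ℕ) * a' * c' := congrArg Subtype.val e
    have e2 : n ^ (i : ℕ) * t * (n ^ (i : ℕ))⁻¹ = n ^ (j : ℕ) * t * (n ^ (j : ℕ))⁻¹ := by
      rw [← hconj _ a c ha hc, e1, hconj _ a' c' ha' hc']
    have hij : i = j := by
      have a1 := F.Yh.hnt
      fin_cases i <;> fin_cases j <;> simp at e2 ⊢ <;>
        first | exact a1 e2 | exact a1 e2.symm | exact hne2 e2 | exact hne2 e2.symm |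
          exact hne12 e2 | exact hne12 e2.symm
    subst hij
    rw [mul_assoc, mul_assoc] at e1
    have e3 : a * c = a' * c' := mul_left_cancel e1
    have hm : a'⁻¹ * a ∈ zpowers h := by
      rw [show a'⁻¹ * a = c' * c⁻¹ by
        calc a'⁻¹ * a = a'⁻¹ * (a * c) * c⁻¹ := by group
          _ = c' * c⁻¹ := by rw [e3]; group]
      exact mul_mem hc' (inv_mem hc)
    have haa : a' = a := inv_mul_eq_one.1 (F.Yh.v_meet (mul_mem (inv_mem ha') ha) hm)
    subst haa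
    have hcc := mul_left_cancel e3
    subst hcc
    rfl
  have hbij : Function.Bijective f := hinj.bijective_of_nat_card_le (by
    rw [Nat.card_prod, Nat.card_prod, Nat.card_fin, F.Yh.D.T.parts.1, Nat.card_zpowers, F.Yh.hord]
    exact (show Nat.card ↥X = 36 from F.h_card).le)
  have hall : ∀ x : ↥X, (x : G) * t * (x : G)⁻¹ ∈ V := by
    intro x
    obtain ⟨⟨i, ⟨a, ha⟩, ⟨c, hc⟩⟩, rfl⟩ := hbij.2 x
    show n ^ (i : ℕ) * a * c * t * (n ^ (i : ℕ) * a * c)⁻¹ ∈ V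
    rw [hconj _ a c ha hc]
    generalize (i : ℕ) = k
    induction k with
    | zero => simpa using F.Yh.tV
    | succ k ih =>
      rw [pow_succ', show n * n ^ k * t * (n * n ^ k)⁻¹ = n * (n ^ k * t * (n ^ k)⁻¹) * n⁻¹ by group]
      exact F.Yh.hnV _ ih
  obtain ⟨⟨i, ⟨a, ha⟩, ⟨c, hc⟩⟩, e⟩ := hbij.2 ⟨v, mem_centralizer_singleton_iff.2 hvh⟩
  have e1 : n ^ (i : ℕ) * a * c = v := congrArg Subtype.val e
  -- `v` fixes `t`
  have hvt : v * t * v⁻¹ = t := by
    have h1 : v * (v * t * v⁻¹) * v⁻¹ = t := by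
      rw [show v * (v * t * v⁻¹) * v⁻¹ = (v * v) * t * (v * v)⁻¹ by group, hv]; group
    rw [← e1, hconj _ a c ha hc] at h1 ⊢
    -- an element of `n`-power of order dividing two fixes `t`
    have h2 : n ^ (2 * (i : ℕ)) * t * (n ^ (2 * (i : ℕ)))⁻¹ = t := by
      rw [two_mul, pow_add]
      have hw : n ^ (i : ℕ) * t * (n ^ (i : ℕ))⁻¹ ∈ V := by
        have := hall (f (i, ⟨a, ha⟩, ⟨c, hc⟩))
        rwa [show ((f (i, ⟨a, ha⟩, ⟨c, hc⟩) : ↥X) : G) = n ^ (i : ℕ) * a * c from rfl,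
          hconj _ a c ha hc] at this
      conv_rhs => rw [← h1]
      rw [show n ^ (i : ℕ) * a * c * (n ^ (i : ℕ) * t * (n ^ (i : ℕ))⁻¹) * (n ^ (i : ℕ) * a * c)⁻¹ =
        n ^ (i : ℕ) * (a * (c * (n ^ (i : ℕ) * t * (n ^ (i : ℕ))⁻¹) * c⁻¹) * a⁻¹) *
          (n ^ (i : ℕ))⁻¹ by group,
        commute_of_mem_zpowers hc (F.Yh.vy hw) |>.symm, mul_inv_cancel_right,
        F.Yh.D.T.central hw (F.Yh.D.vX ha), mul_inv_cancel_right]
      group
    fin_cases i <;> simp at h2 ⊢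
    · exact absurd h2 hne2
    · refine absurd ?_ F.Yh.hnt
      rwa [show (4 : ℕ) = 3 + 1 by norm_num, pow_succ, F.Yh.hn3, one_mul] at h2
  obtain ⟨w, hw, c', hc', e'⟩ := F.Yh.cent_t hvh (mul_inv_eq_iff_eq_mul.1 hvt)
  have hc2 : c' * c' = 1 := by
    have hcw : Commute w c' := commute_of_mem_zpowers hc' (F.Yh.vy hw)
    calc c' * c' = (w * w) * (c' * c') := by rw [F.Yh.D.v_sq hw, one_mul]
      _ = w * c' * (w * c') := by rw [mul_assoc w c', ← mul_assoc c' w c', ← hcw.eq]; group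
      _ = 1 := by rw [← e']; exact hv
  rw [e', F.Yh.odd_mem hc' hc2, mul_one]
  exact hw

theorem t_three {v x : G} (hv : IsConj t v) (hvx : v * x = x * v) (hx : orderOf x = 3) :
    ∃ g, zpowers (g * x * g⁻¹) = zpowers h := by
  have : Fact (Nat.Prime 3) := ⟨Nat.prime_three⟩
  obtain ⟨g, hg⟩ := isConj_iff.1 hv.symm
  set x' := g * x * g⁻¹ with hx'
  have hx't : x' * t = t * x' := by rw [← hg]; exact (cent_conj g v x).2 hvx.symm
  have hx'3 : x' ^ 3 = 1 := by rw [← hx, ← orderOf_conj g x]; exact pow_orderOf_eq_one _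
  obtain ⟨w, hw, c, hc, e⟩ := F.Yh.D.split x' hx't
  have hcw : Commute w c := F.Yh.D.comm hw hc
  rw [e, hcw.mul_pow] at hx'3
  have hw3 : w ^ 3 = w := by rw [pow_succ, pow_two, F.Yh.D.v_sq hw, one_mul]
  rw [hw3] at hx'3
  have hw1 : w = 1 := by
    have hm : w ∈ vGroup S t h ⊓ B :=
      mem_inf.2 ⟨hw, by rw [eq_inv_of_mul_eq_one_left hx'3]; exact inv_mem (pow_mem hc 3)⟩
    rwa [F.Yh.D.inf, mem_bot] at hm
  rw [hw1, one_mul] at e
  obtain ⟨eB⟩ := F.Yh.D.equiv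
  have hB : Nat.card ↥B = 60 := by rw [Nat.card_congr eB.toEquiv, a5_card]
  obtain ⟨P, hP⟩ := (isPGroup_zpowers (p := 3) (k := 1)
    (show (⟨h, F.Yh.hyB⟩ : ↥B) ^ 3 ^ 1 = 1 by rw [pow_one]; exact Subtype.ext F.Yh.D.T.h3)).exists_le_sylow
  have hP3 : Nat.card (P : Subgroup ↥B) = 3 := by
    simpa using sylow_of_card (p := 3) (a := 1) (m := 20) (by rw [hB]; norm_num) (by norm_num) P
  have heq : zpowers (⟨h, F.Yh.hyB⟩ : ↥B) = (P : Subgroup ↥B) :=
    Subgroup.eq_of_le_of_card_ge hP (by rw [hP3, Nat.card_zpowers, Subgroup.orderOf_mk, F.Yh.hord])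
  obtain ⟨k, -, hk⟩ := prime_card_eq_sylow (x := (⟨c, hc⟩ : ↥B))
    (by rw [Subgroup.orderOf_mk, ← e, orderOf_conj]; exact hx) P hP3
  refine ⟨(k : G) * g, ?_⟩
  have e' := congrArg (Subgroup.map B.subtype) (hk.trans heq.symm)
  rw [MonoidHom.map_zpowers, MonoidHom.map_zpowers] at e'
  rw [show (k : G) * g * x * ((k : G) * g)⁻¹ = (k : G) * x' * (k : G)⁻¹ by rw [hx']; group, e]
  exact e'

theorem n_no_t {v : G} (hv : IsConj t v) : v * n ≠ n * v := by
  intro hvn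
  obtain ⟨g, hg⟩ := F.t_three hv hvn F.n_ord
  refine F.n_not_h (g := g⁻¹) ?_
  have hm : h ∈ zpowers (g * n * g⁻¹) := hg ▸ mem_zpowers h
  obtain ⟨i, hi⟩ := hm
  have hi' : (g * n * g⁻¹) ^ i = h := hi
  refine ⟨i, ?_⟩
  show n ^ i = _
  rw [← hi', conj_zpow]
  group

theorem kerC_n : Nat.card ↥(Q ⊓ centralizer ({n} : Set G)) = 8 := by
  classical
  have := Fintype.ofFinite G
  have : Fact (Nat.Prime 3) := ⟨Nat.prime_three⟩
  have : Fact (Nat.Prime 2) := ⟨Nat.prime_two⟩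
  set K := Q ⊓ centralizer ({n} : Set G) with hK
  obtain ⟨k, hk⟩ := IsPGroup.iff_card.1
    ((IsPGroup.of_card (p := 2) (n := 5) (by rw [S.card]; norm_num)).to_le (inf_le_left : K ≤ Q))
  have h4 : 4 ≤ Nat.card ↥K := by
    rw [← F.Yh.D.card_inf]
    refine Subgroup.card_le_of_le fun u hu => mem_inf_centralizer.2 ⟨(mem_inf.1 hu).2, ?_⟩
    exact (F.Yh.hnB u (F.Yh.D.UB hu)).symm
  have hne : Nat.card ↥K ≠ 32 := fun e => by
    have hKQ : K = Q := Subgroup.eq_of_le_of_card_ge inf_le_left (by rw [e, S.card])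
    have hnQ : n ∈ Q := S.self n F.nC fun q hq => (mem_inf_centralizer.1 (hKQ ▸ hq : q ∈ K)).2
    have := orderOf_dvd_natCard (⟨n, hnQ⟩ : ↥Q)
    rw [S.card, Subgroup.orderOf_mk, F.n_ord] at this
    norm_num at this
  let σ : Equiv.Perm ↥Q :=
    { toFun := fun y => ⟨n * y * n⁻¹, S.norm n F.nC y y.2⟩
      invFun := fun y => ⟨n⁻¹ * y * n, S.norm' F.nC y.2⟩
      left_inv := fun y => by ext; simp [mul_assoc]
      right_inv := fun y => by ext; simp [mul_assoc] }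
  have hσpow : ∀ (m : ℕ) (y : ↥Q), (((σ ^ m) y : ↥Q) : G) = n ^ m * y * (n ^ m)⁻¹ := by
    intro m
    induction m with
    | zero => simp
    | succ m ih =>
      intro y
      rw [pow_succ', Equiv.Perm.mul_apply]
      show n * ((σ ^ m) y : ↥Q) * n⁻¹ = _
      rw [ih, pow_succ']; group
  have hσ3 : σ ^ 3 = 1 := by ext y; rw [hσpow, F.Yh.hn3]; simp
  have hfix : ∀ y : ↥Q, σ y = y ↔ (y : G) ∈ K := by
    intro y
    rw [hK, mem_inf_centralizer, Subtype.ext_iff]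
    show n * y * n⁻¹ = y ↔ _
    rw [mul_inv_eq_iff_eq_mul]
    exact ⟨fun e => ⟨y.2, e.symm⟩, fun e => e.2.symm⟩
  have hmod : Fintype.card {y : ↥Q // ¬ (y : G) ∈ K} % 3 = 0 := by
    by_contra hnd
    have hstab : ∀ y : ↥Q, ¬ ((σ y : ↥Q) : G) ∈ K ↔ ¬ (y : G) ∈ K := fun y => by
      rw [← hfix, ← hfix]; exact not_congr σ.injective.eq_iff
    obtain ⟨y, hy⟩ := Equiv.Perm.exists_fixed_point_of_prime (p := 3) (n := 1)
      (fun e => hnd (Nat.mod_eq_zero_of_dvd e)) (σ := σ.subtypePerm hstab) (by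
      ext y
      simp only [pow_one, Equiv.Perm.subtypePerm_pow, Equiv.Perm.subtypePerm_apply, hσ3]
      rfl)
    exact y.2 ((hfix y.1).1 (congrArg Subtype.val hy))
  rw [Fintype.card_subtype_compl] at hmod
  have e1 : Fintype.card ↥Q = 32 := by rw [← Nat.card_eq_fintype_card]; exact S.card
  have e2 : Fintype.card {y : ↥Q // (y : G) ∈ K} = Nat.card K := by
    rw [← Nat.card_eq_fintype_card]
    exact Nat.card_congr
      { toFun := fun y => ⟨y.1.1, y.2⟩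
        invFun := fun y => ⟨⟨y.1, (mem_inf.1 y.2).1⟩, y.2⟩ }
  have hle : Nat.card ↥K ≤ 32 := S.card ▸ Subgroup.card_le_of_le inf_le_left
  rw [e1, e2] at hmod
  rw [hk] at hle h4 hne hmod ⊢
  have : k ≤ 5 := by
    by_contra h
    have := Nat.pow_le_pow_right (show 1 ≤ 2 by norm_num) (show 6 ≤ k by omega)
    omega
  interval_cases k <;> omega

theorem kerC {x : G} (hxC : x ∈ centralizer ({z} : Set G)) (hx : orderOf x = 3) :
    Nat.card ↥(Q ⊓ centralizer ({x} : Set G)) = 8 := by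
  have : Fact (Nat.Prime 3) := ⟨Nat.prime_three⟩
  obtain ⟨c, hc, e⟩ := S.conj_in_C (Or.inl rfl) hxC hx F.nC F.n_ord
  rw [← F.kerC_n, ← card_centralizer_zpowers e]
  refine Nat.card_congr ((MulAut.conj c).toEquiv.subtypeEquiv fun y => ?_)
  rw [mem_inf_centralizer, mem_inf_centralizer]
  exact and_congr (S.norm_iff hc).symm (cent_conj c x y).symm

theorem n_inverted : ∃ c, c * n * c⁻¹ = n⁻¹ := by
  have : Fact (Nat.Prime 3) := ⟨Nat.prime_three⟩
  obtain ⟨c, -, hc⟩ := S.invert_C (Or.inl rfl) F.nC F.n_ord (fun _ => F.kerC_n)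
  exact ⟨c, hc⟩

theorem h_inverted : ∃ c, c * h * c⁻¹ = h⁻¹ := by
  obtain ⟨e⟩ := F.Yh.D.equiv
  obtain ⟨v, hv⟩ := a5_invert_three (e ⟨h, F.Yh.hyB⟩)
    (by rw [← map_pow, ← map_one e]; exact congrArg e (Subtype.ext F.Yh.D.T.h3))
  obtain ⟨c, rfl⟩ := e.surjective v
  rw [← map_mul, ← map_inv, ← map_mul] at hv
  exact ⟨c, mul_inv_eq_iff_eq_mul.2 (congrArg Subtype.val (e.injective hv))⟩

end Frame

end CfsgLib.HJType
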