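import Cfsg.Agent.Lib.HJType.Small
import Cfsg.Agent.Lib.InvChar.AltFiveSixRigid
import Cfsg.Agent.Lib.Recog.SmallAltCounts
import Cfsg.Prelude.Def_Solvable

/-!
The centraliser of an outer involution and the normaliser of its two-core.
-/

set_option autoImplicit false
set_option linter.unusedSectionVars false

namespace CfsgLib.HJType

open Subgroup

variable {G : Type*} [Group G] [Finite G] {z : G} {Q : Subgroup G}

theorem a5_center : ∀ u : A5, (∀ v : A5, u * v = v * u) → u = 1 := by decide +kernel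

theorem a5_simple_of_normal {B : Type*} [Group B] (e : B ≃* A5) {N : Subgroup B} (hN : N.Normal) :
    N = ⊥ ∨ N = ⊤ := by
  have : Nontrivial B := e.toEquiv.nontrivial
  have : IsSimpleGroup B := IsSimpleGroup.isSimpleGroup_of_surjective e.symm.toMonoidHom e.symm.surjective
  exact hN.eq_bot_or_eq_top

section two_core

theorem klein_sq : ∀ a : Multiplicative (ZMod 2) × Multiplicative (ZMod 2), a ^ 2 = 1 := by decide

/-- In a product of a four group and `A₅` the two-core is the centre. -/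
theorem pCore_eq_center {M : Type*} [Group M] [Finite M]
    (e : M ≃* (Multiplicative (ZMod 2) × Multiplicative (ZMod 2)) × A5) :
    Cfsg.pCore 2 M = center M := by
  have : Fact (Nat.Prime 2) := ⟨Nat.prime_two⟩
  refine le_antisymm ?_ ?_
  · intro x hx
    have hp : ((e x).2) = 1 := by
      let π : M →* A5 := (MonoidHom.snd _ _).comp e.toMonoidHom
      have hπ : Function.Surjective π := fun a => ⟨e.symm (1, a), by simp [π]⟩
      have h2 : IsPGroup 2 ((Cfsg.pCore 2 M).map π) := CfsgLib.PCore.pCore_isPGroup.map π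
      rcases a5_simple_of_normal (MulEquiv.refl A5) (Normal.map inferInstance π hπ :
        ((Cfsg.pCore 2 M).map π).Normal) with h | h
      · have : π x ∈ (Cfsg.pCore 2 M).map π := ⟨x, hx, rfl⟩
        rw [h, mem_bot] at this
        exact this
      · exfalso
        obtain ⟨k, hk⟩ := IsPGroup.iff_card.1 h2
        rw [h, Subgroup.card_top, a5_card] at hk
        rcases lt_or_ge k 6 with hk' | hk'
        · interval_cases k <;> omega
        · have := Nat.pow_le_pow_right (show 1 ≤ 2 by norm_num) hk'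
          omega
    refine mem_center_iff.2 fun y => e.injective ?_
    rw [map_mul, map_mul]
    refine Prod.ext (mul_comm _ _) ?_
    show (e y).2 * (e x).2 = (e x).2 * (e y).2
    rw [hp, mul_one, one_mul]
  · refine CfsgLib.PCore.le_pCore inferInstance fun x => ⟨1, Subtype.ext (e.injective ?_)⟩
    have hc : (e x.1).2 = 1 := a5_center _ fun v => by
      have h := congrArg e (mem_center_iff.1 x.2 (e.symm (1, v)))
      rw [map_mul, map_mul, e.apply_symm_apply] at h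
      exact (congrArg Prod.snd h).symm
    rw [Subgroup.coe_pow, map_pow, pow_one, OneMemClass.coe_one, map_one]
    refine Prod.ext ?_ ?_
    · show (e x.1).1 ^ 2 = 1
      generalize (e x.1).1 = a
      exact klein_sq a
    · show (e x.1).2 ^ 2 = 1
      rw [hc, one_pow]

end two_core

namespace TData

variable {S : Setting z Q} {t h : G} {B : Subgroup G} (D : TData S t h B)
include D

theorem v_sq {v : G} (hv : v ∈ vGroup S t h) : v * v = 1 := S.eGroup_sq D.T.ht (D.T.mem_v.1 hv).1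

theorem v_outer {v : G} (hv : v ∈ vGroup S t h) (hv1 : v ≠ 1) : Outer z Q v :=
  ⟨(S.mem_eGroup.1 (D.T.mem_v.1 hv).1).1, D.v_sq hv, D.T.v_not_Q hv hv1⟩

theorem b_center {b : G} (hb : b ∈ B) (h : ∀ c ∈ B, c * b = b * c) : b = 1 := by
  obtain ⟨e⟩ := D.equiv
  have h1 : e ⟨b, hb⟩ = 1 := a5_center _ fun v => by
    obtain ⟨c, rfl⟩ := e.surjective v
    rw [← map_mul, ← map_mul]
    exact congrArg e (Subtype.ext (h c c.2).symm)
  exact congrArg Subtype.val (e.map_eq_one_iff.1 h1)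

theorem cent_eq :
    centralizer (centralizer ({t} : Set G) : Set G) = vGroup S t h := by
  refine le_antisymm (fun x hx => ?_) (fun v hv => mem_centralizer_iff.2 fun y hy =>
    D.T.central hv (mem_centralizer_singleton_iff.1 hy))
  rw [mem_centralizer_iff] at hx
  obtain ⟨v, hv, b, hb, rfl⟩ := D.split x (hx t (mem_centralizer_singleton_iff.2 rfl)).symm
  have hb1 : b = 1 := D.b_center hb fun c hc => by
    have h1 := hx c (mem_centralizer_singleton_iff.2 (D.hBX c hc))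
    calc c * b = v⁻¹ * (v * c) * b := by group
      _ = v⁻¹ * (c * (v * b)) := by rw [D.comm hv hc]; group
      _ = b * c := by rw [h1]; group
  rwa [hb1, mul_one]

theorem cent_v {v : G} (hv : v ∈ vGroup S t h) (hv1 : v ≠ 1) :
    centralizer ({v} : Set G) = centralizer ({t} : Set G) := by
  obtain ⟨g, hg⟩ := isConj_iff.1 (S.outer_conjT D.T.ht (D.v_outer hv hv1))
  refine (Subgroup.eq_of_le_of_card_ge (fun x hx => mem_centralizer_singleton_iff.2
    (D.T.central hv (mem_centralizer_singleton_iff.1 hx))) (le_of_eq ?_)).symm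
  refine (Nat.card_congr ((MulAut.conj g).toEquiv.subtypeEquiv fun x => ?_)).symm
  rw [mem_centralizer_singleton_iff, mem_centralizer_singleton_iff, ← hg]
  exact (conj_commute_iff g x t).symm

theorem norm_B {n : G} (hn : ∀ x, x * t = t * x → n * x * n⁻¹ * t = t * (n * x * n⁻¹)) {b : G}
    (hb : b ∈ B) : n * b * n⁻¹ ∈ B := by
  obtain ⟨e⟩ := D.equiv
  let W : Subgroup ↥B := (B.comap (MulAut.conj n).toMonoidHom).subgroupOf B
  have hW : ∀ x : ↥B, x ∈ W ↔ n * (x : G) * n⁻¹ ∈ B := fun x => Iff.rfl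
  have hWn : W.Normal := ⟨fun x hx a => by
    rw [hW] at hx ⊢
    have : n * ((a * x * a⁻¹ : ↥B) : G) * n⁻¹ =
        (n * (a : G) * n⁻¹) * (n * (x : G) * n⁻¹) * (n * (a : G) * n⁻¹)⁻¹ := by
      push_cast; group
    rw [this]
    exact D.Bnorm (hn a (D.hBX a a.2)) hx⟩
  have hz : (⟨z, D.UB (mem_inf.2 ⟨S.z_mem D.T.ht, S.hzQ⟩)⟩ : ↥B) ∈ W :=
    D.zB (hn z (S.comm_z D.T.ht.1).symm) (isConj_iff.2 ⟨n, rfl⟩)
  rcases a5_simple_of_normal e hWn with h | h
  · rw [h, mem_bot] at hz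
    exact absurd (congrArg Subtype.val hz) S.z_ne
  · exact (hW ⟨b, hb⟩).1 (h ▸ Subgroup.mem_top _)

/-- An element of order three normalising `V`, moving `t` and centralising `B`. -/
theorem exists_outer_three : ∃ n : G, n ^ 3 = 1 ∧ n * t * n⁻¹ ≠ t ∧
    (∀ v ∈ vGroup S t h, n * v * n⁻¹ ∈ vGroup S t h) ∧ ∀ b ∈ B, n * b = b * n := by
  classical
  obtain ⟨e⟩ := D.equiv
  obtain ⟨hV4, -, -, htV⟩ := D.T.parts
  set V := vGroup S t h with hV
  have ht1 : t ≠ 1 := fun e => D.T.ht.2.2 (e ▸ one_mem Q)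
  obtain ⟨v₁, hv₁, hv₁'⟩ : ∃ v ∈ V, v ≠ 1 ∧ v ≠ t := by
    by_contra hcon
    push Not at hcon
    have hle : V ≤ zpowers t := fun v hv => by
      by_cases h1 : v = 1
      · exact h1 ▸ one_mem _
      · exact hcon v hv h1 ▸ mem_zpowers t
    have := Subgroup.card_le_of_le hle
    rw [hV4, Nat.card_zpowers, orderOf_eq_two.2 ⟨D.T.ht.2.1, ht1⟩] at this
    omega
  obtain ⟨c, hc, hct⟩ := S.outer_trans D.T.ht (D.v_outer hv₁ hv₁'.1)
  have hcX : ∀ x, x * t = t * x → c * x * c⁻¹ * t = t * (c * x * c⁻¹) := by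
    intro x hx
    have h1 : c * x * c⁻¹ ∈ centralizer ({v₁} : Set G) := mem_centralizer_singleton_iff.2 (by
      rw [← hct]; exact (conj_commute_iff c x t).2 hx)
    rw [D.cent_v hv₁ hv₁'.1] at h1
    exact mem_centralizer_singleton_iff.1 h1
  have hcX' : ∀ x, c * x * c⁻¹ * t = t * (c * x * c⁻¹) → x * t = t * x := fun x hx => by
    have h1 : c * x * c⁻¹ ∈ centralizer ({v₁} : Set G) := by
      rw [D.cent_v hv₁ hv₁'.1]; exact mem_centralizer_singleton_iff.2 hx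
    refine (conj_commute_iff c x t).1 ?_
    rw [hct]
    exact mem_centralizer_singleton_iff.1 h1
  have hcV : ∀ v ∈ V, c * v * c⁻¹ ∈ V := by
    intro v hv
    rw [hV, ← D.cent_eq, mem_centralizer_iff]
    intro y hy
    have hy' : c⁻¹ * y * c * t = t * (c⁻¹ * y * c) := hcX' _ (by
      rw [show c * (c⁻¹ * y * c) * c⁻¹ = y by group]
      exact mem_centralizer_singleton_iff.1 hy)
    have := (conj_commute_iff c _ _).2 (D.T.central hv hy')
    rwa [show c * (c⁻¹ * y * c) * c⁻¹ = y by group] at this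
  have hcE : ∀ x, x ∈ S.eGroup t → c * x * c⁻¹ ∈ S.eGroup t := fun x hx =>
    S.mem_eGroup.2 ⟨mul_mem (mul_mem hc (S.mem_eGroup.1 hx).1) (inv_mem hc), hcX x (S.mem_eGroup.1 hx).2⟩
  -- the square of `c` moves `t` and fixes the three points of `U`
  set n₁ := c * c
  have hn₁ : ∀ x, n₁ * x * n₁⁻¹ = c * (c * x * c⁻¹) * c⁻¹ := fun x => by simp only [n₁]; group
  have hn₁t : n₁ * t * n₁⁻¹ ≠ t := by
    intro hh
    rw [hn₁, hct] at hh
    have hfix : c * (t * v₁) * c⁻¹ = t * v₁ := by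
      calc c * (t * v₁) * c⁻¹ = (c * t * c⁻¹) * (c * v₁ * c⁻¹) := by group
        _ = v₁ * t := by rw [hct, hh]
        _ = t * v₁ := S.eGroup_comm D.T.ht (D.T.mem_v.1 hv₁).1 (S.self_mem D.T.ht)
    have h1 : c ∈ centralizer ({t * v₁} : Set G) :=
      mem_centralizer_singleton_iff.2 (mul_inv_eq_iff_eq_mul.1 hfix)
    rw [D.cent_v (mul_mem htV hv₁) fun e => hv₁'.2 (by
      rw [eq_inv_of_mul_eq_one_right e, S.t_inv D.T.ht])] at h1
    exact hv₁'.2 (by rw [← hct, mem_centralizer_singleton_iff.1 h1, mul_inv_cancel_right])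
  have hcz : c * z * c⁻¹ = z := by rw [S.comm_z hc, mul_inv_cancel_right]
  have hn₁z : n₁ * z * n₁⁻¹ = z := by rw [hn₁, hcz, hcz]
  have hn₁a : n₁ * (h * z * h⁻¹) * n₁⁻¹ = h * z * h⁻¹ := by
    rw [hn₁]
    set a := h * z * h⁻¹ with ha
    have haE := D.T.hn z (S.z_mem D.T.ht)
    have hz' : ∀ u, u ≠ z → c * u * c⁻¹ ≠ z := fun u hu hh => hu (by
      have hh' : c * u * c⁻¹ = c * z * c⁻¹ := hh.trans hcz.symm
      exact mul_left_cancel (mul_right_cancel hh'))
    have hb1 := hz' a D.T.hz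
    rcases D.T.ztype_cases (hcE a haE) ((isConj_iff.2 ⟨h, rfl⟩ : IsConj z a).trans (isConj_iff.2 ⟨c, rfl⟩))
      with e1 | e1 | e1
    · exact absurd e1 hb1
    · rw [e1, e1]
    · rw [e1]
      rcases D.T.ztype_cases (hcE _ (D.T.hn_iter 2 (S.z_mem D.T.ht)))
        ((isConj_iff.2 ⟨h ^ 2, rfl⟩ : IsConj z (h ^ 2 * z * (h ^ 2)⁻¹)).trans
          (isConj_iff.2 ⟨c, rfl⟩)) with e2 | e2 | e2
      · exact absurd e2 (hz' _ D.T.hz2)
      · exact e2
      · exfalso
        refine D.T.hz12 ?_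
        exact (mul_left_cancel (mul_right_cancel (e1.trans e2.symm))).symm
  have hn₁X : ∀ x, x * t = t * x → n₁ * x * n₁⁻¹ * t = t * (n₁ * x * n₁⁻¹) := fun x hx => by
    rw [hn₁]; exact hcX _ (hcX x hx)
  have hn₁B := fun (b : G) (hb : b ∈ B) => D.norm_B hn₁X hb
  -- adjust to fix `h`
  set k := n₁ * h * n₁⁻¹ with hk
  have hkB : k ∈ B := hn₁B h D.hB
  have hkz : h⁻¹ * k * z = z * (h⁻¹ * k) := by
    have e1 : k * z * k⁻¹ = h * z * h⁻¹ := by
      calc k * z * k⁻¹ = n₁ * (h * (n₁⁻¹ * z * n₁) * h⁻¹) * n₁⁻¹ := by rw [hk]; group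
        _ = n₁ * (h * z * h⁻¹) * n₁⁻¹ := by
          rw [show n₁⁻¹ * z * n₁ = z by
            calc n₁⁻¹ * z * n₁ = n₁⁻¹ * (n₁ * z * n₁⁻¹) * n₁ := by rw [hn₁z]
              _ = z := by group]
        _ = _ := hn₁a
    calc h⁻¹ * k * z = h⁻¹ * (k * z * k⁻¹) * k := by group
      _ = z * (h⁻¹ * k) := by rw [e1]; group
  set u := h⁻¹ * k with hu
  have huB : u ∈ B := mul_mem (inv_mem D.hB) hkB
  have huU : u ∈ S.eGroup t ⊓ Q :=
    D.meet huB ((S.stab D.T.ht (S.z_mem D.T.ht) (IsConj.refl z)).2 ⟨hkz, D.hBX _ huB⟩)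
  have hhinv : ∀ x, x ∈ S.eGroup t ⊓ Q → h⁻¹ * x * h ∈ S.eGroup t ⊓ Q := by
    intro x hx
    have h2 : h⁻¹ = h ^ 2 := inv_eq_of_mul_eq_one_right (by rw [← pow_succ', D.T.h3])
    have hm : h⁻¹ * x * h = h ^ 2 * x * (h ^ 2)⁻¹ := by rw [← h2, inv_inv]
    rw [hm]
    refine D.meet ?_ (D.T.hn_iter 2 (mem_inf.1 hx).1)
    exact mul_mem (mul_mem (pow_mem D.hB 2) (D.UB hx)) (inv_mem (pow_mem D.hB 2))
  let f : ↥(S.eGroup t ⊓ Q) → ↥(S.eGroup t ⊓ Q) := fun x =>
    ⟨h⁻¹ * x.1 * h * x.1, mul_mem (hhinv _ x.2) x.2⟩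
  have hfinj : Function.Injective f := by
    intro x y e'
    have e1 : h⁻¹ * x.1 * h * x.1 = h⁻¹ * y.1 * h * y.1 := congrArg Subtype.val e'
    have hE : ∀ w : ↥(S.eGroup t ⊓ Q), h⁻¹ * w.1 * h ∈ S.eGroup t := fun w => (mem_inf.1 (hhinv _ w.2)).1
    set w : G := y.1 * x.1
    have hwU : w ∈ S.eGroup t ⊓ Q := mul_mem y.2 x.2
    have hwE := (mem_inf.1 hwU).1
    have hxE := (mem_inf.1 x.2).1
    have hyE := (mem_inf.1 y.2).1
    have e2 : h⁻¹ * w * h * w = 1 := by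
      calc h⁻¹ * w * h * w
          = (h⁻¹ * y.1 * h) * ((h⁻¹ * x.1 * h) * y.1) * x.1 := by simp only [w]; group
        _ = (h⁻¹ * y.1 * h * y.1) * (h⁻¹ * x.1 * h * x.1) := by
          rw [S.eGroup_comm D.T.ht (hE x) hyE]; group
        _ = 1 := by rw [← e1]; exact S.eGroup_sq D.T.ht (mul_mem (hE x) hxE)
    have hwh : w * h = h * w := by
      have : h⁻¹ * w * h = w := by
        rw [eq_inv_of_mul_eq_one_left e2, inv_eq_of_mul_eq_one_right (S.eGroup_sq D.T.ht hwE)]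
      calc w * h = h * (h⁻¹ * w * h) := by group
        _ = h * w := by rw [this]
    have hw1 : w ∈ V ⊓ B := mem_inf.2 ⟨D.T.mem_v.2 ⟨hwE, hwh⟩, D.UB hwU⟩
    rw [D.inf, mem_bot] at hw1
    refine Subtype.ext ?_
    calc x.1 = y.1⁻¹ * w := by simp only [w]; group
      _ = y.1 := by rw [hw1, mul_one, inv_eq_of_mul_eq_one_right (S.eGroup_sq D.T.ht hyE)]
  obtain ⟨⟨u', hu'U⟩, hu'⟩ := (Finite.injective_iff_surjective.1 hfinj) ⟨u, huU⟩
  have hu'e : h⁻¹ * u' * h * u' = u := congrArg Subtype.val hu'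
  have hu'2 : u' * u' = 1 := S.eGroup_sq D.T.ht (mem_inf.1 hu'U).1
  set n := u' * n₁
  have hnconj : ∀ x, n * x * n⁻¹ = u' * (n₁ * x * n₁⁻¹) * u'⁻¹ := fun x => by simp only [n]; group
  have hu'E := (mem_inf.1 hu'U).1
  have hnh : n * h * n⁻¹ = h := by
    rw [hnconj, ← hk, show k = h * u by rw [hu]; group,
      ← hu'e, show u' * (h * (h⁻¹ * u' * h * u')) * u'⁻¹ = (u' * u') * h by group, hu'2, one_mul]
  have hnz : n * z * n⁻¹ = z := by
    rw [hnconj, hn₁z, S.eGroup_comm D.T.ht hu'E (S.z_mem D.T.ht), mul_inv_cancel_right]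
  have hnX : ∀ x, x * t = t * x → n * x * n⁻¹ * t = t * (n * x * n⁻¹) := fun x hx => by
    rw [hnconj]
    have h1 : Commute u' t := (S.mem_eGroup.1 hu'E).2
    exact ((h1.mul_left (show Commute (n₁ * x * n₁⁻¹) t from hn₁X x hx)).mul_left h1.inv_left).eq
  have hnB := fun (b : G) (hb : b ∈ B) => D.norm_B hnX hb
  have hnV : ∀ v ∈ V, n * v * n⁻¹ = n₁ * v * n₁⁻¹ ∧ n₁ * v * n₁⁻¹ ∈ V := by
    intro v hv
    have hm : n₁ * v * n₁⁻¹ ∈ V := by rw [hn₁]; exact hcV _ (hcV v hv)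
    refine ⟨?_, hm⟩
    rw [hnconj, S.eGroup_comm D.T.ht hu'E (D.T.mem_v.1 hm).1, mul_inv_cancel_right]
  -- rigidity of `A₅`
  have hzB : z ∈ B := D.UB (mem_inf.2 ⟨S.z_mem D.T.ht, S.hzQ⟩)
  have haB : h * z * h⁻¹ ∈ B := mul_mem (mul_mem D.hB hzB) (inv_mem D.hB)
  let u5' : A5 := ⟨CfsgLib.InvChar.AltRigid.u5, CfsgLib.InvChar.AltRigid.data5.1.1⟩
  have hu5 : u5' * u5' = 1 ∧ u5' ≠ 1 := by decide +kernel
  obtain ⟨g, hg⟩ := a5_involution_conj (e ⟨z, hzB⟩) u5'
    (by rw [← map_mul, ← map_one e]; exact congrArg e (Subtype.ext S.zz))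
    (fun hh => S.z_ne (congrArg Subtype.val (e.map_eq_one_iff.1 hh))) hu5.1 hu5.2
  let e' : ↥B ≃* A5 := e.trans (MulAut.conj g)
  have he'z : e' ⟨z, hzB⟩ = u5' := by
    show g * e ⟨z, hzB⟩ * g⁻¹ = u5'
    rw [hg, mul_inv_cancel_right]
  let α : ↥B →* ↥B :=
    { toFun := fun b => ⟨n * b * n⁻¹, hnB b b.2⟩
      map_one' := Subtype.ext (by show n * 1 * n⁻¹ = 1; group)
      map_mul' := fun a b => Subtype.ext (by
        show n * (a * b : G) * n⁻¹ = (n * a * n⁻¹) * (n * b * n⁻¹); group) }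
  let ψ : A5 →* A5 := e'.toMonoidHom.comp (α.comp e'.symm.toMonoidHom)
  have hψ : ∀ b, ψ (e' b) = e' (α b) := fun b => by simp [ψ]
  have hna : n * (h * z * h⁻¹) * n⁻¹ = h * z * h⁻¹ := by
    calc n * (h * z * h⁻¹) * n⁻¹ = (n * h * n⁻¹) * (n * z * n⁻¹) * (n * h * n⁻¹)⁻¹ := by group
      _ = _ := by rw [hnh, hnz]
  have fz : ψ (e' ⟨z, hzB⟩) = e' ⟨z, hzB⟩ := by rw [hψ]; exact congrArg e' (Subtype.ext hnz)
  have fa : ψ (e' ⟨_, haB⟩) = e' ⟨_, haB⟩ := by rw [hψ]; exact congrArg e' (Subtype.ext hna)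
  have fh : ψ (e' ⟨h, D.hB⟩) = e' ⟨h, D.hB⟩ := by rw [hψ]; exact congrArg e' (Subtype.ext hnh)
  set σ := e' ⟨h, D.hB⟩ with hσ
  set A := e' ⟨_, haB⟩ with hA
  rw [he'z] at fz
  -- the other generators
  have hA2 : A * A = 1 := by
    rw [hA, ← map_mul, ← map_one e']
    exact congrArg e' (Subtype.ext (S.eGroup_sq D.T.ht (D.T.hn z (S.z_mem D.T.ht))))
  have hAu : A * u5' = u5' * A := by
    rw [← he'z, hA, ← map_mul, ← map_mul]
    exact congrArg e' (Subtype.ext (S.eGroup_comm D.T.ht (D.T.hn z (S.z_mem D.T.ht)) (S.z_mem D.T.ht)))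
  have hA1 : A ≠ 1 := fun hh => by
    have := congrArg Subtype.val (e'.map_eq_one_iff.1 hh)
    exact S.z_ne (conj_eq_one_iff.1 this)
  have hAne : A ≠ u5' := fun hh => D.T.hz (congrArg Subtype.val (e'.injective (hh.trans he'z.symm)))
  let v5' : A5 := ⟨CfsgLib.InvChar.AltRigid.v5, CfsgLib.InvChar.AltRigid.data5.1.2.1⟩
  have hfour : ∀ x : A5, x * x = 1 → x * u5' = u5' * x → x ≠ 1 → x ≠ u5' → x = v5' ∨ x = u5' * v5' := by
    decide +kernel
  have fv : ψ v5' = v5' := by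
    have hu5u : u5' * (u5' * v5') = v5' := by rw [← mul_assoc, hu5.1, one_mul]
    rcases hfour A hA2 hAu hA1 hAne with hh | hh
    · rw [← hh]; exact fa
    · rw [← hu5u, ← hh, map_mul, fz, fa]
  have hσ3 : σ ^ 3 = 1 := by
    rw [hσ, ← map_pow, ← map_one e']; exact congrArg e' (Subtype.ext D.T.h3)
  have hσ1 : σ ≠ 1 := fun hh => D.h_ne (congrArg Subtype.val (e'.map_eq_one_iff.1 hh))
  have hσU : ∀ x : ↥B, (x : G) ∈ S.eGroup t → (x : G) ≠ 1 →
      σ * e' x = u5' * σ ∨ σ * e' x = v5' * σ ∨ σ * e' x = u5' * v5' * σ := by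
    intro x hx hx1
    let y : ↥B := ⟨h, D.hB⟩ * x * ⟨h, D.hB⟩⁻¹
    have hy : σ * e' x = e' y * σ := by rw [hσ, ← map_mul, ← map_mul, show y * ⟨h, D.hB⟩ = ⟨h, D.hB⟩ * x by simp [y]]
    rw [hy]
    have hyE : (y : G) ∈ S.eGroup t := D.T.hn x hx
    have hy1 : e' y ≠ 1 := fun hh => hx1 (by
      have := congrArg Subtype.val (e'.map_eq_one_iff.1 hh)
      exact conj_eq_one_iff.1 this)
    by_cases hyu : e' y = u5'
    · exact Or.inl (by rw [hyu])
    · refine Or.inr ((hfour (e' y) ?_ ?_ hy1 hyu).imp (fun hh => by rw [hh]) (fun hh => by rw [hh]))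
      · rw [← map_mul, ← map_one e']; exact congrArg e' (Subtype.ext (S.eGroup_sq D.T.ht hyE))
      · rw [← he'z, ← map_mul, ← map_mul]
        exact congrArg e' (Subtype.ext (S.eGroup_comm D.T.ht hyE (S.z_mem D.T.ht)))
  have h1 := hσU ⟨z, hzB⟩ (S.z_mem D.T.ht) S.z_ne
  rw [he'z] at h1
  have hxv : ∃ x : ↥B, (x : G) ∈ S.eGroup t ∧ (x : G) ≠ 1 ∧ e' x = v5' := by
    rcases hfour A hA2 hAu hA1 hAne with hh | hh
    · exact ⟨⟨_, haB⟩, D.T.hn z (S.z_mem D.T.ht), fun e2 => S.z_ne (conj_eq_one_iff.1 e2), hh⟩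
    · refine ⟨⟨z, hzB⟩ * ⟨_, haB⟩, mul_mem (S.z_mem D.T.ht) (D.T.hn z (S.z_mem D.T.ht)), fun e2 => ?_, ?_⟩
      · refine D.T.hz ?_
        have := eq_inv_of_mul_eq_one_right (show z * (h * z * h⁻¹) = 1 from e2)
        rw [this, S.z_inv]
      · rw [map_mul, he'z, show e' ⟨_, haB⟩ = A from rfl, hh, ← mul_assoc, hu5.1, one_mul]
  obtain ⟨x, hxE, hx1, hx⟩ := hxv
  have h2 := hσU x hxE hx1
  rw [hx] at h2
  let c5' : A5 := ⟨CfsgLib.InvChar.AltRigid.c5, CfsgLib.InvChar.AltRigid.data5.1.2.2.1⟩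
  have fc : ψ c5' = c5' := by
    rcases CfsgLib.InvChar.AltRigid.normalizer5 σ.1 (congrArg Subtype.val hσ3) (fun hh => hσ1 (Subtype.ext hh))
      (h1.imp (congrArg Subtype.val) (fun hh => hh.imp (congrArg Subtype.val) (congrArg Subtype.val)))
      (h2.imp (congrArg Subtype.val) (fun hh => hh.imp (congrArg Subtype.val) (congrArg Subtype.val)))
      with q | q | q | q | q | q | q | q
    · rw [show c5' = σ from Subtype.ext q]; exact fh
    · rw [show c5' = σ * σ from Subtype.ext q, map_mul, fh]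
    · rw [show c5' = u5' * σ from Subtype.ext q, map_mul, fh, fz]
    · rw [show c5' = u5' * (σ * σ) from Subtype.ext q, map_mul, map_mul, fh, fz]
    · rw [show c5' = v5' * σ from Subtype.ext q, map_mul, fh, fv]
    · rw [show c5' = v5' * (σ * σ) from Subtype.ext q, map_mul, map_mul, fh, fv]
    · rw [show c5' = u5' * v5' * σ from Subtype.ext q, map_mul, map_mul, fh, fz, fv]
    · rw [show c5' = u5' * v5' * (σ * σ) from Subtype.ext q, map_mul, map_mul, map_mul, fh, fz, fv]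
  have hid := CfsgLib.InvChar.AltRigid.rigid_five ψ fz fv fc
  have hcomm : ∀ b ∈ B, n * b = b * n := by
    intro b hb
    have hh := hid (e' ⟨b, hb⟩)
    rw [hψ] at hh
    exact mul_inv_eq_iff_eq_mul.1 (congrArg Subtype.val (e'.injective hh))
  have hnt : n * t * n⁻¹ ≠ t := by rw [(hnV t htV).1]; exact hn₁t
  have hnV' : ∀ v ∈ V, n * v * n⁻¹ ∈ V := fun v hv => (hnV v hv).1 ▸ (hnV v hv).2
  refine ⟨n, ?_, hnt, hnV', hcomm⟩
  -- no fixed point in `V`
  have hnofix : ∀ w ∈ V, n * w * n⁻¹ = w → w = 1 := by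
    intro w hw hh
    by_contra hw1
    have h1 : n ∈ centralizer ({w} : Set G) :=
      mem_centralizer_singleton_iff.2 (mul_inv_eq_iff_eq_mul.1 hh)
    rw [D.cent_v hw hw1] at h1
    exact hnt (by rw [mem_centralizer_singleton_iff.1 h1, mul_inv_cancel_right])
  set a := n * t * n⁻¹ with ha
  set b := n * a * n⁻¹ with hb
  have haV := hnV' t htV
  have hbV := hnV' a haV
  have ha1 : a ≠ 1 := fun hh => ht1 (conj_eq_one_iff.1 hh)
  have hb1 : b ≠ 1 := fun hh => ha1 (conj_eq_one_iff.1 hh)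
  have hba : b ≠ a := fun hh => ha1 (hnofix a haV hh)
  have hbt : b ≠ t := fun hh => by
    refine hnt ?_
    have hprod : n * (t * a) * n⁻¹ = t * a := by
      calc n * (t * a) * n⁻¹ = (n * t * n⁻¹) * (n * a * n⁻¹) := by group
        _ = a * t := by rw [← ha, ← hb, hh]
        _ = t * a := (D.T.central htV (D.vX haV))
    have := hnofix _ (mul_mem htV haV) hprod
    exact (eq_inv_of_mul_eq_one_right this).trans (S.t_inv D.T.ht)
  have hba' : b = t * a := by
    have hk : IsKleinFour ↥V := by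
      have : Nontrivial ↥V := Finite.one_lt_card_iff_nontrivial.1 (by rw [hV4]; norm_num)
      refine ⟨hV4, ?_⟩
      refine (Monoid.exponent_eq_prime_iff Nat.prime_two).2 fun w hw => orderOf_eq_prime ?_ hw
      exact Subtype.ext (by show (w : G) ^ 2 = 1; rw [pow_two]; exact D.v_sq w.2)
    have := IsKleinFour.eq_mul_of_ne_all (G := ↥V) (x := ⟨t, htV⟩) (y := ⟨a, haV⟩) (z := ⟨b, hbV⟩)
    exact congrArg Subtype.val (this (fun hh => ht1 (congrArg Subtype.val hh))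
      (fun hh => ha1 (congrArg Subtype.val hh)) (fun hh => hnt (congrArg Subtype.val hh).symm)
      (fun hh => hb1 (congrArg Subtype.val hh)) (fun hh => hbt (congrArg Subtype.val hh))
      (fun hh => hba (congrArg Subtype.val hh)))
  have h3t : n ^ 3 * t = t * n ^ 3 := by
    refine mul_inv_eq_iff_eq_mul.1 ?_
    calc n ^ 3 * t * (n ^ 3)⁻¹ = n * (n * (n * t * n⁻¹) * n⁻¹) * n⁻¹ := by
          simp only [pow_succ, pow_zero, one_mul, mul_inv_rev, mul_assoc]
      _ = n * (t * a) * n⁻¹ := by rw [← ha, ← hb, hba']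
      _ = (n * t * n⁻¹) * (n * a * n⁻¹) := by group
      _ = a * (t * a) := by rw [← ha, ← hb, hba']
      _ = a * (a * t) := by rw [(D.T.central htV (D.vX haV))]
      _ = t := by rw [← mul_assoc, D.v_sq haV, one_mul]
  obtain ⟨v, hv, q, hq, hvq⟩ := D.split _ h3t
  have hq1 : q = 1 := D.b_center hq fun d hd => by
    have h1 : Commute (n ^ 3) d := (show Commute n d from hcomm d hd).pow_left 3
    calc d * q = v⁻¹ * (v * d) * q := by group
      _ = v⁻¹ * (d * (v * q)) := by rw [D.comm hv hd]; group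
      _ = v⁻¹ * ((v * q) * d) := by rw [← hvq, h1.eq]
      _ = q * d := by group
  rw [hq1, mul_one] at hvq
  rw [hvq]
  refine hnofix v hv ?_
  rw [← hvq]
  group

end TData

end CfsgLib.HJType
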