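import Cfsg.Agent.Lib.HJType.Center
import Cfsg.Agent.S0213

/-!
The order formula applied to a group of Hall–Janko type.
-/

set_option autoImplicit false
set_option linter.unusedSectionVars false

namespace CfsgLib.HJType

open Subgroup

variable {G : Type*} [Group G] [Finite G] {z : G} {Q : Subgroup G}

theorem zpowers_pair {w u v : G} (hu : u * u = 1) (hv : v * v = 1) (hw : w * w = 1)
    (hm : w ∈ zpowers (u * v)) : Commute w u ∧ Commute w v := by
  obtain ⟨i, hi⟩ := hm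
  have hinv : u * (u * v) * u⁻¹ = (u * v)⁻¹ := by
    rw [mul_inv_rev, inv_eq_of_mul_eq_one_right hu, inv_eq_of_mul_eq_one_right hv, ← mul_assoc, hu,
      one_mul]
  have hi' : (u * v) ^ i = w := hi
  have h1 : u * w * u⁻¹ = w := by
    rw [← hi', ← conj_zpow, hinv, inv_zpow, hi', inv_eq_of_mul_eq_one_right hw]
  have hwu : Commute w u := (mul_inv_eq_iff_eq_mul.1 h1).symm
  have hwuv : Commute w (u * v) := by rw [← hi']; exact Commute.zpow_self _ _
  have hv' : v = u⁻¹ * (u * v) := by group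
  exact ⟨hwu, hv' ▸ hwu.inv_right.mul_right hwuv⟩

namespace Hyp

variable (H : Hyp z Q)
include H

/-- A singular element and an outer involution not centralising it generate a group with centre
containing `z`. -/
theorem z_mem_zpowers {u v : G} (hu : Sing z Q u) (hv : Outer z Q v) (hne : u * v ≠ v * u) :
    z ∈ zpowers (u * v) := by
  have hu'Q := H.tconj_mem hv hu.1
  have hsq : (u * v) ^ 2 = u * (v * u * v) := by rw [pow_two]; group
  have h2 : (u * v) ^ 2 ∈ zpowers (u * v) := pow_mem (mem_zpowers _) 2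
  rcases H.sq _ (mul_mem hu.1 hu'Q) with h | h
  · have hcomm : u * (v * u * v) = v * u * v * u :=
      mul_swap hu.2.1 (H.tconj_sing hv hu).2.1 h
    rcases H.sing_comm hu (H.tconj_sing hv hu) hcomm with e | e
    · refine absurd ?_ hne
      calc u * v = v * u * v * v := by rw [e]
        _ = v * u := by rw [mul_assoc, hv.2.1, mul_one]
    · rw [hsq, e, ← mul_assoc, H.comm_zQ hu.1, mul_assoc, hu.2.1, mul_one] at h2
      exact h2
  · have := pow_mem h2 2
    rwa [hsq, pow_two, h] at this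

theorem card_moving {v : G} (hv : Outer z Q v) :
    Nat.card {u : G // Sing z Q u ∧ u * v ≠ v * u} = 8 := by
  classical
  have := Fintype.ofFinite G
  obtain ⟨-, w, hw, hwv, hiff⟩ := H.eGroup_inf hv
  have e : (Finset.univ.filter fun u => Sing z Q u ∧ u * v ≠ v * u) =
      (Finset.univ.filter fun u => Sing z Q u) \ {w, z * w} := by
    ext u
    simp only [Finset.mem_filter, Finset.mem_univ, true_and, Finset.mem_sdiff, Finset.mem_insert,
      Finset.mem_singleton]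
    refine and_congr_right fun hu => not_congr ⟨fun h => ?_, ?_⟩
    · rcases (hiff u).1 (mem_inf.2 ⟨H.mem_eGroup.2 ⟨H.hQC hu.1, h⟩, hu.1⟩) with e | e | e | e
      · exact absurd e hu.2.2.1
      · exact absurd e hu.2.2.2
      · exact Or.inl e
      · exact Or.inr e
    · intro hu'
      exact (H.mem_eGroup.1 (mem_inf.1 ((hiff u).2 (Or.inr (Or.inr hu')))).1).2
  have h10 := H.card_sing
  rw [Nat.card_eq_fintype_card, Fintype.card_subtype] at h10 ⊢
  rw [e, Finset.card_sdiff_of_subset, h10, Finset.card_pair (fun h => H.z_ne (right_eq_mul.1 h))]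
  intro x hx
  simp only [Finset.mem_insert, Finset.mem_singleton] at hx
  simp only [Finset.mem_filter, Finset.mem_univ, true_and]
  rcases hx with rfl | rfl
  · exact hw
  · exact H.sing_zmul hw

end Hyp

namespace Setting

variable (S : Setting z Q)
include S

theorem pairs_z {t : G} (ht : Outer z Q t) :
    Nat.card {p : G × G // IsConj z p.1 ∧ IsConj t p.2 ∧ z ∈ zpowers (p.1 * p.2)} = 960 := by
  classical
  have := Fintype.ofFinite G
  let T := {v : G // Outer z Q v}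
  have hsigma : Nat.card ((v : T) × {u : G // Sing z Q u ∧ u * v.1 ≠ v.1 * u}) = 960 := by
    rw [Nat.card_sigma, Finset.sum_congr rfl fun v _ => S.card_moving v.2, Finset.sum_const,
      Finset.card_univ, ← Nat.card_eq_fintype_card, show Nat.card T = 120 from S.card_outer ht,
      smul_eq_mul]
  rw [← hsigma]
  refine Eq.symm (Nat.card_congr (Equiv.ofBijective
    (fun q => ⟨(q.2.1, q.1.1), S.sing_conjZ q.2.2.1, S.outer_conjT ht q.1.2,
      S.z_mem_zpowers q.2.2.1 q.1.2 q.2.2.2⟩) ⟨?_, ?_⟩))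
  · rintro ⟨⟨v, hv⟩, ⟨u, hu⟩⟩ ⟨⟨v', hv'⟩, ⟨u', hu'⟩⟩ h
    simp only [Subtype.mk.injEq, Prod.mk.injEq] at h
    obtain ⟨rfl, rfl⟩ := h
    rfl
  rintro ⟨⟨u, v⟩, hu, hv, hm⟩
  have hu2 : u * u = 1 := by
    obtain ⟨g, rfl⟩ := isConj_iff.1 hu
    rw [show g * z * g⁻¹ * (g * z * g⁻¹) = g * (z * z) * g⁻¹ by group, S.zz]; group
  have hv2 : v * v = 1 := by
    obtain ⟨g, rfl⟩ := isConj_iff.1 hv
    rw [show g * t * g⁻¹ * (g * t * g⁻¹) = g * (t * t) * g⁻¹ by group, ht.2.1]; group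
  obtain ⟨hzu, hzv⟩ := zpowers_pair hu2 hv2 S.zz hm
  have hvo : Outer z Q v := S.t_type_outer ht (mem_centralizer_singleton_iff.2 hzv.eq.symm) hv
  have huQ : u ∈ Q := S.z_type_mem (mem_centralizer_singleton_iff.2 hzu.eq.symm) hu
  have hu1 : u ≠ 1 := by
    rintro rfl
    obtain ⟨g, hg⟩ := isConj_iff.1 hu
    exact S.z_ne (by simpa [mul_assoc] using congrArg (fun w => g⁻¹ * w * g) hg)
  have hne : u * v ≠ v * u := by
    intro hc
    -- the product would be `z`
    have hsq : (u * v) ^ 2 = 1 := by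
      rw [pow_two]
      calc u * v * (u * v) = u * (v * u) * v := by group
        _ = (u * u) * (v * v) := by rw [← hc]; group
        _ = 1 := by rw [hu2, hv2, one_mul]
    rw [← mem_powers_iff_mem_zpowers] at hm
    obtain ⟨k, hk⟩ := hm
    change (u * v) ^ k = z at hk
    rw [← Nat.div_add_mod k 2, pow_add, pow_mul, hsq, one_pow, one_mul] at hk
    rcases Nat.mod_two_eq_zero_or_one k with e | e
    · rw [e, pow_zero] at hk; exact S.z_ne hk.symm
    · rw [e, pow_one] at hk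
      refine hvo.2.2 ?_
      have : v = u * z := by rw [← hk, ← mul_assoc, hu2, one_mul]
      exact this ▸ mul_mem huQ S.hzQ
  have huz : u ≠ z := fun e => hne (by rw [e]; exact hzv.eq)
  exact ⟨⟨⟨v, hvo⟩, ⟨u, ⟨huQ, hu2, hu1, huz⟩, hne⟩⟩, rfl⟩

end Setting

namespace TData

variable {S : Setting z Q} {t h : G} {B : Subgroup G} (D : TData S t h B)
include D

theorem split_unique {v v' : G} (hv : v ∈ vGroup S t h) (hv' : v' ∈ vGroup S t h) {b b' : G}
    (hb : b ∈ B) (hb' : b' ∈ B) (e : v * b = v' * b') : v = v' ∧ b = b' := by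
  have h1 : v'⁻¹ * v = b' * b⁻¹ := by
    calc v'⁻¹ * v = v'⁻¹ * (v * b) * b⁻¹ := by group
      _ = b' * b⁻¹ := by rw [e]; group
  have hm : v'⁻¹ * v ∈ vGroup S t h ⊓ B :=
    mem_inf.2 ⟨mul_mem (inv_mem hv') hv, h1 ▸ mul_mem hb' (inv_mem hb)⟩
  rw [D.inf, mem_bot] at hm
  have hvv : v = v' := (inv_mul_eq_one.1 hm).symm
  exact ⟨hvv, mul_left_cancel (hvv ▸ e)⟩

theorem card_ct : Nat.card (centralizer ({t} : Set G)) = 4 * Nat.card B := by
  rw [← D.T.parts.1, ← Nat.card_prod]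
  refine Eq.symm (Nat.card_congr (Equiv.ofBijective
    (fun p => ⟨p.1.1 * p.2.1, mem_centralizer_singleton_iff.2
      ((show Commute p.1.1 t from D.vX p.1.2).mul_left (show Commute p.2.1 t from D.hBX _ p.2.2)).eq⟩)
    ⟨?_, ?_⟩))
  · rintro ⟨v, b⟩ ⟨v', b'⟩ e
    obtain ⟨e1, e2⟩ := D.split_unique v.2 v'.2 b.2 b'.2 (congrArg Subtype.val e)
    exact Prod.ext (Subtype.ext e1) (Subtype.ext e2)
  · rintro ⟨x, hx⟩
    obtain ⟨v, hv, b, hb, rfl⟩ := D.split x (mem_centralizer_singleton_iff.1 hx)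
    exact ⟨(⟨v, hv⟩, ⟨b, hb⟩), rfl⟩

theorem zB {x : G} (hx : x * t = t * x) (hz : IsConj z x) : x ∈ B := by
  by_contra hxB
  have h2 : x * x = 1 := by
    obtain ⟨g, rfl⟩ := isConj_iff.1 hz
    rw [show g * z * g⁻¹ * (g * z * g⁻¹) = g * (z * z) * g⁻¹ by group, S.zz]; group
  exact S.outer_not_conj D.T.ht (hz.trans (D.involOut hx h2 hxB).symm)

theorem pairs_t :
    Nat.card {p : G × G // IsConj z p.1 ∧ IsConj t p.2 ∧ t ∈ zpowers (p.1 * p.2)} =
      Nat.card {p : ↥B × ↥B // (p.1 * p.1 = 1 ∧ p.1 ≠ 1) ∧ p.2 * p.2 = 1 ∧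
        ∃ k, Odd k ∧ (p.1 * p.2) ^ k = 1} := by
  have ht1 : t ≠ 1 := fun e => D.T.ht.2.2 (e ▸ one_mem Q)
  have htV : t ∈ vGroup S t h := D.T.parts.2.2.2
  refine Eq.symm (Nat.card_congr (Equiv.ofBijective
    (fun p => ⟨((p.1.1 : G), t * (p.1.2 : G)), ?_, ?_, ?_⟩) ⟨?_, ?_⟩))
  · exact D.involB p.1.1.2 (congrArg Subtype.val p.2.1.1) (fun e => p.2.1.2 (Subtype.ext e))
  · have hb2 : (p.1.2 : G) * p.1.2 = 1 := congrArg Subtype.val p.2.2.1
    have hcb : t * (p.1.2 : G) = p.1.2 * t := (D.hBX _ p.1.2.2).symm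
    refine D.involOut (show t * (p.1.2 : G) * t = t * (t * p.1.2) by rw [mul_assoc, ← hcb]) ?_ ?_
    · calc t * (p.1.2 : G) * (t * p.1.2) = t * ((p.1.2 : G) * t) * p.1.2 := by group
        _ = (t * t) * ((p.1.2 : G) * p.1.2) := by rw [← hcb]; group
        _ = 1 := by rw [D.T.ht.2.1, hb2, one_mul]
    · intro hm
      have : t ∈ vGroup S t h ⊓ B :=
        mem_inf.2 ⟨htV, by simpa using mul_mem hm (inv_mem p.1.2.2)⟩
      rw [D.inf, mem_bot] at this
      exact ht1 this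
  · obtain ⟨k, ⟨j, hj⟩, hk⟩ := p.2.2.2
    have hab : ((p.1.1 : G) * p.1.2) ^ k = 1 := congrArg Subtype.val hk
    have hc : Commute t ((p.1.1 : G) * p.1.2) := D.comm htV (mul_mem p.1.1.2 p.1.2.2)
    have e : ((p.1.1 : G) * (t * p.1.2)) ^ k = t := by
      rw [show (p.1.1 : G) * (t * p.1.2) = t * (p.1.1 * p.1.2) by
        rw [← mul_assoc, ← D.comm htV p.1.1.2, mul_assoc], hc.mul_pow, hab, mul_one, hj, pow_succ,
        pow_mul, pow_two, D.T.ht.2.1, one_pow, one_mul]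
    have := pow_mem (mem_zpowers ((p.1.1 : G) * (t * p.1.2))) k
    rwa [e] at this
  · intro p q hpq
    have h1 := congrArg (fun x => x.1.1) hpq
    have h2 := congrArg (fun x => x.1.2) hpq
    simp only [mul_right_inj] at h1 h2
    exact Subtype.ext (Prod.ext (Subtype.ext h1) (Subtype.ext h2))
  · rintro ⟨⟨u, v⟩, hu, hv, hm⟩
    have hu2 : u * u = 1 := by
      obtain ⟨g, rfl⟩ := isConj_iff.1 hu
      rw [show g * z * g⁻¹ * (g * z * g⁻¹) = g * (z * z) * g⁻¹ by group, S.zz]; group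
    have hu1 : u ≠ 1 := by
      rintro rfl
      obtain ⟨g, hg⟩ := isConj_iff.1 hu
      exact S.z_ne (by simpa [mul_assoc] using congrArg (fun w => g⁻¹ * w * g) hg)
    have hv2 : v * v = 1 := by
      obtain ⟨g, rfl⟩ := isConj_iff.1 hv
      rw [show g * t * g⁻¹ * (g * t * g⁻¹) = g * (t * t) * g⁻¹ by group, D.T.ht.2.1]; group
    obtain ⟨htu, htv⟩ := zpowers_pair hu2 hv2 D.T.ht.2.1 hm
    have huB := D.zB htu.eq.symm hu
    obtain ⟨w, hw, b, hb, rfl⟩ := D.split v htv.eq.symm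
    have hwb := D.comm hw hb
    have hw2 : w * w = 1 := S.eGroup_sq D.T.ht (D.T.mem_v.1 hw).1
    have hb2 : b * b = 1 := by
      have e : w * b * (w * b) = (w * w) * (b * b) := by
        calc w * b * (w * b) = w * (b * w) * b := by group
          _ = (w * w) * (b * b) := by rw [← hwb]; group
      change w * b * (w * b) = 1 at hv2
      rw [e, hw2, one_mul] at hv2
      exact hv2
    change t ∈ zpowers (u * (w * b)) at hm
    rw [show u * (w * b) = w * (u * b) by rw [← mul_assoc, ← D.comm hw huB, mul_assoc],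
      ← mem_powers_iff_mem_zpowers] at hm
    obtain ⟨k, hk⟩ := hm
    change (w * (u * b)) ^ k = t at hk
    rw [(show Commute w (u * b) from D.comm hw (mul_mem huB hb)).mul_pow] at hk
    obtain ⟨e1, e2⟩ := D.split_unique (pow_mem hw k) htV (pow_mem (mul_mem huB hb) k) (one_mem B)
      (by rw [hk, mul_one])
    have hodd : Odd k := by
      rw [← Nat.not_even_iff_odd]
      rintro ⟨j, rfl⟩
      rw [← two_mul, pow_mul, pow_two, hw2, one_pow] at e1
      exact ht1 e1.symm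
    have hwt : w = t := by
      obtain ⟨j, rfl⟩ := hodd
      rwa [pow_succ, pow_mul, pow_two, hw2, one_pow, one_mul] at e1
    subst hwt
    exact ⟨⟨(⟨u, huB⟩, ⟨b, hb⟩), ⟨Subtype.ext hu2, fun e => hu1 (congrArg Subtype.val e)⟩,
      Subtype.ext hb2, k, hodd, Subtype.ext e2⟩, rfl⟩

/-- The order formula. -/
theorem formula : Nat.card G = 4 * Nat.card B * 960 +
    1920 * Nat.card {p : ↥B × ↥B // (p.1 * p.1 = 1 ∧ p.1 ≠ 1) ∧ p.2 * p.2 = 1 ∧
      ∃ k, Odd k ∧ (p.1 * p.2) ^ k = 1} := by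
  have h := Cfsg.Agent.S0213.result z t S.hz
    (orderOf_eq_two.2 ⟨D.T.ht.2.1, fun e => D.T.ht.2.2 (e ▸ one_mem Q)⟩) (S.outer_not_conj D.T.ht)
    (fun x hx => S.classes D.T.ht hx)
  rwa [S.pairs_z D.T.ht, D.pairs_t, D.card_ct, S.card_C] at h

theorem order_of_equiv (e : ↥B ≃* A5) : Nat.card G = 604800 := by
  classical
  have h := D.formula
  have hB : Nat.card B = 60 := by rw [Nat.card_congr e.toEquiv, a5_card]
  have hp : Nat.card {p : ↥B × ↥B // (p.1 * p.1 = 1 ∧ p.1 ≠ 1) ∧ p.2 * p.2 = 1 ∧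
      ∃ k, Odd k ∧ (p.1 * p.2) ^ k = 1} = 195 := by
    rw [← HJOrder.a5_pairs, ← Fintype.card_subtype, ← Nat.card_eq_fintype_card]
    refine Nat.card_congr ((Equiv.prodCongr e.toEquiv e.toEquiv).subtypeEquiv fun p => ?_)
    simp only [Equiv.prodCongr_apply, Prod.map, MulEquiv.toEquiv_eq_coe, MulEquiv.coe_toEquiv]
    rw [← map_mul, ← map_mul, ← map_mul, ← map_pow, e.map_eq_one_iff, e.map_eq_one_iff,
      e.map_eq_one_iff, Ne, Ne, e.map_eq_one_iff]
    refine and_congr_right fun _ => and_congr_right fun _ => ⟨fun ⟨k, hk, hpow⟩ => ?_, fun h15 => ?_⟩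
    · set c := p.1 * p.2
      have h30 : c ^ 30 = 1 := e.map_eq_one_iff.1 (by rw [map_pow]; exact HJOrder.a5_exponent _)
      have hg1 : c ^ Nat.gcd k 30 = 1 := pow_gcd_eq_one.2 ⟨hpow, h30⟩
      have hd : Nat.gcd k 30 ∣ 15 := by
        have hodd : Odd (Nat.gcd k 30) := hk.of_dvd_nat (Nat.gcd_dvd_left k 30)
        exact (Nat.Coprime.dvd_mul_left (Nat.coprime_two_right.2 hodd)).1
          (show Nat.gcd k 30 ∣ 2 * 15 from Nat.gcd_dvd_right k 30)
      obtain ⟨j, hj⟩ := hd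
      rw [hj, pow_mul, hg1, one_pow]
    · exact ⟨15, by decide, h15⟩
  omega

theorem involutions_twelve (hU : Nat.card B = 12) {b : G} (hb : b ∈ B) (h2 : b * b = 1) :
    b ∈ S.eGroup t ⊓ Q := by
  have : Fact (Nat.Prime 2) := ⟨Nat.prime_two⟩
  -- `U` is normal of index three
  obtain ⟨c, hct, hc⟩ := D.T.conj_into (D.hBX b hb) (m := 1) (by rw [pow_one, pow_two]; exact h2)
  have hn := fun (a : G) (ha : a ∈ B) (u : G) (hu : u ∈ S.eGroup t ⊓ Q) => D.twelve_norm hU ha hu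
  have hm := D.meet (D.Bnorm hct hb) hc
  obtain ⟨v, hv, k, hk, rfl⟩ := D.split c hct
  have hk' := inv_mem hk
  have e : b = k⁻¹ * (v * k * b * (v * k)⁻¹) * k⁻¹⁻¹ := by
    have hm' := mul_mem (mul_mem hk hb) hk'
    rw [show v * k * b * (v * k)⁻¹ = v * (k * b * k⁻¹) * v⁻¹ by group, D.comm hv hm',
      mul_inv_cancel_right]
    group
  rw [e]
  exact D.meet (mul_mem (mul_mem hk' (D.Bnorm hct hb)) (inv_mem hk')) (hn _ hk' _ hm)

theorem order_twelve (hU : Nat.card B = 12) : Nat.card G = 51840 := by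
  classical
  have h := D.formula
  have hp : Nat.card {p : ↥B × ↥B // (p.1 * p.1 = 1 ∧ p.1 ≠ 1) ∧ p.2 * p.2 = 1 ∧
      ∃ k, Odd k ∧ (p.1 * p.2) ^ k = 1} = 3 := by
    have := Fintype.ofFinite G
    have key : ∀ a b : ↥B, a * a = 1 → b * b = 1 → (∃ k, Odd k ∧ (a * b) ^ k = 1) → a = b := by
      rintro a b ha hb ⟨k, ⟨j, rfl⟩, hk⟩
      have ha' := D.involutions_twelve hU a.2 (congrArg Subtype.val ha)
      have hb' := D.involutions_twelve hU b.2 (congrArg Subtype.val hb)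
      have h2 : (a * b) * (a * b) = 1 := Subtype.ext
        (S.eGroup_sq D.T.ht (mul_mem (mem_inf.1 ha').1 (mem_inf.1 hb').1))
      rw [pow_succ, pow_mul, pow_two, h2, one_pow, one_mul] at hk
      rw [mul_eq_one_iff_eq_inv.1 hk, inv_eq_of_mul_eq_one_right hb]
    have e1 : Nat.card {p : ↥B × ↥B // (p.1 * p.1 = 1 ∧ p.1 ≠ 1) ∧ p.2 * p.2 = 1 ∧
        ∃ k, Odd k ∧ (p.1 * p.2) ^ k = 1} = Nat.card {a : ↥(S.eGroup t ⊓ Q) // a ≠ 1} := by
      refine Nat.card_congr
        { toFun := fun p => ⟨⟨p.1.1.1, D.involutions_twelve hU p.1.1.2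
            (congrArg Subtype.val p.2.1.1)⟩, fun e => p.2.1.2 (Subtype.ext
            (congrArg (fun x : ↥(S.eGroup t ⊓ Q) => (x : G)) e))⟩
          invFun := fun a => ⟨(⟨a.1.1, D.UB a.1.2⟩, ⟨a.1.1, D.UB a.1.2⟩),
            ⟨Subtype.ext (S.eGroup_sq D.T.ht (mem_inf.1 a.1.2).1),
              fun e => a.2 (Subtype.ext (congrArg (fun x : ↥B => (x : G)) e))⟩,
            Subtype.ext (S.eGroup_sq D.T.ht (mem_inf.1 a.1.2).1), 1, odd_one,
            by rw [pow_one]; exact Subtype.ext (S.eGroup_sq D.T.ht (mem_inf.1 a.1.2).1)⟩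
          left_inv := fun p => ?_ }
      exact Subtype.ext (Prod.ext rfl (key _ _ p.2.1.1 p.2.2.1 p.2.2.2))
    rw [e1, Nat.card_eq_fintype_card, Fintype.card_subtype_compl, Fintype.card_subtype_eq,
      ← Nat.card_eq_fintype_card, D.card_inf]
  omega

end TData

end CfsgLib.HJType
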