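import Cfsg.Agent.Lib.HJType.Basic

/-!
The involutions of `C(z)` outside `Q` and their centralisers in `C(z)`.
-/

set_option autoImplicit false
set_option linter.unusedSectionVars false

namespace CfsgLib.HJType

open Subgroup

variable {G : Type*} [Group G] {z : G} {Q : Subgroup G}

namespace Hyp

variable (H : Hyp z Q)
include H

theorem t_inv {t : G} (ht : Outer z Q t) : t⁻¹ = t := inv_eq_of_mul_eq_one_right ht.2.1

theorem t_cancel {t : G} (ht : Outer z Q t) (x : G) : t * (t * x) = x := by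
  rw [← mul_assoc, ht.2.1, one_mul]

theorem tconj_mem {t x : G} (ht : Outer z Q t) (hx : x ∈ Q) : t * x * t ∈ Q := by
  have := H.norm t ht.1 x hx
  rwa [H.t_inv ht] at this

theorem tconj_eqv {t x y : G} (ht : Outer z Q t) (h : Eqv z x y) :
    Eqv z (t * x * t) (t * y * t) := H.eqv_mul_right _ (H.eqv_mul_left ht.1 h)

theorem tconj_tconj {t : G} (ht : Outer z Q t) (x : G) : t * (t * x * t) * t = x := by
  rw [← mul_assoc t (t * x), H.t_cancel ht x, mul_assoc, ht.2.1, mul_one]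

theorem φ_ne {t : G} (ht : Outer z Q t) : H.φ ⟨t, ht.1⟩ ≠ 1 := (H.not_mem_iff ht.1).1 ht.2.2

theorem φ_sq {t : G} (ht : Outer z Q t) : H.φ ⟨t, ht.1⟩ * H.φ ⟨t, ht.1⟩ = 1 := by
  rw [← map_mul, show (⟨t, ht.1⟩ : ↥(centralizer ({z} : Set G))) * ⟨t, ht.1⟩ = 1 from
    Subtype.ext ht.2.1, map_one]

theorem outer_conj {c t : G} (hc : c ∈ centralizer ({z} : Set G)) (ht : Outer z Q t) :
    Outer z Q (c * t * c⁻¹) := by
  refine ⟨mul_mem (mul_mem hc ht.1) (inv_mem hc), ?_, fun h => ht.2.2 ((H.norm_iff hc).1 h)⟩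
  rw [show c * t * c⁻¹ * (c * t * c⁻¹) = c * (t * t) * c⁻¹ by group, ht.2.1]; group

theorem inverts {t : G} (ht : Outer z Q t) :
    ∃ g ∈ centralizer ({z} : Set G), g ^ 5 = 1 ∧ g ∉ Q ∧
      ∀ x ∈ Q, Eqv z (t * (g * x * g⁻¹) * t) (g⁻¹ * (t * x * t) * g) := by
  obtain ⟨s, hs, hs1, hinv⟩ := a5_inverted _ (H.φ_sq ht) (H.φ_ne ht)
  obtain ⟨g, hg, h5, hφ⟩ := H.five_lift hs
  refine ⟨g, hg, h5, (H.not_mem_iff hg).2 (hφ ▸ hs1), fun x hx => ?_⟩
  have h1 : H.φ (⟨t, ht.1⟩ * ⟨g, hg⟩) = H.φ (⟨g, hg⟩⁻¹ * ⟨t, ht.1⟩) := by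
    rw [map_mul, map_mul, map_inv, hφ, hinv]
  obtain ⟨q, hq, e⟩ := (H.φ_eq_iff (mul_mem ht.1 hg) (mul_mem (inv_mem hg) ht.1)).1 h1
  have e' : t * (g * x * g⁻¹) * t = g⁻¹ * (t * (q * x * q⁻¹) * t) * g := by
    calc t * (g * x * g⁻¹) * t = (t * g) * x * (t * g)⁻¹ := by
          rw [mul_inv_rev, H.t_inv ht]; group
      _ = (g⁻¹ * t * q) * x * (g⁻¹ * t * q)⁻¹ := by rw [show t * g = g⁻¹ * t * q from e]
      _ = _ := by rw [mul_inv_rev, mul_inv_rev, H.t_inv ht, inv_inv]; group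
  rw [e']
  have := H.eqv_conj (inv_mem hg) (H.tconj_eqv ht (H.eqv_conjQ hq hx))
  rwa [inv_inv] at this

/-- The fixed points modulo `z` of an outer involution form a subgroup. -/
theorem fixed_mul {t x y : G} (ht : Outer z Q t) (hx : Fixed z Q t x) (hy : Fixed z Q t y) :
    Fixed z Q t (x * y) := by
  refine ⟨mul_mem hx.1 hy.1, ?_⟩
  have e : t * (x * y) * t = (t * x * t) * (t * y * t) := by
    calc t * (x * y) * t = t * x * (t * t) * y * t := by rw [ht.2.1]; group
      _ = _ := by group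
  rw [e]
  exact H.eqv_trans (H.eqv_mul_right _ hx.2) (H.eqv_mul_left (H.hQC hx.1) hy.2)

theorem fixed_inv {t x : G} (ht : Outer z Q t) (hx : Fixed z Q t x) : Fixed z Q t x⁻¹ := by
  refine ⟨inv_mem hx.1, ?_⟩
  have e : t * x⁻¹ * t = (t * x * t)⁻¹ := by
    rw [mul_inv_rev, mul_inv_rev, H.t_inv ht]; group
  rw [e]
  exact H.eqv_trans (H.eqv_inv (H.tconj_mem ht hx.1))
    (H.eqv_trans hx.2 (H.eqv_symm (H.eqv_inv hx.1)))

theorem fixed_eqv {t x y : G} (ht : Outer z Q t) (hy : Fixed z Q t y) (h : Eqv z x y) :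
    Fixed z Q t x :=
  ⟨H.eqv_mem hy.1 h, H.eqv_trans (H.tconj_eqv ht h) (H.eqv_trans hy.2 (H.eqv_symm h))⟩

theorem fixed_one {t : G} (ht : Outer z Q t) : Fixed z Q t 1 :=
  ⟨one_mem Q, Or.inl (by rw [mul_one, ht.2.1])⟩

/-- `[x, t]` for `x` in `Q`. -/
def psi (_ : Hyp z Q) (t x : G) : G := x⁻¹ * (t * x * t)

theorem psi_mem {t x : G} (ht : Outer z Q t) (hx : x ∈ Q) : H.psi t x ∈ Q :=
  mul_mem (inv_mem hx) (H.tconj_mem ht hx)

theorem psi_inv {t x : G} (ht : Outer z Q t) : t * H.psi t x * t = (H.psi t x)⁻¹ := by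
  unfold psi
  rw [mul_inv_rev, mul_inv_rev, mul_inv_rev, H.t_inv ht, inv_inv]
  calc t * (x⁻¹ * (t * x * t)) * t = t * x⁻¹ * t * x * (t * t) := by group
    _ = t * (x⁻¹ * t) * x := by rw [ht.2.1]; group

theorem psi_fixed {t x : G} (ht : Outer z Q t) (hx : x ∈ Q) : Fixed z Q t (H.psi t x) :=
  ⟨H.psi_mem ht hx, H.psi_inv ht ▸ H.eqv_inv (H.psi_mem ht hx)⟩

variable [Finite G]

/-- The fixed points modulo `z` form a group of order eight, all of which are inverted and are
commutators. -/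
theorem fixed_card {t : G} (ht : Outer z Q t) : Nat.card {x : G // Fixed z Q t x} = 8 ∧
    ∀ x, Fixed z Q t x → ∃ y ∈ Q, Eqv z (H.psi t y) x := by
  classical
  have := Fintype.ofFinite G
  obtain ⟨g, hgC, hg, hgQ, hgt⟩ := H.inverts ht
  let W := Finset.univ.filter (fun x : G => Fixed z Q t x)
  let QS := Finset.univ.filter (fun x : G => x ∈ Q)
  have hQS : QS.card = 32 := by
    rw [← Fintype.card_subtype, ← Nat.card_eq_fintype_card]; exact H.card
  have hmeet : ∀ y, Fixed z Q t y → Fixed z Q t (g * y * g⁻¹) → y = 1 ∨ y = z := by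
    intro y hy hy'
    have h1 := hgt y hy.1
    have h2 : Eqv z (g⁻¹ * y * g) (g * y * g⁻¹) := by
      have h3 := H.eqv_conj (inv_mem hgC) hy.2
      rw [inv_inv] at h3
      exact H.eqv_trans (H.eqv_trans (H.eqv_symm h3) (H.eqv_symm h1)) hy'.2
    have h4 := H.eqv_conj hgC h2
    have h5 : Eqv z ((g * g) * y * (g * g)⁻¹) y := by
      apply H.eqv_symm
      convert h4 using 1 <;> group
    refine H.five_fix (mul_mem hgC hgC) ?_ ?_ hy.1 h5
    · rw [← pow_two, ← pow_mul, mul_comm, pow_mul, hg, one_pow]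
    · rw [← pow_two]; exact H.five_pow hg hgQ (by norm_num)
  -- at most eight
  have hle : W.card ≤ 8 := by
    have h : (W ×ˢ W).card ≤ 2 * QS.card := by
      refine Finset.card_le_mul_card_image_of_maps_to (f := fun p : G × G => p.1 * (g * p.2 * g⁻¹))
        ?_ 2 ?_
      · intro p hp
        simp only [W, Finset.mem_product, Finset.mem_filter, Finset.mem_univ, true_and] at hp
        simp only [QS, Finset.mem_filter, Finset.mem_univ, true_and]
        exact mul_mem hp.1.1 (H.norm g hgC _ hp.2.1)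
      · intro b _
        rcases ((W ×ˢ W).filter (fun p : G × G => p.1 * (g * p.2 * g⁻¹) = b)).eq_empty_or_nonempty
          with he | ⟨⟨a₀, b₀⟩, hne⟩
        · rw [he]; simp
        simp only [W, Finset.mem_filter, Finset.mem_product, Finset.mem_univ, true_and] at hne
        refine le_trans (Finset.card_le_card (t := {(a₀, b₀),
          (a₀ * (g * z * g⁻¹), z * b₀)}) ?_) Finset.card_le_two
        rintro ⟨a, c⟩ hac
        simp only [W, Finset.mem_filter, Finset.mem_product, Finset.mem_univ, true_and] at hac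
        have e : a₀⁻¹ * a = g * (b₀ * c⁻¹) * g⁻¹ := by
          have := hac.2.trans hne.2.symm
          calc a₀⁻¹ * a = a₀⁻¹ * (a * (g * c * g⁻¹)) * (g * c * g⁻¹)⁻¹ := by group
            _ = a₀⁻¹ * (a₀ * (g * b₀ * g⁻¹)) * (g * c * g⁻¹)⁻¹ := by rw [this]
            _ = _ := by group
        have hm := hmeet _ (H.fixed_mul ht hne.1.2 (H.fixed_inv ht hac.1.2))
          (e ▸ H.fixed_mul ht (H.fixed_inv ht hne.1.1) hac.1.1)
        simp only [Finset.mem_insert, Finset.mem_singleton, Prod.mk.injEq]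
        rcases hm with hm | hm <;> rw [hm] at e
        · left
          have hc : c = b₀ := (mul_inv_eq_one.1 hm).symm
          refine ⟨?_, hc⟩
          rw [mul_one, mul_inv_cancel, inv_mul_eq_one] at e
          exact e.symm
        · right
          refine ⟨?_, ?_⟩
          · rw [← e]; group
          · calc c = (b₀ * c⁻¹)⁻¹ * b₀ := by group
              _ = z * b₀ := by rw [hm, H.z_inv]
    rw [Finset.card_product, hQS] at h
    nlinarith
  -- at least eight
  let I := QS.image (H.psi t)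
  have hsub : I ⊆ W := by
    intro a ha
    obtain ⟨y, hy, rfl⟩ := Finset.mem_image.1 ha
    simp only [QS, Finset.mem_filter, Finset.mem_univ, true_and] at hy
    simp only [W, Finset.mem_filter, Finset.mem_univ, true_and]
    exact H.psi_fixed ht hy
  let J := (QS.image fun y => ({H.psi t y, z * H.psi t y} : Finset G))
  have hJ : ∀ b ∈ J, (QS.filter fun y => ({H.psi t y, z * H.psi t y} : Finset G) = b).card ≤ W.card := by
    intro b hb
    obtain ⟨y₀, hy₀, rfl⟩ := Finset.mem_image.1 hb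
    simp only [QS, Finset.mem_filter, Finset.mem_univ, true_and] at hy₀
    refine Finset.card_le_card_of_injOn (fun y => y * y₀⁻¹) ?_ (fun a _ c _ h => mul_right_cancel h)
    intro y hy
    simp only [QS, Finset.coe_filter, Finset.mem_filter, Finset.mem_univ, true_and, Set.mem_setOf_eq] at hy
    simp only [W, Finset.coe_filter, Finset.mem_univ, true_and, Set.mem_setOf_eq]
    refine ⟨mul_mem hy.1 (inv_mem hy₀), ?_⟩
    have heq : Eqv z (H.psi t y) (H.psi t y₀) := by
      have : H.psi t y ∈ ({H.psi t y₀, z * H.psi t y₀} : Finset G) := by rw [← hy.2]; simp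
      simpa [Eqv] using this
    unfold psi at heq
    have h1 := H.eqv_mul_right (t * y₀⁻¹ * t) (H.eqv_mul_left (H.hQC hy.1) heq)
    have e1 : y * (y⁻¹ * (t * y * t)) * (t * y₀⁻¹ * t) = t * (y * y₀⁻¹) * t := by
      calc y * (y⁻¹ * (t * y * t)) * (t * y₀⁻¹ * t) = t * y * (t * t) * y₀⁻¹ * t := by group
        _ = _ := by rw [ht.2.1]; group
    have e2 : y * (y₀⁻¹ * (t * y₀ * t)) * (t * y₀⁻¹ * t) = y * y₀⁻¹ := by
      calc y * (y₀⁻¹ * (t * y₀ * t)) * (t * y₀⁻¹ * t)
          = y * y₀⁻¹ * (t * y₀ * (t * t) * y₀⁻¹ * t) := by group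
        _ = y * y₀⁻¹ * (t * t) := by
          rw [show t * y₀ * (t * t) * y₀⁻¹ * t = t * t by rw [ht.2.1, mul_one, mul_inv_cancel_right, ht.2.1]]
        _ = y * y₀⁻¹ := by rw [ht.2.1, mul_one]
    rwa [e1, e2] at h1
  have h32 : QS.card ≤ W.card * J.card :=
    Finset.card_le_mul_card_image_of_maps_to (fun y hy => Finset.mem_image_of_mem _ hy) _ hJ
  have hpair : ∀ b ∈ J, b.card = 2 ∧ b ⊆ W := by
    intro b hb
    obtain ⟨y, hy, rfl⟩ := Finset.mem_image.1 hb
    simp only [QS, Finset.mem_filter, Finset.mem_univ, true_and] at hy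
    refine ⟨Finset.card_pair fun e => H.z_ne (mul_eq_right.1 e.symm), ?_⟩
    intro a ha
    simp only [W, Finset.mem_filter, Finset.mem_univ, true_and]
    refine H.fixed_eqv ht (H.psi_fixed ht hy) ?_
    simpa [Eqv] using ha
  have hdisj : (J : Set (Finset G)).PairwiseDisjoint id := by
    intro b hb b' hb' hne
    obtain ⟨y, hy, rfl⟩ := Finset.mem_image.1 hb
    obtain ⟨y', hy', rfl⟩ := Finset.mem_image.1 hb'
    simp only [Function.onFun, id_eq, Finset.disjoint_left, Finset.mem_insert, Finset.mem_singleton]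
    intro a ha ha'
    refine hne ?_
    have hab : Eqv z (H.psi t y) (H.psi t y') :=
      H.eqv_trans (H.eqv_symm (show Eqv z a (H.psi t y) from ha)) ha'
    rcases hab with e | e <;> rw [e]
    rw [H.z_mul_z_mul, Finset.pair_comm]
  have hJW : 2 * J.card ≤ W.card := by
    rw [mul_comm, ← smul_eq_mul, ← Finset.sum_const, ← Finset.sum_congr rfl (fun b hb => (hpair b hb).1)]
    have := Finset.card_biUnion hdisj
    simp only [id_eq] at this
    rw [← this]
    exact Finset.card_le_card fun a ha => by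
      obtain ⟨b, hb, hab⟩ := Finset.mem_biUnion.1 ha
      exact (hpair b hb).2 hab
  rw [hQS] at h32
  have h8 : W.card = 8 := by nlinarith
  refine ⟨by rw [Nat.card_eq_fintype_card, Fintype.card_subtype]; exact h8, fun x hx => ?_⟩
  have hJ4 : J.card = 4 := by rw [h8] at h32 hJW; omega
  have hu : (J.biUnion id) = W := by
    refine Finset.eq_of_subset_of_card_le (fun a ha => by
      obtain ⟨b, hb, hab⟩ := Finset.mem_biUnion.1 ha
      exact (hpair b hb).2 hab) ?_
    rw [Finset.card_biUnion hdisj, Finset.sum_congr rfl (fun b (hb : b ∈ J) => show (id b).card = 2 from (hpair b hb).1),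
      Finset.sum_const, hJ4, h8, smul_eq_mul]
  have hxW : x ∈ J.biUnion id := hu ▸ Finset.mem_filter.2 ⟨Finset.mem_univ _, hx⟩
  obtain ⟨b, hb, hxb⟩ := Finset.mem_biUnion.1 hxW
  obtain ⟨y, hy, rfl⟩ := Finset.mem_image.1 hb
  refine ⟨y, (Finset.mem_filter.1 hy).2, H.eqv_symm ?_⟩
  simpa [Eqv] using hxb

theorem fixed_inverted {t x : G} (ht : Outer z Q t) (hx : Fixed z Q t x) : t * x * t = x⁻¹ := by
  obtain ⟨y, hy, h⟩ := (H.fixed_card ht).2 x hx
  rcases h with h | h
  · rw [← h]; exact H.psi_inv ht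
  · have e : x = z * H.psi t y := by rw [h, H.z_mul_z_mul]
    rw [e, mul_inv_rev, H.z_inv, ← mul_assoc t z, H.comm_z ht.1, mul_assoc z t, mul_assoc z,
      H.psi_inv ht, H.comm_zQ (inv_mem (H.psi_mem ht hy))]

theorem fixed_comm {t x y : G} (ht : Outer z Q t) (hx : Fixed z Q t x) (hy : Fixed z Q t y) :
    x * y = y * x := by
  have h := H.fixed_inverted ht (H.fixed_mul ht hx hy)
  have e : t * (x * y) * t = x⁻¹ * y⁻¹ := by
    calc t * (x * y) * t = t * x * (t * t) * y * t := by rw [ht.2.1]; group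
      _ = (t * x * t) * (t * y * t) := by group
      _ = _ := by rw [H.fixed_inverted ht hx, H.fixed_inverted ht hy]
  rw [e, ← mul_inv_rev] at h
  exact (inv_injective h).symm

/-- An element of square `1` or `z` in a coset containing an involution is an involution. -/
theorem sq_one {t x : G} (ht : Outer z Q t) (hx : x ∈ Q) (h : Eqv z (t * x * (t * x)) 1) :
    t * x * (t * x) = 1 := by
  have hW : Fixed z Q t x := by
    refine ⟨hx, H.eqv_trans ?_ (H.eqv_inv hx)⟩
    have h' := H.eqv_mul_right x⁻¹ h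
    rw [one_mul] at h'
    convert h' using 1
    group
  calc t * x * (t * x) = (t * x * t) * x := by group
    _ = 1 := by rw [H.fixed_inverted ht hW, inv_mul_cancel]

theorem coset_inv_iff {t x : G} (ht : Outer z Q t) (hx : x ∈ Q) :
    t * x * (t * x) = 1 ↔ Fixed z Q t x := by
  constructor
  · intro h
    refine ⟨hx, ?_⟩
    have e : t * x * t = x⁻¹ := eq_inv_of_mul_eq_one_left (by rw [← h]; group)
    rw [e]; exact H.eqv_inv hx
  · intro h
    calc t * x * (t * x) = (t * x * t) * x := by group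
      _ = 1 := by rw [H.fixed_inverted ht h, inv_mul_cancel]

theorem coset_outer {t x : G} (ht : Outer z Q t) (hx : Fixed z Q t x) : Outer z Q (t * x) :=
  ⟨mul_mem ht.1 (H.hQC hx.1), (H.coset_inv_iff ht hx.1).2 hx,
    fun h => ht.2.2 (by simpa using mul_mem h (inv_mem hx.1))⟩

theorem coset_mem {t t' : G} (ht : Outer z Q t) (ht' : Outer z Q t')
    (h : H.φ ⟨t', ht'.1⟩ = H.φ ⟨t, ht.1⟩) : ∃ x, Fixed z Q t x ∧ t' = t * x := by
  obtain ⟨x, hx, e⟩ := (H.φ_eq_iff ht'.1 ht.1).1 h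
  exact ⟨x, (H.coset_inv_iff ht hx).1 (e ▸ ht'.2.1), e⟩

end Hyp

end CfsgLib.HJType
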