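import Mathlib

/-!
Finite facts about the alternating group of degree six, on lists of images.
-/

set_option autoImplicit false
set_option maxRecDepth 20000

namespace CfsgLib.HJType.SixCheck

open Equiv

/-- The identity list. -/
def one : List ℕ := [0, 1, 2, 3, 4, 5]

/-- Composition. -/
def mc (a b : List ℕ) : List ℕ := b.map fun i => a.getD i 0

/-- Equality of lists. -/
def eqb (a b : List ℕ) : Bool := a == b

/-- All arrangements of six points. -/
def all6 : List (List ℕ) :=
  (List.range 6).flatMap fun a => ((List.range 6).erase a).flatMap fun b =>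
    (((List.range 6).erase a).erase b).flatMap fun c =>
      ((((List.range 6).erase a).erase b).erase c).flatMap fun d =>
        (((((List.range 6).erase a).erase b).erase c).erase d).flatMap fun e =>
          ((((((List.range 6).erase a).erase b).erase c).erase d).erase e).map fun f => [a, b, c, d, e, f]

/-- A candidate for the involution. -/
def guardZ (Z : List ℕ) : Bool :=
  eqb (mc Z Z) one && !eqb Z one && ((Z.getD 0 0) == 0)

/-- An element of order three. -/
def isThree (H : List ℕ) : Bool := eqb (mc H (mc H H)) one && !eqb H one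

/-- Conjugation by an element of order three. -/
def cj3 (H X : List ℕ) : List ℕ := mc (mc H X) (mc H H)

/-- A candidate for the first element of order three. -/
def guardH (Z H : List ℕ) : Bool :=
  isThree H && ((H.getD 0 0) == 0) && eqb (cj3 H (cj3 H Z)) (mc Z (cj3 H Z))

/-- A candidate for the second element of order three. -/
def guardK (Z K : List ℕ) : Bool :=
  isThree K && !(((cj3 K Z).getD 0 0) == 0) && eqb (mc (cj3 K Z) Z) (mc Z (cj3 K Z)) &&
    eqb (cj3 K (cj3 K Z)) (mc Z (cj3 K Z))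

/-- A square is trivial. -/
def sq1 (X : List ℕ) : Bool := eqb (mc X X) one

/-- The conclusion on the orientation. -/
def orient (Z H K : List ℕ) : Bool :=
  sq1 (mc H (mc Z (cj3 K Z))) || sq1 (mc H (cj3 K Z))

/-- The conclusion on the distinguished point. -/
def point (Z H K : List ℕ) : Bool :=
  !(sq1 (mc H (mc Z (cj3 K Z))) && sq1 (mc K (mc Z (cj3 H Z)))) ||
    ((((cj3 K (cj3 H (cj3 K Z)))).getD 0 0) == 0) ||
    (sq1 (mc (mc H (mc K K)) (mc H (mc K K))) &&
      ((mc (mc H (mc K K)) (mc H (mc K K))).getD ((cj3 K Z).getD 0 0) 0 == (cj3 K Z).getD 0 0) &&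
      !eqb (mc (mc (mc H (mc K K)) (mc H (mc K K))) Z) (mc Z (mc (mc H (mc K K)) (mc H (mc K K)))))

theorem table :
    (all6.filter guardZ).all (fun Z => (all6.filter (guardH Z)).all fun H =>
      (all6.filter (guardK Z)).all fun K => orient Z H K && point Z H K) = true := by
  decide +kernel

/-- The list of images. -/
def code (p : Perm (Fin 6)) : List ℕ := List.ofFn fun i => (p i : ℕ)

theorem code_mem : ∀ p : Perm (Fin 6), code p ∈ all6 := by decide +kernel

theorem code_one : code 1 = one := by decide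

theorem code_length (p : Perm (Fin 6)) : (code p).length = 6 := List.length_ofFn

theorem code_getD (p : Perm (Fin 6)) (i : Fin 6) : (code p).getD i 0 = (p i : ℕ) := by
  rw [List.getD_eq_getElem _ _ (by rw [code_length]; exact i.2)]
  exact List.getElem_ofFn ..

theorem code_mul (p q : Perm (Fin 6)) : code (p * q) = mc (code p) (code q) := by
  refine List.ext_getElem (by rw [code_length, mc, List.length_map, code_length]) fun i h1 h2 => ?_
  have hi : i < 6 := by rwa [code_length] at h1
  simp only [mc, List.getElem_map]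
  rw [show (code q)[i]'(by rw [code_length]; exact hi) = (q ⟨i, hi⟩ : ℕ) from List.getElem_ofFn ..,
    code_getD]
  exact List.getElem_ofFn ..

theorem code_inj : Function.Injective code := fun p q h => by
  refine Equiv.ext fun i => Fin.ext ?_
  exact congrFun (List.ofFn_injective h) i

theorem eqb_code {p q : Perm (Fin 6)} : eqb (code p) (code q) = true ↔ p = q := by
  rw [eqb, beq_iff_eq, code_inj.eq_iff]

theorem inv_three {H : Perm (Fin 6)} (h : H ^ 3 = 1) : H⁻¹ = H * H := by
  refine inv_eq_of_mul_eq_one_right ?_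
  rw [← h, pow_succ', pow_two]

theorem code_cj {H : Perm (Fin 6)} (h : H ^ 3 = 1) (X : Perm (Fin 6)) :
    code (H * X * H⁻¹) = cj3 (code H) (code X) := by
  rw [inv_three h, code_mul, code_mul, code_mul, cj3]

theorem getD_zero (p : Perm (Fin 6)) : ((code p).getD 0 0 == 0) = true ↔ p 0 = 0 := by
  rw [beq_iff_eq, show (code p).getD 0 0 = (p 0 : ℕ) from code_getD p 0]
  exact ⟨fun h => Fin.ext h, fun h => congrArg Fin.val h⟩

/-- The two conclusions for permutations of six points. -/
theorem perm_table {Z H K : Perm (Fin 6)} (hZ : Z * Z = 1) (hZ1 : Z ≠ 1) (hZ0 : Z 0 = 0)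
    (hH : H ^ 3 = 1) (hH1 : H ≠ 1) (hH0 : H 0 = 0)
    (hHU : H * (H * Z * H⁻¹) * H⁻¹ = Z * (H * Z * H⁻¹))
    (hK : K ^ 3 = 1) (hK1 : K ≠ 1) (hK0 : (K * Z * K⁻¹) 0 ≠ 0)
    (hKZ : K * Z * K⁻¹ * Z = Z * (K * Z * K⁻¹))
    (hKU : K * (K * Z * K⁻¹) * K⁻¹ = Z * (K * Z * K⁻¹)) :
    (H * (Z * (K * Z * K⁻¹)) * (H * (Z * (K * Z * K⁻¹))) = 1 ∨
      H * (K * Z * K⁻¹) * (H * (K * Z * K⁻¹)) = 1) ∧
    (H * (Z * (K * Z * K⁻¹)) * (H * (Z * (K * Z * K⁻¹))) = 1 →
      K * (Z * (H * Z * H⁻¹)) * (K * (Z * (H * Z * H⁻¹))) = 1 →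
      (K * H * K * Z * (K * H * K)⁻¹) 0 = 0 ∨
        ((H * K⁻¹) ^ 4 = 1 ∧ ((H * K⁻¹) ^ 2) ((K * Z * K⁻¹) 0) = (K * Z * K⁻¹) 0 ∧
          (H * K⁻¹) ^ 2 * Z ≠ Z * (H * K⁻¹) ^ 2)) := by
  have hone : ∀ {p : Perm (Fin 6)}, sq1 (code p) = true ↔ p * p = 1 := fun {p} => by
    rw [sq1, ← code_mul, ← code_one, eqb_code]
  have g1 : guardZ (code Z) = true := by
    simp only [guardZ, ← code_mul, ← code_one, Bool.and_eq_true, Bool.not_eq_true', getD_zero, eqb_code,
      ← Bool.not_eq_true]
    exact ⟨⟨hZ, hZ1⟩, hZ0⟩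
  have h3 : ∀ {p : Perm (Fin 6)}, p ^ 3 = 1 → p ≠ 1 → isThree (code p) = true := fun {p} hp hp1 => by
    simp only [isThree, ← code_mul, ← code_one, Bool.and_eq_true, Bool.not_eq_true', eqb_code,
      ← Bool.not_eq_true]
    refine ⟨?_, hp1⟩
    rw [← hp, pow_succ', pow_two]
  have g2 : guardH (code Z) (code H) = true := by
    simp only [guardH, ← code_cj hH, ← code_mul, Bool.and_eq_true, getD_zero, eqb_code]
    exact ⟨⟨h3 hH hH1, hH0⟩, hHU⟩
  have g3 : guardK (code Z) (code K) = true := by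
    simp only [guardK, ← code_cj hK, ← code_mul, Bool.and_eq_true, Bool.not_eq_true', getD_zero, eqb_code,
      ← Bool.not_eq_true]
    exact ⟨⟨⟨h3 hK hK1, hK0⟩, hKZ⟩, hKU⟩
  have h := List.all_eq_true.1 (List.all_eq_true.1 (List.all_eq_true.1 table (code Z)
    (List.mem_filter.2 ⟨code_mem Z, g1⟩)) (code H) (List.mem_filter.2 ⟨code_mem H, g2⟩)) (code K)
    (List.mem_filter.2 ⟨code_mem K, g3⟩)
  rw [Bool.and_eq_true] at h
  obtain ⟨h1, h2⟩ := h
  refine ⟨?_, fun a b => ?_⟩
  · simpa only [orient, ← code_cj hK, ← code_mul, Bool.or_eq_true, hone] using h1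
  · have e : (K * H * K * Z * (K * H * K)⁻¹) = K * (H * (K * Z * K⁻¹) * H⁻¹) * K⁻¹ := by group
    rw [e, inv_three hK]
    simp only [point, ← code_cj hK, ← code_cj hH, ← code_mul, Bool.or_eq_true, Bool.and_eq_true,
      Bool.not_eq_true', ← Bool.not_eq_true, hone, eqb_code, getD_zero] at h2
    rcases h2 with (h2 | h2) | ⟨⟨ha, hb⟩, hc⟩
    · exact absurd ⟨a, b⟩ h2
    · exact Or.inl (by rwa [inv_three hK] at h2)
    · refine Or.inr ⟨?_, ?_, ?_⟩
      · rw [show (4 : ℕ) = 2 + 2 from rfl, pow_add, pow_two]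
        exact ha
      · rw [beq_iff_eq, show ∀ p : Perm (Fin 6), (code p).getD 0 0 = (p 0 : ℕ) from fun p => code_getD p 0,
          code_getD] at hb
        rw [pow_two, ← inv_three hK]
        rw [← inv_three hK] at hb
        exact Fin.ext hb
      · rw [pow_two]; exact hc

end CfsgLib.HJType.SixCheck
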