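import Cfsg.Agent.Lib.HJType.Order

/-!
The small case does not occur: a group of Hall–Janko type has order 604800.
-/

set_option autoImplicit false
set_option linter.unusedSectionVars false

namespace CfsgLib.HJType

open Subgroup

variable {G : Type*} [Group G] [Finite G] {z : G} {Q : Subgroup G}

namespace Setting

variable (S : Setting z Q)
include S

theorem z_type_C : Nat.card {x : G // IsConj z x ∧ x ∈ centralizer ({z} : Set G)} = 11 := by
  classical
  have := Fintype.ofFinite G
  have h10 := S.card_sing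
  rw [Nat.card_eq_fintype_card, Fintype.card_subtype] at h10 ⊢
  have e : (Finset.univ.filter fun x => IsConj z x ∧ x ∈ centralizer ({z} : Set G)) =
      insert z (Finset.univ.filter fun x => Sing z Q x) := by
    ext x
    simp only [Finset.mem_filter, Finset.mem_univ, true_and, Finset.mem_insert]
    constructor
    · rintro ⟨hx, hxC⟩
      by_cases hxz : x = z
      · exact Or.inl hxz
      refine Or.inr ⟨S.z_type_mem hxC hx, ?_, ?_, hxz⟩
      · obtain ⟨g, rfl⟩ := isConj_iff.1 hx
        rw [show g * z * g⁻¹ * (g * z * g⁻¹) = g * (z * z) * g⁻¹ by group, S.zz]; group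
      · rintro rfl
        obtain ⟨g, hg⟩ := isConj_iff.1 hx
        exact S.z_ne (by simpa [mul_assoc] using congrArg (fun w => g⁻¹ * w * g) hg)
    · rintro (rfl | hx)
      · exact ⟨IsConj.refl _, S.zC⟩
      · exact ⟨S.sing_conjZ hx, S.hQC hx.1⟩
  rw [e, Finset.card_insert_of_notMem (by
    simp only [Finset.mem_filter, Finset.mem_univ, true_and]; exact fun h => h.2.2.2 rfl), h10]

theorem order_ne : Nat.card G ≠ 51840 := by
  classical
  intro hG
  have := Fintype.ofFinite G
  have : Fact (Nat.Prime 5) := ⟨Nat.prime_five⟩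
  have : Fact (Nat.Prime 2) := ⟨Nat.prime_two⟩
  obtain ⟨s, hsC, hs5, hsQ⟩ := S.exists_five
  have hclass : Nat.card {x : G // IsConj z x} = 27 := by
    have := HJOrder.card_class_mul z
    rw [S.card_C, hG] at this
    omega
  let A := {x : G // IsConj z x ∧ x ∉ centralizer ({z} : Set G)}
  have hA : Fintype.card A = 16 := by
    have h11 := S.z_type_C
    rw [Nat.card_eq_fintype_card, Fintype.card_subtype] at h11 hclass
    rw [Fintype.card_subtype]
    have e := Finset.card_filter_add_card_filter_not
      (s := Finset.univ.filter fun x => IsConj z x) (p := fun x => x ∈ centralizer ({z} : Set G))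
    rw [Finset.filter_filter, Finset.filter_filter, h11, hclass] at e
    omega
  have hcC : ∀ c ∈ centralizer ({z} : Set G), ∀ x, c * x * c⁻¹ ∈ centralizer ({z} : Set G) ↔
      x ∈ centralizer ({z} : Set G) := by
    intro c hc x
    refine ⟨fun h => ?_, fun h => mul_mem (mul_mem hc h) (inv_mem hc)⟩
    have := mul_mem (mul_mem (inv_mem hc) h) hc
    simpa [mul_assoc] using this
  let act : ∀ c : G, c ∈ centralizer ({z} : Set G) → A → A := fun c hc x =>
    ⟨c * x.1 * c⁻¹, x.2.1.trans (isConj_iff.2 ⟨c, rfl⟩), fun h => x.2.2 ((hcC c hc x.1).1 h)⟩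
  have hinj : Function.Injective (act s hsC) := fun a b e =>
    Subtype.ext (mul_left_cancel (mul_right_cancel (congrArg Subtype.val e)))
  let σ := Equiv.ofBijective _ (Finite.injective_iff_bijective.1 hinj)
  have hpow : ∀ (n : ℕ) (u : A), ((σ ^ n) u).1 = s ^ n * u.1 * (s ^ n)⁻¹ := by
    intro n
    induction n with
    | zero => simp
    | succ n ih =>
      intro u
      rw [pow_succ', Equiv.Perm.mul_apply]
      show s * ((σ ^ n) u).1 * s⁻¹ = _
      rw [ih, pow_succ']; group
  obtain ⟨⟨v, hvz, hvC⟩, hfix⟩ := Equiv.Perm.exists_fixed_point_of_prime (p := 5) (n := 1)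
    (by rw [hA]; norm_num) (σ := σ) (by ext u; rw [pow_one, hpow, hs5]; simp)
  have hsv : s * v = v * s := mul_inv_eq_iff_eq_mul.1 (congrArg Subtype.val hfix)
  -- no element of `Q` centralises `v`
  let K := Q ⊓ centralizer ({v} : Set G)
  have hK : Nat.card K = 1 := by
    obtain ⟨k, hk⟩ := IsPGroup.iff_card.1
      ((IsPGroup.of_card (p := 2) (n := 5) (by rw [S.card]; norm_num)).to_le (inf_le_left : K ≤ Q))
    have hzK : z ∉ K := fun h =>
      hvC (mem_centralizer_singleton_iff.2 (mem_centralizer_singleton_iff.1 (mem_inf.1 h).2).symm)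
    have hsq : ∀ x ∈ K, x * x = 1 := fun x hx => (S.sq x (mem_inf.1 hx).1).resolve_right
      fun e => hzK (e ▸ mul_mem hx hx)
    have hle : Nat.card K ≤ 12 := by
      rw [← S.card_sq_one]
      exact Nat.card_le_card_of_injective (fun x : K => (⟨x.1, (mem_inf.1 x.2).1, hsq _ x.2⟩ :
        {x : G // x ∈ Q ∧ x * x = 1})) (fun a b e => Subtype.ext (congrArg (fun y => y.1) e))
    let f : ↥K → ↥K := fun x => ⟨s * x.1 * s⁻¹, mem_inf.2 ⟨S.norm s hsC _ (mem_inf.1 x.2).1,
      mem_centralizer_singleton_iff.2 (by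
        rw [show v = s * v * s⁻¹ by rw [hsv, mul_inv_cancel_right]]
        exact (conj_commute_iff s _ _).2 (mem_centralizer_singleton_iff.1 (mem_inf.1 x.2).2))⟩⟩
    have hfinj : Function.Injective f := fun a b e =>
      Subtype.ext (mul_left_cancel (mul_right_cancel (congrArg Subtype.val e)))
    let τ : Equiv.Perm ↥K := Equiv.ofBijective f (Finite.injective_iff_bijective.1 hfinj)
    have hτ : ∀ (n : ℕ) (u : ↥K), ((τ ^ n) u : G) = s ^ n * u.1 * (s ^ n)⁻¹ := by
      intro n
      induction n with
      | zero => simp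
      | succ n ih =>
        intro u
        rw [pow_succ', Equiv.Perm.mul_apply]
        show s * ((τ ^ n) u : G) * s⁻¹ = _
        rw [ih, pow_succ']; group
    have hmod : Fintype.card {x : ↥K // ¬ x = 1} % 5 = 0 := by
      by_contra hnd
      have hstab : ∀ x : ↥K, ¬ τ x = 1 ↔ ¬ x = 1 := fun x => not_congr
        ⟨fun e => hfinj (e.trans (Subtype.ext (show (1 : G) = s * 1 * s⁻¹ by group))),
          fun e => Subtype.ext (show s * (x : G) * s⁻¹ = 1 by rw [e]; simp)⟩
      obtain ⟨y, hy⟩ := Equiv.Perm.exists_fixed_point_of_prime (p := 5) (n := 1)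
        (fun h => hnd (Nat.mod_eq_zero_of_dvd h)) (σ := τ.subtypePerm hstab) (by
        ext y
        simp only [pow_one, Equiv.Perm.subtypePerm_pow, Equiv.Perm.subtypePerm_apply,
          Equiv.Perm.one_apply]
        rw [hτ, hs5]; simp)
      rcases S.five_fix hsC hs5 hsQ (mem_inf.1 y.1.2).1
        (Or.inl (congrArg (fun w => ((w.1 : ↥K) : G)) hy)) with h | h
      · exact y.2 (Subtype.ext h)
      · exact hzK (h ▸ y.1.2)
    rw [Fintype.card_subtype_compl, Fintype.card_subtype_eq, ← Nat.card_eq_fintype_card, hk] at hmod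
    rw [hk] at hle ⊢
    have : k < 4 := by
      by_contra h
      have := Nat.pow_le_pow_right (show 1 ≤ 2 by norm_num) (show 4 ≤ k by omega)
      omega
    interval_cases k <;> omega
  have h32 : Nat.card Q ≤ Nat.card A := by
    refine Nat.card_le_card_of_injective (fun q : Q => act q.1 (S.hQC q.2) ⟨v, hvz, hvC⟩) ?_
    intro a b e
    have e' : (a : G) * v * (a : G)⁻¹ = b * v * (b : G)⁻¹ := congrArg Subtype.val e
    have hm : (b : G)⁻¹ * a ∈ K := mem_inf.2 ⟨mul_mem (inv_mem b.2) a.2,
      mem_centralizer_singleton_iff.2 (by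
        calc (b : G)⁻¹ * a * v = (b : G)⁻¹ * ((a : G) * v * (a : G)⁻¹) * a := by group
          _ = v * ((b : G)⁻¹ * a) := by rw [e']; group)⟩
    rw [Subgroup.card_eq_one.1 hK, mem_bot] at hm
    exact Subtype.ext (inv_mul_eq_one.1 hm).symm
  rw [S.card, Nat.card_eq_fintype_card, hA] at h32
  omega

theorem order_eq : Nat.card G = 604800 := by
  obtain ⟨t, ht, -⟩ := S.exists_outer
  obtain ⟨h, B, D⟩ := S.exists_tdata ht
  rcases D.alt with ⟨⟨e⟩⟩ | h12
  · exact D.order_of_equiv e
  · exact absurd (D.order_twelve h12) S.order_ne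

end Setting

theorem TData.equiv {S : Setting z Q} {t h : G} {B : Subgroup G} (D : TData S t h B) :
    Nonempty (↥B ≃* A5) :=
  D.alt.resolve_right fun h12 => S.order_ne (D.order_twelve h12)

end CfsgLib.HJType
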