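import Cfsg.Agent.Lib.HJType.Global
import Cfsg.Agent.Lib.HJOrder.Main

/-!
The elementary abelian group of order sixteen centralising an outer involution, and an element of
order three acting on it.
-/

set_option autoImplicit false
set_option linter.unusedSectionVars false

namespace CfsgLib.HJType

open Subgroup

variable {G : Type*} [Group G] [Finite G] {z : G} {Q : Subgroup G}

theorem conj_commute_iff (g a b : G) :
    g * a * g⁻¹ * (g * b * g⁻¹) = g * b * g⁻¹ * (g * a * g⁻¹) ↔ a * b = b * a :=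
  HJOrder.conj_comm g a b

theorem third_point {α : Type*} {p q r s x y : α} (hs : s = p ∨ s = q ∨ s = r)
    (hx : x = p ∨ x = q ∨ x = r) (hy : y = p ∨ y = q ∨ y = r) (hsp : s ≠ p)
    (hxp : x ≠ p) (hxs : x ≠ s) (hyp : y ≠ p) (hys : y ≠ s) : x = y := by
  rcases hs with rfl | rfl | rfl
  · exact absurd rfl hsp
  · rw [(hx.resolve_left hxp).resolve_left hxs, (hy.resolve_left hyp).resolve_left hys]
  · rw [((hx.resolve_left hxp).resolve_right hxs), ((hy.resolve_left hyp).resolve_right hys)]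

namespace Hyp

variable (H : Hyp z Q)
include H

theorem self_mem {t : G} (ht : Outer z Q t) : t ∈ H.eGroup t := H.mem_eGroup.2 ⟨ht.1, rfl⟩

theorem z_mem {t : G} (ht : Outer z Q t) : z ∈ H.eGroup t :=
  H.mem_eGroup.2 ⟨H.zC, (H.comm_z ht.1).symm⟩

/-- An outer member of `E` gives the same group. -/
theorem eGroup_eq {t j : G} (ht : Outer z Q t) (hj : Outer z Q j) (hjt : j ∈ H.eGroup t) :
    H.eGroup j = H.eGroup t := by
  refine (Subgroup.eq_of_le_of_card_ge (fun x hx => H.mem_eGroup.2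
    ⟨(H.mem_eGroup.1 hx).1, H.eGroup_comm ht hx hjt⟩) ?_).symm
  rw [H.eGroup_card ht, H.eGroup_card hj]

/-- The singular elements centralised by an outer involution. -/
theorem eGroup_inf {t : G} (ht : Outer z Q t) :
    Nat.card ↥(H.eGroup t ⊓ Q) = 4 ∧
      ∃ w, Sing z Q w ∧ w * t = t * w ∧
        ∀ x, x ∈ H.eGroup t ⊓ Q ↔ x = 1 ∨ x = z ∨ x = w ∨ x = z * w := by
  obtain ⟨⟨w, hw, hwt, huniq⟩, hcard, -⟩ := H.outer_sing ht
  refine ⟨?_, w, hw, (H.comm_iff ht).2 hwt, fun x => ?_⟩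
  · rw [← hcard]
    exact Nat.card_congr (Equiv.subtypeEquivRight fun x => by
      rw [mem_inf, H.mem_eGroup, H.comm_iff ht]
      exact ⟨fun h => ⟨h.2, h.1.2⟩, fun h => ⟨⟨H.hQC h.1, h.2⟩, h.1⟩⟩)
  constructor
  · intro hx
    rw [mem_inf, H.mem_eGroup] at hx
    have hfx : Fixed z Q t x := ⟨hx.2, Or.inl ((H.comm_iff ht).1 hx.1.2)⟩
    rcases huniq x hfx ((H.fixed_sq ht hfx).2 ((H.comm_iff ht).1 hx.1.2)) with (h | h) | (h | h)
    · exact Or.inl h
    · exact Or.inr (Or.inl (by rw [h, mul_one]))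
    · exact Or.inr (Or.inr (Or.inl h))
    · exact Or.inr (Or.inr (Or.inr h))
  · have hwE : w ∈ H.eGroup t ⊓ Q :=
      mem_inf.2 ⟨H.mem_eGroup.2 ⟨H.hQC hw.1, (H.comm_iff ht).2 hwt⟩, hw.1⟩
    have hzE : z ∈ H.eGroup t ⊓ Q := mem_inf.2 ⟨H.z_mem ht, H.hzQ⟩
    rintro (rfl | rfl | rfl | rfl)
    · exact one_mem _
    · exact hzE
    · exact hwE
    · exact mul_mem hzE hwE

theorem outer_part_card {t : G} (ht : Outer z Q t) :
    Nat.card {x : G // x ∈ H.eGroup t ∧ x ∉ Q} = 12 := by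
  classical
  have := Fintype.ofFinite G
  have e : (Finset.univ.filter fun x => x ∈ H.eGroup t ∧ x ∉ Q) =
      (Finset.univ.filter fun x => x ∈ H.eGroup t) \ (Finset.univ.filter fun x => x ∈ H.eGroup t ⊓ Q) := by
    ext x
    simp only [Finset.mem_filter, Finset.mem_univ, true_and, Finset.mem_sdiff, mem_inf]
    tauto
  rw [Nat.card_eq_fintype_card, Fintype.card_subtype, e, Finset.card_sdiff_of_subset (by
    intro x hx
    simp only [Finset.mem_filter, Finset.mem_univ, true_and, mem_inf] at hx ⊢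
    exact hx.1)]
  have h1 := H.eGroup_card ht
  have h2 := (H.eGroup_inf ht).1
  rw [Nat.card_eq_fintype_card, Fintype.card_subtype] at h1 h2
  rw [h1, h2]

theorem card_outer {t : G} (ht : Outer z Q t) : Nat.card {x : G // Outer z Q x} = 120 := by
  let a : ↥(centralizer ({z} : Set G)) := ⟨t, ht.1⟩
  have h := HJOrder.card_class_mul a
  have e1 : Nat.card {x : ↥(centralizer ({z} : Set G)) // IsConj a x} =
      Nat.card {x : G // Outer z Q x} := by
    refine Nat.card_congr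
      { toFun := fun x => ⟨x.1.1, ?_⟩
        invFun := fun x => ⟨⟨x.1, x.2.1⟩, ?_⟩ }
    · obtain ⟨c, hc⟩ := isConj_iff.1 x.2
      rw [← hc]
      exact H.outer_conj c.2 ht
    · obtain ⟨c, hc, e⟩ := H.outer_trans ht x.2
      exact isConj_iff.2 ⟨⟨c, hc⟩, Subtype.ext e⟩
  have e2 : Nat.card (centralizer ({a} : Set ↥(centralizer ({z} : Set G)))) = 16 := by
    rw [← H.eGroup_card ht]
    exact Nat.card_congr
      { toFun := fun x => ⟨x.1.1, H.mem_eGroup.2 ⟨x.1.2,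
          congrArg Subtype.val (mem_centralizer_singleton_iff.1 x.2)⟩⟩
        invFun := fun x => ⟨⟨x.1, (H.mem_eGroup.1 x.2).1⟩,
          mem_centralizer_singleton_iff.2 (Subtype.ext (H.mem_eGroup.1 x.2).2)⟩ }
  rw [e1, e2, H.card_C] at h
  omega

/-- Twenty-four outer involutions centralise a singular element. -/
theorem card_outer_comm {t w : G} (ht : Outer z Q t) (hw : Sing z Q w) :
    Nat.card {j : G // Outer z Q j ∧ w * j = j * w} = 24 := by
  classical
  have := Fintype.ofFinite G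
  let O := {j : G // Outer z Q j}
  let P := {p : G // Sing z Q p}
  have hp : ∀ p : P, Nat.card {j : O // p.1 * j.1 = j.1 * p.1} =
      Nat.card {j : G // Outer z Q j ∧ w * j = j * w} := by
    intro p
    obtain ⟨c, hc, e⟩ := H.sing_trans p.2 hw
    refine Nat.card_congr
      { toFun := fun j => ⟨c * j.1.1 * c⁻¹, H.outer_conj hc j.1.2, ?_⟩
        invFun := fun j => ⟨⟨c⁻¹ * j.1 * c, ?_⟩, ?_⟩
        left_inv := fun j => by ext; simp [mul_assoc]
        right_inv := fun j => by ext; simp [mul_assoc] }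
    · rw [← e]; exact (conj_commute_iff c _ _).2 j.2
    · simpa using H.outer_conj (inv_mem hc) j.2.1
    · refine (conj_commute_iff c _ _).1 ?_
      rw [e, show c * (c⁻¹ * j.1 * c) * c⁻¹ = j.1 by group]
      exact j.2.2
  have hj : ∀ j : O, Nat.card {p : P // p.1 * j.1 = j.1 * p.1} = 2 := by
    intro j
    obtain ⟨-, v, hv, hvj, hiff⟩ := H.eGroup_inf j.2
    have hne : v ≠ z * v := fun h => H.z_ne (right_eq_mul.1 h)
    have e : Nat.card {p : P // p.1 * j.1 = j.1 * p.1} = ({v, z * v} : Finset G).card := by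
      rw [← Fintype.card_coe, ← Nat.card_eq_fintype_card]
      refine Nat.card_congr
        { toFun := fun p => ⟨p.1.1, ?_⟩
          invFun := fun p => ⟨⟨p.1, ?_⟩, ?_⟩ }
      · simp only [Finset.mem_insert, Finset.mem_singleton]
        rcases (hiff p.1.1).1 (mem_inf.2 ⟨H.mem_eGroup.2 ⟨H.hQC p.1.2.1, p.2⟩, p.1.2.1⟩) with
          h | h | h | h
        · exact absurd h p.1.2.2.2.1
        · exact absurd h p.1.2.2.2.2
        · exact Or.inl h
        · exact Or.inr h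
      · have hp := p.2
        simp only [Finset.mem_insert, Finset.mem_singleton] at hp
        rcases hp with h | h
        · rw [h]; exact hv
        · rw [h]; exact H.sing_zmul hv
      · have hp := p.2
        simp only [Finset.mem_insert, Finset.mem_singleton] at hp
        have hm := (mem_inf.1 ((hiff p.1).2 (Or.inr (Or.inr hp)))).1
        exact (H.mem_eGroup.1 hm).2
    rw [e, Finset.card_pair hne]
  have h1 : Nat.card ((j : O) × {p : P // p.1 * j.1 = j.1 * p.1}) =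
      Nat.card ((p : P) × {j : O // p.1 * j.1 = j.1 * p.1}) :=
    Nat.card_congr
      { toFun := fun x => ⟨x.2.1, x.1, x.2.2⟩
        invFun := fun x => ⟨x.2.1, x.1, x.2.2⟩ }
  rw [Nat.card_sigma, Nat.card_sigma, Finset.sum_congr rfl fun j _ => hj j,
    Finset.sum_congr rfl fun p _ => hp p, Finset.sum_const, Finset.sum_const, Finset.card_univ,
    Finset.card_univ, ← Nat.card_eq_fintype_card, ← Nat.card_eq_fintype_card, smul_eq_mul,
    smul_eq_mul, show Nat.card O = 120 from H.card_outer ht, show Nat.card P = 10 from H.card_sing] at h1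
  omega

end Hyp

namespace Setting

variable (S : Setting z Q)
include S

theorem stab {t u : G} (ht : Outer z Q t) (hu : u ∈ S.eGroup t) (huz : IsConj z u) {x : G} :
    x ∈ S.eGroup t ↔ x * u = u * x ∧ x * t = t * x := by
  have hut : u * t = t * u := (S.mem_eGroup.1 hu).2
  have hle : S.eGroup t ≤ centralizer ({u} : Set G) ⊓ centralizer ({t} : Set G) := fun y hy =>
    mem_inf.2 ⟨mem_centralizer_singleton_iff.2 (S.eGroup_comm ht hy hu),
      mem_centralizer_singleton_iff.2 (S.mem_eGroup.1 hy).2⟩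
  have heq := Subgroup.eq_of_le_of_card_ge hle
    (by rw [(S.pair ht huz (IsConj.refl t) hut).1, S.eGroup_card ht])
  rw [heq, mem_inf, mem_centralizer_singleton_iff, mem_centralizer_singleton_iff]

/-- An element permuting `z`, `w`, `z w` cyclically. -/
theorem exists_cycle {w : G} (hw : Sing z Q w) :
    ∃ g, g * z * g⁻¹ = w ∧ g * w * g⁻¹ = z * w ∧ g * (z * w) * g⁻¹ = z := by
  obtain ⟨y, hy, e⟩ := S.exists_swap hw.1 hw.2.2.1 hw.2.2.2
  obtain ⟨g, hg⟩ := isConj_iff.1 (S.sing_conjZ hw).symm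
  have hwz : w * z = z * w := S.comm_zQ hw.1
  have hz' : IsConj z (g * z * g⁻¹) := isConj_iff.2 ⟨g, rfl⟩
  have hzC : g * z * g⁻¹ ∈ centralizer ({z} : Set G) :=
    mem_centralizer_singleton_iff.2 (by
      have := (conj_commute_iff g z w).2 hwz.symm
      rwa [hg] at this)
  have hzQ : g * z * g⁻¹ ∈ Q := S.z_type_mem hzC hz'
  obtain ⟨q, hq, e'⟩ := S.exists_swap hzQ
    (fun h => S.z_ne (by simpa [mul_assoc] using congrArg (fun x => g⁻¹ * x * g) h))
    (fun h => hw.2.2.2 (by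
      calc w = g⁻¹ * (g * w * g⁻¹) * g := by group
        _ = g⁻¹ * (g * z * g⁻¹) * g := by rw [hg, h]
        _ = z := by group))
  set y' := g⁻¹ * q * g
  have a1 : y' * z * y'⁻¹ = z * w := by
    calc y' * z * y'⁻¹ = g⁻¹ * (q * (g * z * g⁻¹) * q⁻¹) * g := by simp only [y']; group
      _ = g⁻¹ * z * g * z := by rw [e']; group
      _ = g⁻¹ * (g * w * g⁻¹) * g * z := by rw [hg]
      _ = z * w := by rw [← hwz]; group
  have a2 : y' * w * y'⁻¹ = w := by
    calc y' * w * y'⁻¹ = g⁻¹ * (q * (g * w * g⁻¹)) * q⁻¹ * g := by simp only [y']; group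
      _ = g⁻¹ * (z * q) * q⁻¹ * g := by rw [hg, S.comm_zQ hq]
      _ = g⁻¹ * (g * w * g⁻¹) * g := by rw [hg]; group
      _ = w := by group
  have a3 : y * z * y⁻¹ = z := by rw [S.comm_zQ hy, mul_inv_cancel_right]
  have a4 : y * (z * w) * y⁻¹ = w := by
    calc y * (z * w) * y⁻¹ = (y * z * y⁻¹) * (y * w * y⁻¹) := by group
      _ = w := by rw [a3, e, S.z_mul_z_mul]
  have hc : ∀ x, y * y' * x * (y * y')⁻¹ = y * (y' * x * y'⁻¹) * y⁻¹ := fun x => by group
  refine ⟨y * y', by rw [hc, a1, a4], by rw [hc, a2, e], ?_⟩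
  have a5 : y' * (z * w) * y'⁻¹ = z := by
    calc y' * (z * w) * y'⁻¹ = (y' * z * y'⁻¹) * (y' * w * y'⁻¹) := by group
      _ = z := by rw [a1, a2, mul_assoc, hw.2.1, mul_one]
  rw [hc, a5, a3]

theorem sing_mem_eGroup {j w : G} (hw : Sing z Q w) (h : w * j = j * w) : w ∈ S.eGroup j :=
  S.mem_eGroup.2 ⟨S.hQC hw.1, h⟩

theorem three_members {w : G} (hw : Sing z Q w) {a b c : G} (ha : Outer z Q a) (hb : Outer z Q b)
    (hc : Outer z Q c) (hwa : w * a = a * w) (hwb : w * b = b * w) (hwc : w * c = c * w) :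
    b ∈ S.eGroup a ∨ c ∈ S.eGroup a ∨ c ∈ S.eGroup b := by
  classical
  have := Fintype.ofFinite G
  by_contra hcon
  push Not at hcon
  obtain ⟨hab, hac, hbc⟩ := hcon
  let A := fun j => Finset.univ.filter fun x => x ∈ S.eGroup j ∧ x ∉ Q
  have hA : ∀ j, Outer z Q j → (A j).card = 12 := fun j hj => by
    rw [← Fintype.card_subtype, ← Nat.card_eq_fintype_card]; exact S.outer_part_card hj
  have hsub : ∀ j, Outer z Q j → w * j = j * w → A j ⊆ Finset.univ.filter fun x =>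
      Outer z Q x ∧ w * x = x * w := by
    intro j hj hwj x hx
    simp only [A, Finset.mem_filter, Finset.mem_univ, true_and] at hx ⊢
    exact ⟨⟨(S.mem_eGroup.1 hx.1).1, S.eGroup_sq hj hx.1, hx.2⟩,
      S.eGroup_comm hj (S.sing_mem_eGroup hw hwj) hx.1⟩
  have hdis : ∀ i j, Outer z Q i → Outer z Q j → j ∉ S.eGroup i → Disjoint (A i) (A j) := by
    intro i j hi hj hij
    rw [Finset.disjoint_left]
    intro x hx hx'
    simp only [A, Finset.mem_filter, Finset.mem_univ, true_and] at hx hx'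
    have hxo : Outer z Q x := ⟨(S.mem_eGroup.1 hx.1).1, S.eGroup_sq hi hx.1, hx.2⟩
    refine hij ?_
    rw [← S.eGroup_eq hi hxo hx.1, S.eGroup_eq hj hxo hx'.1]
    exact S.self_mem hj
  have hU : (A a ∪ A b ∪ A c).card = 36 := by
    rw [Finset.card_union_of_disjoint (Finset.disjoint_union_left.2
      ⟨hdis a c ha hc hac, hdis b c hb hc hbc⟩),
      Finset.card_union_of_disjoint (hdis a b ha hb hab), hA a ha, hA b hb, hA c hc]
  have hle := Finset.card_le_card (Finset.union_subset (Finset.union_subset (hsub a ha hwa)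
    (hsub b hb hwb)) (hsub c hc hwc))
  rw [hU, ← Fintype.card_subtype, ← Nat.card_eq_fintype_card, S.card_outer_comm ha hw] at hle
  omega

theorem exists_three {t : G} (ht : Outer z Q t) :
    ∃ h : G, h ^ 3 = 1 ∧ h * t = t * h ∧ h * z * h⁻¹ ≠ z ∧
      ∀ x, x ∈ S.eGroup t → h * x * h⁻¹ ∈ S.eGroup t := by
  obtain ⟨-, w, hw, hwt, hiff⟩ := S.eGroup_inf ht
  obtain ⟨g, g1, g2, g3⟩ := S.exists_cycle hw
  have hzw : IsConj z (z * w) := S.sing_conjZ (S.sing_zmul hw)
  have shift : ∀ j, Outer z Q j → w * j = j * w →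
      (Outer z Q (g * j * g⁻¹) ∧ w * (g * j * g⁻¹) = g * j * g⁻¹ * w) ∧
      ∀ x, g * x * g⁻¹ ∈ S.eGroup (g * j * g⁻¹) ↔ x ∈ S.eGroup j := by
    intro j hj hwj
    have hzwj : z * w * j = j * (z * w) := by
      rw [mul_assoc, hwj, ← mul_assoc, ← mul_assoc, S.comm_z hj.1]
    have hC : g * j * g⁻¹ ∈ centralizer ({z} : Set G) := mem_centralizer_singleton_iff.2 (by
      have := (conj_commute_iff g j (z * w)).2 hzwj.symm
      rwa [g3] at this)
    have hwn : w * (g * j * g⁻¹) = g * j * g⁻¹ * w := by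
      rw [← g1]
      exact (conj_commute_iff g z j).2 (S.comm_z hj.1).symm
    refine ⟨⟨S.t_type_outer hj hC (isConj_iff.2 ⟨g, rfl⟩), hwn⟩, fun x => ?_⟩
    have hzwE : z * w ∈ S.eGroup j := mul_mem (S.z_mem hj) (S.sing_mem_eGroup hw hwj)
    rw [S.mem_eGroup, mem_centralizer_singleton_iff, S.stab hj hzwE hzw]
    nth_rw 1 2 [← g3]
    rw [conj_commute_iff, conj_commute_iff]
  obtain ⟨⟨ho1, hw1⟩, sh1⟩ := shift t ht hwt
  obtain ⟨⟨ho2, hw2⟩, sh2⟩ := shift _ ho1 hw1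
  set j1 := g * t * g⁻¹ with hj1
  set j2 := g * j1 * g⁻¹ with hj2
  have hE2 : j2 ∈ S.eGroup t := by
    have back : j1 ∈ S.eGroup t → j2 ∈ S.eGroup j1 := fun h => (sh1 j1).2 h
    rcases S.three_members hw ht ho1 ho2 hwt hw1 hw2 with h | h | h
    · have := back h
      rwa [S.eGroup_eq ht ho1 h] at this
    · exact h
    · have h1 : j1 ∈ S.eGroup t := (sh1 j1).1 h
      rw [S.eGroup_eq ht ho1 h1] at h
      exact h
  obtain ⟨c, hc, hct⟩ := S.outer_trans ho2 ht
  set h₀ := c * (g * g)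
  have hh₀ : ∀ x, h₀ * x * h₀⁻¹ = c * (g * (g * x * g⁻¹) * g⁻¹) * c⁻¹ := fun x => by
    simp only [h₀]; group
  have hfix : h₀ * t = t * h₀ := mul_inv_eq_iff_eq_mul.1 (by rw [hh₀, ← hj1, ← hj2, hct])
  have hnorm : ∀ x, x ∈ S.eGroup t → h₀ * x * h₀⁻¹ ∈ S.eGroup t := by
    intro x hx
    have h2 : g * (g * x * g⁻¹) * g⁻¹ ∈ S.eGroup j2 := (sh2 _).2 ((sh1 x).2 hx)
    rw [hh₀, S.mem_eGroup]
    refine ⟨mul_mem (mul_mem hc (S.mem_eGroup.1 h2).1) (inv_mem hc), ?_⟩
    rw [← hct]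
    exact (conj_commute_iff c _ _).2 (S.mem_eGroup.1 h2).2
  have hmove : h₀ * z * h₀⁻¹ ≠ z := by
    rw [hh₀, g1, g2]
    intro h
    refine hw.2.2.1 ?_
    have : c * (z * w) * c⁻¹ = c * z * c⁻¹ := by rw [h, S.comm_z hc, mul_inv_cancel_right]
    exact mul_eq_left.1 (mul_left_cancel (mul_right_cancel this))
  -- conjugates of `z` inside `E`
  have htype : ∀ x, x ∈ S.eGroup t → IsConj z x → x = z ∨ x = w ∨ x = z * w := by
    intro x hx hxz
    refine ((hiff x).1 (mem_inf.2 ⟨hx, S.z_type_mem (S.mem_eGroup.1 hx).1 hxz⟩)).resolve_left ?_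
    rintro rfl
    obtain ⟨g, hg⟩ := isConj_iff.1 hxz
    exact S.z_ne (by simpa [mul_assoc] using congrArg (fun u => g⁻¹ * u * g) hg)
  -- the stabiliser of a conjugate of `z` centralises `z`
  have hst : ∀ u, u ∈ S.eGroup t → IsConj z u → ∀ k, k * t = t * k → k * u = u * k →
      k * z = z * k := fun u hu huz k hkt hku =>
    S.comm_z (S.mem_eGroup.1 ((S.stab ht hu huz).2 ⟨hku, hkt⟩)).1
  set b := h₀ * z * h₀⁻¹ with hb
  set d := h₀ * b * h₀⁻¹ with hd
  have hbE := hnorm z (S.z_mem ht)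
  have hbz : IsConj z b := isConj_iff.2 ⟨h₀, rfl⟩
  have hdE := hnorm b hbE
  have hdz : IsConj z d := hbz.trans (isConj_iff.2 ⟨h₀, rfl⟩)
  have hinj : ∀ x y, h₀ * x * h₀⁻¹ = h₀ * y * h₀⁻¹ → x = y := fun x y h =>
    mul_left_cancel (mul_right_cancel h)
  have hnofix : ∀ u, u ∈ S.eGroup t → IsConj z u → h₀ * u * h₀⁻¹ ≠ u := fun u hu huz h =>
    hmove (by
      show h₀ * z * h₀⁻¹ = z
      rw [hst u hu huz h₀ hfix (mul_inv_eq_iff_eq_mul.1 h), mul_inv_cancel_right])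
  have hdb : d ≠ b := hnofix b hbE hbz
  have hdz' : d ≠ z := by
    intro hdeq
    -- the third point would be fixed
    obtain ⟨u, huE, huz, hu1, hu2⟩ : ∃ u, u ∈ S.eGroup t ∧ IsConj z u ∧ u ≠ z ∧ u ≠ b := by
      rcases htype b hbE hbz with h | h | h
      · exact absurd h hmove
      · exact ⟨z * w, mul_mem (S.z_mem ht) (S.sing_mem_eGroup hw hwt), hzw,
          fun e => hw.2.2.1 (mul_eq_left.1 e), fun e => S.z_ne (mul_eq_right.1 (e.trans h))⟩
      · exact ⟨w, S.sing_mem_eGroup hw hwt, S.sing_conjZ hw, hw.2.2.2,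
          fun e => S.z_ne (mul_eq_right.1 (e.trans h).symm)⟩
    refine hnofix u huE huz ?_
    have hvE := hnorm u huE
    have hvz : IsConj z (h₀ * u * h₀⁻¹) := huz.trans (isConj_iff.2 ⟨h₀, rfl⟩)
    have v1 : h₀ * u * h₀⁻¹ ≠ b := fun e => hu1 (hinj u z e)
    have v2 : h₀ * u * h₀⁻¹ ≠ z := fun e => hu2 (hinj u b (e.trans hdeq.symm))
    exact third_point (htype b hbE hbz) (htype _ hvE hvz) (htype u huE huz) hmove v2 v1 hu1 hu2
  have hlast : h₀ * d * h₀⁻¹ = z := by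
    have hvE := hnorm d hdE
    have hvz : IsConj z (h₀ * d * h₀⁻¹) := hdz.trans (isConj_iff.2 ⟨h₀, rfl⟩)
    have v1 : h₀ * d * h₀⁻¹ ≠ b := fun e => hdz' (hinj d z e)
    have v2 : h₀ * d * h₀⁻¹ ≠ d := hnofix d hdE hdz
    by_contra v3
    exact v2 (third_point (htype b hbE hbz) (htype _ hvE hvz) (htype d hdE hdz) hmove v3 v1 hdz' hdb)
  have h3 : h₀ ^ 3 * z * (h₀ ^ 3)⁻¹ = z := by
    calc h₀ ^ 3 * z * (h₀ ^ 3)⁻¹ = h₀ * (h₀ * (h₀ * z * h₀⁻¹) * h₀⁻¹) * h₀⁻¹ := by
          simp only [pow_succ, pow_zero, one_mul, mul_inv_rev, mul_assoc]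
      _ = z := by rw [← hb, ← hd, hlast]
  have h3E : h₀ ^ 3 ∈ S.eGroup t :=
    (S.stab ht (S.z_mem ht) (IsConj.refl z)).2
      ⟨mul_inv_eq_iff_eq_mul.1 h3, (Commute.pow_left (show Commute h₀ t from hfix) 3).eq⟩
  refine ⟨h₀ ^ 4, ?_, (Commute.pow_left (show Commute h₀ t from hfix) 4).eq, ?_, ?_⟩
  · calc (h₀ ^ 4) ^ 3 = (h₀ ^ 3 * h₀ ^ 3) * (h₀ ^ 3 * h₀ ^ 3) := by
          simp only [← pow_mul, ← pow_add]
      _ = 1 := by rw [S.eGroup_sq ht h3E, one_mul]
  · have : h₀ ^ 4 * z * (h₀ ^ 4)⁻¹ = b := by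
      rw [pow_succ' h₀ 3, hb]
      calc h₀ * h₀ ^ 3 * z * (h₀ * h₀ ^ 3)⁻¹ = h₀ * (h₀ ^ 3 * z * (h₀ ^ 3)⁻¹) * h₀⁻¹ := by group
        _ = _ := by rw [h3]
    rw [this]
    exact hmove
  · intro x hx
    rw [pow_succ' h₀ 3, show h₀ * h₀ ^ 3 * x * (h₀ * h₀ ^ 3)⁻¹ =
      h₀ * (h₀ ^ 3 * x * (h₀ ^ 3)⁻¹) * h₀⁻¹ by group, S.eGroup_comm ht h3E hx, mul_inv_cancel_right]
    exact hnorm x hx

/-- The order three element fixes a complement to `E ⊓ Q`. -/
theorem fixed_part {t h : G} (ht : Outer z Q t) (h3 : h ^ 3 = 1) (hht : h * t = t * h)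
    (hz : h * z * h⁻¹ ≠ z) (hn : ∀ x, x ∈ S.eGroup t → h * x * h⁻¹ ∈ S.eGroup t) :
    Nat.card ↥(S.eGroup t ⊓ centralizer ({h} : Set G)) = 4 ∧
    (S.eGroup t ⊓ centralizer ({h} : Set G)) ⊓ (S.eGroup t ⊓ Q) = ⊥ ∧
    (S.eGroup t ⊓ centralizer ({h} : Set G)) ⊔ (S.eGroup t ⊓ Q) = S.eGroup t ∧
    t ∈ S.eGroup t ⊓ centralizer ({h} : Set G) := by
  classical
  have := Fintype.ofFinite G
  have : Fact (Nat.Prime 3) := ⟨Nat.prime_three⟩
  set E := S.eGroup t with hE
  set V := E ⊓ centralizer ({h} : Set G) with hV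
  have htV : t ∈ V := mem_inf.2 ⟨S.self_mem ht, mem_centralizer_singleton_iff.2 hht.symm⟩
  have hdis : V ⊓ (E ⊓ Q) = ⊥ := by
    rw [eq_bot_iff]
    intro x hx
    obtain ⟨hxV, hx'⟩ := mem_inf.1 hx
    obtain ⟨hxE, hxQ⟩ := mem_inf.1 hx'
    rw [mem_bot]
    by_contra hx1
    have hxh := mem_centralizer_singleton_iff.1 (mem_inf.1 hxV).2
    have hxz : IsConj z x := S.conjZ_of_mem hxQ (S.eGroup_sq ht hxE) hx1
    have hhE := (S.stab ht hxE hxz).2 ⟨hxh.symm, hht⟩
    exact hz (by rw [S.comm_z (S.mem_eGroup.1 hhE).1, mul_inv_cancel_right])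
  have hn' : V ≤ normalizer ((E ⊓ Q : Subgroup G) : Set G) := by
    intro x hx
    have hxE : x ∈ E := (mem_inf.1 hx).1
    have key : ∀ y ∈ E, x * y * x⁻¹ = y := fun y hy => by
      rw [S.eGroup_comm ht hxE hy, mul_inv_cancel_right]
    rw [mem_normalizer_iff]
    intro y
    constructor
    · intro hy; rwa [key y (mem_inf.1 hy).1]
    · intro hy
      have hyE : y ∈ E := by
        have := mul_mem (mul_mem (inv_mem hxE) (mem_inf.1 hy).1) hxE
        simpa [mul_assoc] using this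
      rwa [key y hyE] at hy
  have hmul := HJOrder.card_sup_mul V (E ⊓ Q) hn' hdis
  have hle : V ⊔ (E ⊓ Q) ≤ E := sup_le inf_le_left inf_le_left
  have hcle : Nat.card ↥(V ⊔ (E ⊓ Q)) ≤ 16 := by
    rw [← S.eGroup_card ht, ← hE]
    exact Subgroup.card_le_of_le hle
  rw [hmul, (S.eGroup_inf ht).1] at hcle
  have hdvd : Nat.card V ∣ 16 := by
    rw [← S.eGroup_card ht, ← hE]; exact Subgroup.card_dvd_of_le inf_le_left
  -- orbits of length three outside `V`
  let σ : Equiv.Perm ↥E :=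
    { toFun := fun y => ⟨h * y * h⁻¹, hn y y.2⟩
      invFun := fun y => ⟨h⁻¹ * y * h, by
        have := hn _ (hn y y.2)
        rwa [show h * (h * y * h⁻¹) * h⁻¹ = h⁻¹ * (h ^ 3 * y * (h ^ 3)⁻¹) * h by
          simp only [pow_succ, pow_zero, one_mul, mul_inv_rev, mul_assoc, inv_mul_cancel_left,
            inv_mul_cancel, mul_one], h3, inv_one, one_mul, mul_one] at this⟩
      left_inv := fun y => by ext; simp [mul_assoc]
      right_inv := fun y => by ext; simp [mul_assoc] }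
  have hσpow : ∀ (n : ℕ) (y : ↥E), (((σ ^ n) y : ↥E) : G) = h ^ n * y * (h ^ n)⁻¹ := by
    intro n
    induction n with
    | zero => simp
    | succ n ih =>
      intro y
      rw [pow_succ', Equiv.Perm.mul_apply]
      show h * ((σ ^ n) y : ↥E) * h⁻¹ = _
      rw [ih, pow_succ']; group
  have hσ3 : σ ^ 3 = 1 := by ext y; rw [hσpow, h3]; simp
  have hfixed : ∀ y : ↥E, σ y = y ↔ (y : G) ∈ V := by
    intro y
    rw [hV, mem_inf, mem_centralizer_singleton_iff, Subtype.ext_iff]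
    show h * y * h⁻¹ = y ↔ _
    rw [mul_inv_eq_iff_eq_mul]
    exact ⟨fun e => ⟨y.2, e.symm⟩, fun e => e.2.symm⟩
  have hmod' : Fintype.card {y : ↥E // ¬ (y : G) ∈ V} % 3 = 0 := by
    by_contra hnd
    have hstab : ∀ y : ↥E, ¬ ((σ y : ↥E) : G) ∈ V ↔ ¬ (y : G) ∈ V := by
      intro y
      rw [← hfixed, ← hfixed]
      exact not_congr σ.injective.eq_iff
    let τ : Equiv.Perm {y : ↥E // ¬ (y : G) ∈ V} := σ.subtypePerm hstab
    obtain ⟨y, hy⟩ := Equiv.Perm.exists_fixed_point_of_prime (p := 3) (n := 1)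
      (fun e => hnd (Nat.mod_eq_zero_of_dvd e)) (σ := τ) (by
      ext y
      simp only [pow_one, τ, Equiv.Perm.subtypePerm_pow, Equiv.Perm.subtypePerm_apply, hσ3]
      rfl)
    exact y.2 ((hfixed y.1).1 (congrArg Subtype.val hy))
  rw [Fintype.card_subtype_compl] at hmod'
  have e1 : Fintype.card ↥E = 16 := by rw [← Nat.card_eq_fintype_card]; exact S.eGroup_card ht
  have e2 : Fintype.card {y : ↥E // (y : G) ∈ V} = Nat.card V := by
    rw [← Nat.card_eq_fintype_card]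
    exact Nat.card_congr
      { toFun := fun y => ⟨y.1.1, y.2⟩
        invFun := fun y => ⟨⟨y.1, (mem_inf.1 y.2).1⟩, y.2⟩ }
  rw [e1, e2] at hmod'
  have hV4 : Nat.card V = 4 := by
    have h0 : Nat.card V ≠ 1 := fun e => ht.2.2 (by
      rw [Subgroup.card_eq_one] at e
      rw [e, mem_bot] at htV
      exact htV ▸ one_mem Q)
    have hle4 : Nat.card V ≤ 4 := by omega
    have : Nat.card V ≠ 0 := Nat.card_pos.ne'
    interval_cases hc : Nat.card V <;> omega
  refine ⟨hV4, hdis, Subgroup.eq_of_le_of_card_ge hle ?_, htV⟩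
  rw [hmul, hV4, (S.eGroup_inf ht).1, hE, S.eGroup_card ht]

end Setting

end CfsgLib.HJType
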