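import Cfsg.Agent.Lib.HJType.Quot

/-!
Finite facts about the alternating group of degree five used in the uniqueness proof.
-/

set_option autoImplicit false
set_option maxRecDepth 20000

namespace CfsgLib.HJType

/-- Composition of lists of images. -/
def mc5 (a b : List ℕ) : List ℕ := b.map fun i => a.getD i 0

/-- The identity list. -/
def one5 : List ℕ := [0, 1, 2, 3, 4]

/-- A cube is trivial. -/
def cube1 (x : List ℕ) : Bool := mc5 x (mc5 x x) == one5

/-- The even arrangements of five points, as products of three. -/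
def all5 : List (List ℕ) :=
  (List.range 5).flatMap fun a => ((List.range 5).erase a).flatMap fun b =>
    (((List.range 5).erase a).erase b).flatMap fun c =>
      ((((List.range 5).erase a).erase b).erase c).flatMap fun d =>
        (((((List.range 5).erase a).erase b).erase c).erase d).flatMap fun e =>
          let l := [a, b, c, d, e]
          if ((List.range 5).flatMap fun i => (List.range i).filter fun j =>
            Nat.blt (l.getD i 0) (l.getD j 0)).length % 2 = 0 then [l] else []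

/-- A pair generating a subgroup of order twelve. -/
def pairNT (n t : List ℕ) : Bool :=
  cube1 n && !(n == one5) && mc5 t t == one5 && !(t == one5) && cube1 (mc5 n t)

/-- An involution inverting `n`. -/
def invC (n c : List ℕ) : Bool :=
  mc5 c c == one5 && !(c == one5) && mc5 (mc5 c n) (mc5 c n) == one5

/-- The two conclusions. -/
def concl (n t c : List ℕ) : Bool :=
  (cube1 (mc5 c t) || cube1 (mc5 (mc5 (mc5 n c) (mc5 n n)) t) ||
    cube1 (mc5 (mc5 (mc5 (mc5 n n) c) n) t)) &&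
  (!cube1 (mc5 c t) ||
    let x := mc5 c (mc5 (mc5 n t) (mc5 n n))
    mc5 x (mc5 x (mc5 x (mc5 x x))) == one5 && !(x == one5))

theorem a5_table :
    all5.all (fun n => all5.all fun t => !pairNT n t || all5.all fun c => !invC n c || concl n t c) = true := by
  decide +kernel

/-- The list of images. -/
def code5 (p : A5) : List ℕ := List.ofFn fun i => ((p : Equiv.Perm (Fin 5)) i : ℕ)

theorem code5_mem : ∀ p : A5, code5 p ∈ all5 := by decide +kernel

theorem code5_one : code5 1 = one5 := rfl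

theorem code5_getD (p : A5) (i : Fin 5) : (code5 p).getD i 0 = ((p : Equiv.Perm (Fin 5)) i : ℕ) := by
  rw [List.getD_eq_getElem _ _ (by rw [code5, List.length_ofFn]; exact i.2)]
  exact List.getElem_ofFn ..

theorem code5_mul (p q : A5) : code5 (p * q) = mc5 (code5 p) (code5 q) := by
  rw [mc5]
  conv_rhs => arg 2; rw [code5]
  rw [List.map_ofFn]
  conv_lhs => rw [code5]
  exact congrArg List.ofFn (funext fun i => (code5_getD p _).symm)

theorem code5_inj : Function.Injective code5 := fun p q h =>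
  Subtype.ext (Equiv.ext fun i => Fin.ext (congrFun (List.ofFn_injective h) i))

theorem code5_eq {p q : A5} : (code5 p == code5 q) = true ↔ p = q := by
  rw [beq_iff_eq, code5_inj.eq_iff]

theorem a5_both {n t c : A5} (n3 : n * n * n = 1) (n1 : n ≠ 1) (t2 : t * t = 1) (t1 : t ≠ 1)
    (nt : n * t * (n * t) * (n * t) = 1) (c2 : c * c = 1) (cn : c * n * c * n = 1) (c1 : c ≠ 1) :
    (c * t * (c * t) * (c * t) = 1 ∨ n * c * n⁻¹ * t * (n * c * n⁻¹ * t) * (n * c * n⁻¹ * t) = 1 ∨
      n⁻¹ * c * n * t * (n⁻¹ * c * n * t) * (n⁻¹ * c * n * t) = 1) ∧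
    (c * t * (c * t) * (c * t) = 1 → (c * (n * t * n⁻¹)) ^ 5 = 1 ∧ c * (n * t * n⁻¹) ≠ 1) := by
  have hni : n⁻¹ = n * n := inv_eq_of_mul_eq_one_right (by rw [← mul_assoc, n3])
  have hcube : ∀ x : A5, cube1 (code5 x) = true ↔ x * x * x = 1 := fun x => by
    rw [cube1, ← code5_mul, ← code5_mul, ← code5_one, code5_eq, mul_assoc]
  have hpow : ∀ x : A5, x ^ 5 = x * (x * (x * (x * x))) := fun x => by
    simp only [pow_succ, pow_zero, one_mul, mul_assoc]
  have g1 : pairNT (code5 n) (code5 t) = true := by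
    simp only [pairNT, hcube, ← code5_mul, ← code5_one, Bool.and_eq_true, Bool.not_eq_true',
      ← Bool.not_eq_true, code5_eq]
    exact ⟨⟨⟨⟨n3, n1⟩, t2⟩, t1⟩, nt⟩
  have g2 : invC (code5 n) (code5 c) = true := by
    simp only [invC, ← code5_mul, ← code5_one, Bool.and_eq_true, Bool.not_eq_true',
      ← Bool.not_eq_true, code5_eq]
    exact ⟨⟨c2, c1⟩, by rw [← mul_assoc]; exact cn⟩
  have h := List.all_eq_true.1 (List.all_eq_true.1 a5_table (code5 n) (code5_mem n)) (code5 t) (code5_mem t)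
  rw [g1, Bool.not_true, Bool.false_or] at h
  have h := List.all_eq_true.1 h (code5 c) (code5_mem c)
  rw [g2, Bool.not_true, Bool.false_or] at h
  simp only [concl, hcube, ← code5_mul, ← code5_one, Bool.and_eq_true, Bool.or_eq_true, Bool.not_eq_true',
    ← Bool.not_eq_true, code5_eq, ← hni, ← hpow, or_assoc] at h
  exact ⟨h.1, fun e => h.2.resolve_left (fun h' => h' e)⟩

theorem a5_triples : ∀ n : A5, n * n * n = 1 → n ≠ 1 → ∀ t : A5, t * t = 1 → t ≠ 1 →
    n * t * (n * t) * (n * t) = 1 → ∀ c : A5, c * c = 1 → c * n * c * n = 1 → c ≠ 1 →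
      c * t * (c * t) * (c * t) = 1 ∨ n * c * n⁻¹ * t * (n * c * n⁻¹ * t) * (n * c * n⁻¹ * t) = 1 ∨
        n⁻¹ * c * n * t * (n⁻¹ * c * n * t) * (n⁻¹ * c * n * t) = 1 :=
  fun _ n3 n1 _ t2 t1 nt _ c2 cn c1 => (a5_both n3 n1 t2 t1 nt c2 cn c1).1

theorem a5_five_word : ∀ n : A5, n * n * n = 1 → n ≠ 1 → ∀ t : A5, t * t = 1 → t ≠ 1 →
    n * t * (n * t) * (n * t) = 1 → ∀ c : A5, c * c = 1 → c * n * c * n = 1 → c ≠ 1 →
      c * t * (c * t) * (c * t) = 1 → (c * (n * t * n⁻¹)) ^ 5 = 1 ∧ c * (n * t * n⁻¹) ≠ 1 :=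
  fun _ n3 n1 _ t2 t1 nt _ c2 cn c1 => (a5_both n3 n1 t2 t1 nt c2 cn c1).2

theorem a5_partner : ∀ t : A5, t * t = 1 → t ≠ 1 →
    ∃ u : A5, u * u = 1 ∧ u ≠ 1 ∧ t * u * (t * u) * (t * u) = 1 ∧ t * u ≠ 1 := by
  decide +kernel

theorem a5_two_invol : ∀ x : A5, ∃ u : A5, u * u = 1 ∧ x * u * (x * u) = 1 := by
  decide +kernel

theorem a5_mem_top {L : Subgroup A5} {n t c : A5} (hn : n ∈ L) (ht : t ∈ L) (hc : c ∈ L)
    (n3 : n * n * n = 1) (n1 : n ≠ 1) (t2 : t * t = 1) (t1 : t ≠ 1)
    (nt : n * t * (n * t) * (n * t) = 1) (c2 : c * c = 1) (cn : c * n * c * n = 1) (c1 : c ≠ 1)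
    (ct : c * t * (c * t) * (c * t) = 1) : L = ⊤ := by
  obtain ⟨h5, h51⟩ := a5_five_word n n3 n1 t t2 t1 nt c c2 cn c1 ct
  have : Fact (Nat.Prime 2) := ⟨Nat.prime_two⟩
  have : Fact (Nat.Prime 3) := ⟨Nat.prime_three⟩
  have : Fact (Nat.Prime 5) := ⟨Nat.prime_five⟩
  have d3 : 3 ∣ Nat.card L := by
    have h := orderOf_dvd_natCard (⟨n, hn⟩ : L)
    rwa [Subgroup.orderOf_mk, orderOf_eq_prime (by rw [pow_succ, pow_two]; exact n3) n1] at h
  have d2 : 2 ∣ Nat.card L := by
    have h := orderOf_dvd_natCard (⟨t, ht⟩ : L)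
    rwa [Subgroup.orderOf_mk, orderOf_eq_prime (by rw [pow_two]; exact t2) t1] at h
  have d5 : 5 ∣ Nat.card L := by
    have h := orderOf_dvd_natCard (⟨c * (n * t * n⁻¹), mul_mem hc (mul_mem (mul_mem hn ht) (inv_mem hn))⟩ : L)
    rwa [Subgroup.orderOf_mk, orderOf_eq_prime h5 h51] at h
  have d30 : 30 ∣ Nat.card L := by omega
  have hd := L.card_subgroup_dvd_card
  rw [a5_card] at hd
  have hle := Nat.le_of_dvd (by norm_num) hd
  have hpos : 0 < Nat.card L := Nat.card_pos
  rcases (by omega : Nat.card L = 30 ∨ Nat.card L = 60) with h | h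
  · exfalso
    have hi : L.index = 2 := by
      have := L.card_mul_index
      rw [h, a5_card] at this
      omega
    have : L.Normal := Subgroup.normal_of_index_eq_two hi
    rcases this.eq_bot_or_eq_top with e | e
    · rw [e, Subgroup.card_bot] at h; omega
    · rw [e, Subgroup.card_top, a5_card] at h; omega
  · exact Subgroup.eq_top_of_card_eq L (by rw [h, a5_card])

end CfsgLib.HJType
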