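import Cfsg.Agent.Lib.HJType.UniqueRels

/-!
Existence of generators satisfying the relations.
-/

set_option autoImplicit false
set_option linter.unusedSectionVars false

namespace CfsgLib.HJType

open Subgroup

variable {G : Type*} [Group G] [Finite G] {z : G} {Q : Subgroup G}

namespace Data

variable {S : Setting z Q} {t h : G} {B : Subgroup G} {n a u c : G} (C : Data S t h B n a u c)
include C

theorem klein : n * t * (n * t) * (n * t) = 1 ∧ t * (n * t * n⁻¹) = n⁻¹ * t * n :=
  nt_of_klein C.D.T.parts.1 (fun v hv => C.D.v_sq hv) C.D.T.parts.2.2.2 C.hnV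
    (fun v hv h => C.nofix hv h) C.hn3 fun e => C.D.T.ht.2.2 (e ▸ one_mem Q)

theorem inv_n : Data S t h B n⁻¹ a u c where
  D := C.D
  hn3 := by rw [inv_pow, C.hn3, inv_one]
  hnt := fun e => C.hnt (by
    calc n * t * n⁻¹ = n * (n⁻¹ * t * n⁻¹⁻¹) * n⁻¹ := by rw [e]
      _ = t := by group)
  hnV := fun v hv => by
    have h1 := C.hnV _ (C.hnV v hv)
    have e : n⁻¹ = n * n := inv_eq_of_mul_eq_one_right (by rw [← C.hn3, pow_succ', pow_two])
    rw [inv_inv, e]
    convert h1 using 1
    calc n * n * v * n = n * n * v * (n * n)⁻¹ * ((n * n) * n) := by group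
      _ = n * n * v * (n * n)⁻¹ := by rw [show n * n * n = 1 by rw [← C.hn3, pow_succ, pow_two], mul_one]
      _ = n * (n * v * n⁻¹) * n⁻¹ := by group
  hnB := fun y hy => (Commute.inv_left (C.hnB y hy)).eq
  hcard := by
    rw [show centralizer ({n⁻¹} : Set G) = centralizer ({n} : Set G) from Subgroup.ext fun x => by
      rw [mem_centralizer_singleton_iff, mem_centralizer_singleton_iff]
      exact ⟨fun e => (Commute.inv_right_iff.1 e).eq, fun e => (Commute.inv_right e).eq⟩]
    exact C.hcard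
  aB := C.aB
  a3 := C.a3
  az := C.az
  au := C.au
  us := C.us
  ut := C.ut
  hinv := C.hinv
  cO := C.cO
  cn := by rw [inv_inv]; exact C.cnc
  ct := C.ct
  cu := C.cu

theorem inv_a : Data S t h B n a⁻¹ (z * u) c where
  D := C.D
  hn3 := C.hn3
  hnt := C.hnt
  hnV := C.hnV
  hnB := C.hnB
  hcard := C.hcard
  aB := inv_mem C.aB
  a3 := by rw [inv_pow, C.a3, inv_one]
  az := by
    rw [inv_inv, ← C.au, ← C.az]
    calc a⁻¹ * z * a = (a * a * a) * (a⁻¹ * z * a) * (a * a * a)⁻¹ := by rw [C.a3']; group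
      _ = a * (a * z * a⁻¹) * a⁻¹ := by group
  au := by
    rw [inv_inv, S.z_mul_z_mul, ← C.au]
    group
  us := S.sing_zmul C.us
  ut := by
    rw [← mul_assoc, ← S.comm_z C.D.T.ht.1 |>.symm, mul_assoc, C.ut, mul_assoc]
  hinv := fun v hv h2 => C.hinv v (Commute.inv_right_iff.1 hv).eq h2
  cO := C.cO
  cn := C.cn
  ct := C.ct
  cu := fun e => by
    refine C.cu ?_
    have h1 : c * (z * u) * c = z * (c * u * c) := by
      rw [← mul_assoc c z u, C.czc]; group
    rw [h1] at e
    exact S.eqv_trans (S.eqv_symm (S.eqv_zmul _)) (S.eqv_trans e (S.eqv_zmul u))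

/-- The relations, once the orientation is fixed. -/
theorem rels (hn : a * (z * (c * u * c)) * (a * (z * (c * u * c))) = n) : Rels z u t c n a where
  z2 := S.zz
  u2 := C.us.2.1
  t2 := C.D.T.ht.2.1
  c2 := C.cO.2.1
  n3 := by rw [← C.hn3, pow_succ, pow_two]
  a3 := C.a3'
  zu := (S.comm_zQ C.us.1).symm
  zt := (S.comm_z C.D.T.ht.1).symm
  zn := C.nz.symm
  zc := C.czc.symm
  ut := C.ut.symm
  un := C.nu.symm
  nt := C.klein.1
  tta := C.at'
  an := C.na.symm
  az := C.az
  au := C.au
  cn := by rw [C.cn, inv_mul_cancel]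
  ct := C.ct
  two := by
    set x := a * (z * (c * u * c)) with hx
    have hxn : Commute x n := by
      rw [← hn]; exact ((Commute.refl x).mul_right (Commute.refl x))
    have hzn : Commute z n := C.nz.symm
    have e : a * z * n * (c * u * c) = x * n := by
      have hvn : Commute (c * u * c) n := (C.cconj_X C.nu).symm
      rw [hx, show a * z * n * (c * u * c) = a * z * (n * (c * u * c)) by group, ← hvn.eq]
      group
    rw [e, show x * n * (x * n) = x * (n * x) * n by group, ← hxn.eq,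
      show x * (x * n) * n = (x * x) * (n * n) by group, hn, ← mul_assoc]
    rw [← C.hn3, pow_succ, pow_two]
  point := C.six.2 (by rw [hn]; exact mem_zpowers n)

end Data

theorem Setting.exists_rels (S : Setting z Q) : ∃ u t c n a : G, Rels z u t c n a ∧ Sing z Q u ∧
    Outer z Q t ∧ Subgroup.closure {z, u, t, c, n} = centralizer ({z} : Set G) := by
  classical
  obtain ⟨t, h, B, n, b, F⟩ := S.exists_frame
  obtain ⟨R, RF⟩ := F.exists_R
  have D := F.Yh.D
  have hh3 : h * h * h = 1 := by rw [← D.T.h3, pow_succ, pow_two]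
  set u := h * z * h⁻¹ with hu
  have huE : u ∈ S.eGroup t := D.T.hn z (S.z_mem D.T.ht)
  have huB : u ∈ B := mul_mem (mul_mem D.hB F.zB) (inv_mem D.hB)
  have huQ := D.meet huB huE
  have hu2 : u * u = 1 := by
    rw [hu, show h * z * h⁻¹ * (h * z * h⁻¹) = h * (z * z) * h⁻¹ by group, S.zz]; group
  have hus : Sing z Q u := ⟨(mem_inf.1 huQ).2, hu2, fun e => S.z_ne (conj_eq_one_iff.1 e), D.T.hz⟩
  have hut : t * u = u * t := ((S.mem_eGroup.1 huE).2).symm
  have hau : h * u * h⁻¹ = z * u := by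
    have e2 : h ^ 2 * z * (h ^ 2)⁻¹ = h * u * h⁻¹ := by rw [hu, pow_two]; group
    have hm : h * u * h⁻¹ ∈ S.eGroup t ⊓ Q :=
      D.meet (mul_mem (mul_mem D.hB huB) (inv_mem D.hB)) (D.T.hn u huE)
    obtain ⟨-, w, -, -, hiff⟩ := S.eGroup_inf D.T.ht
    have n1 : h * u * h⁻¹ ≠ 1 := fun e => hus.2.2.1 (conj_eq_one_iff.1 e)
    have n2 : h * u * h⁻¹ ≠ z := e2 ▸ D.T.hz2
    have n3 : h * u * h⁻¹ ≠ u := e2 ▸ D.T.hz12
    rcases (hiff _).1 huQ with r | r | r | r <;> rcases (hiff _).1 hm with s | s | s | s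
    all_goals first
      | exact absurd r hus.2.2.1
      | exact absurd r hus.2.2.2
      | exact absurd s n1
      | exact absurd s n2
      | exact absurd (s.trans r.symm) n3
      | (rw [s, r]; done)
      | (rw [s, r, S.z_mul_z_mul]; done)
  have A : Alt S.toHyp t n u := by
    have hk := nt_of_klein D.T.parts.1 (fun v hv => D.v_sq hv) D.T.parts.2.2.2 F.Yh.hnV
      (fun v hv e => F.Yh.nofix hv e) F.Yh.hn3 fun e => D.T.ht.2.2 (e ▸ one_mem Q)
    exact { ht := D.T.ht, nC := F.nC, n3 := by rw [← F.Yh.hn3, pow_succ, pow_two]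
            n1 := F.n_ne, nt := hk.1, tt2 := hk.2, us := hus, ut := hut, un := F.Yh.hnB u huB }
  obtain ⟨c, hc, hcn, hct, hcu, hgen⟩ := A.exists_c
  have C : Data S t h B n h u c :=
    { D := D, hn3 := F.Yh.hn3, hnt := F.Yh.hnt, hnV := F.Yh.hnV, hnB := F.Yh.hnB, hcard := RF.n_card
      aB := D.hB, a3 := D.T.h3, az := rfl, au := hau, us := hus, ut := hut
      hinv := fun v hv h2 => F.h_invol hv h2, cO := hc, cn := hcn, ct := hct, cu := hcu }
  -- fix the orientation
  obtain ⟨a', u', n', hu', hn', C', hn⟩ : ∃ a' u' n' : G, (u' = u ∨ u' = z * u) ∧ (n' = n ∨ n' = n⁻¹) ∧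
      Data S t h B n' a' u' c ∧ a' * (z * (c * u' * c)) * (a' * (z * (c * u' * c))) = n' := by
    have main : ∀ {a' u' : G}, (u' = u ∨ u' = z * u) → Data S t h B n a' u' c →
        a' * (z * (c * u' * c)) * (a' * (z * (c * u' * c))) ∈ zpowers n →
        ∃ a' u' n' : G, (u' = u ∨ u' = z * u) ∧ (n' = n ∨ n' = n⁻¹) ∧
          Data S t h B n' a' u' c ∧ a' * (z * (c * u' * c)) * (a' * (z * (c * u' * c))) = n' := by
      intro a' u' hu' C' hm
      rcases C'.zn_cases hm with e | e | e
      · exfalso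
        refine C'.no_invert (C'.zu_up_sing).1 (C'.zu_up_sing).2.1
          (fun h1 => (S.eqv_one h1).elim C'.zu_up_sing.2.2.1 C'.zu_up_sing.2.2.2)
          (fun h1 => C'.cu (S.eqv_trans (S.eqv_symm (S.eqv_zmul _)) h1)) e
      · exact ⟨a', u', n, hu', Or.inl rfl, C', e⟩
      · exact ⟨a', u', n⁻¹, hu', Or.inr rfl, C'.inv_n, e⟩
    rcases C.six.1 with hm | hm
    · exact main (Or.inl rfl) C hm
    · refine main (Or.inr rfl) C.inv_a ?_
      set v := c * u * c with hv
      have hzv : z * (c * (z * u) * c) = v := by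
        rw [← mul_assoc c z u, C.czc, show z * (z * c * u * c) = (z * z) * (c * u * c) by group, S.zz, one_mul]
      rw [hzv]
      obtain ⟨i, hi⟩ := hm
      refine ⟨-i, ?_⟩
      show n ^ (-i) = _
      have hv2 : v * v = 1 := C.up_sing.2.1
      have hxn : n * (h * v) = h * v * n := by
        rw [← mul_assoc, C.na, mul_assoc, C.cconj_X C.nu, ← mul_assoc]
      have hcm : Commute (n ^ i) h := Commute.zpow_left C.na i
      have hcv : Commute (n ^ i) v := Commute.zpow_left (C.cconj_X C.nu) i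
      have hi' : n ^ i = h * v * (h * v) := hi
      calc n ^ (-i) = (n ^ i)⁻¹ * (h⁻¹ * h) := by rw [inv_mul_cancel, mul_one, zpow_neg]
        _ = h⁻¹ * (n ^ i)⁻¹ * h := by rw [← mul_assoc, (hcm.inv_left.inv_right).eq]
        _ = h⁻¹ * (v⁻¹ * h⁻¹ * v⁻¹) := by rw [hi']; group
        _ = h⁻¹ * v * (h⁻¹ * v) := by rw [inv_eq_of_mul_eq_one_right hv2]; group
  refine ⟨u', t, c, n', a', C'.rels hn, C'.us, D.T.ht, le_antisymm ((closure_le _).2 ?_) ?_⟩
  · intro x hx
    simp only [Set.mem_insert_iff, Set.mem_singleton_iff] at hx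
    rcases hx with rfl | rfl | rfl | rfl | rfl
    exacts [S.zC, S.hQC C'.us.1, D.T.ht.1, hc.1, C'.nC]
  rw [← hgen, closure_le]
  intro x hx
  simp only [Set.mem_insert_iff, Set.mem_singleton_iff] at hx
  have mz : z ∈ closure ({z, u', t, c, n'} : Set G) := subset_closure (by simp)
  have mu : u' ∈ closure ({z, u', t, c, n'} : Set G) := subset_closure (by simp)
  have mn : n' ∈ closure ({z, u', t, c, n'} : Set G) := subset_closure (by simp)
  rcases hx with rfl | rfl | rfl | rfl | rfl
  · exact mz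
  · rcases hu' with e | e
    · exact e ▸ mu
    · have := mul_mem mz mu
      show _ ∈ closure ({z, u', t, c, n'} : Set G)
      convert this using 1
      rw [e, S.z_mul_z_mul]
  · exact subset_closure (by simp)
  · exact subset_closure (by simp)
  · rcases hn' with e | e
    · exact e ▸ mn
    · have := inv_mem mn
      show _ ∈ closure ({z, u', t, c, n'} : Set G)
      convert this using 1
      rw [e, inv_inv]

end CfsgLib.HJType
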