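import Cfsg.Agent.Lib.HJType.LocalC
import Cfsg.Agent.Lib.HJType.UniqueA5

/-!
Normalised generators of the centraliser of `z`: an involution inverting the element of order three and
meeting `t` in a product of order three.
-/

set_option autoImplicit false
set_option linter.unusedSectionVars false

namespace CfsgLib.HJType

open Subgroup

variable {G : Type*} [Group G] [Finite G] {z : G} {Q : Subgroup G}

/-- An `A₄` in the centraliser of `z` with its fixed singular line. -/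
structure Alt (H : Hyp z Q) (t n u : G) : Prop where
  ht : Outer z Q t
  nC : n ∈ centralizer ({z} : Set G)
  n3 : n * n * n = 1
  n1 : n ≠ 1
  nt : n * t * (n * t) * (n * t) = 1
  tt2 : t * (n * t * n⁻¹) = n⁻¹ * t * n
  us : Sing z Q u
  ut : t * u = u * t
  un : n * u = u * n

/-- The elements fixing `x` up to `z`. -/
def fixer (H : Hyp z Q) (x : G) : Subgroup ↥(centralizer ({z} : Set G)) where
  carrier := {g | Eqv z ((g : G) * x * (g : G)⁻¹) x}
  one_mem' := Or.inl (by simp)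
  mul_mem' := by
    intro a b ha hb
    show Eqv z ((a : G) * b * x * ((a : G) * b)⁻¹) x
    have h := H.eqv_trans (H.eqv_conj a.2 hb) ha
    convert h using 1
    group
  inv_mem' := by
    intro a ha
    show Eqv z ((a : G)⁻¹ * x * ((a : G)⁻¹)⁻¹) x
    have h := H.eqv_symm (H.eqv_conj (inv_mem a.2) ha)
    convert h using 1
    group

theorem mem_fixer (H : Hyp z Q) {x : G} {g : ↥(centralizer ({z} : Set G))} :
    g ∈ fixer H x ↔ Eqv z ((g : G) * x * (g : G)⁻¹) x := Iff.rfl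

namespace Alt

variable {H : Hyp z Q} {t n u : G} (A : Alt H t n u)
include A

theorem φn3 : H.φ ⟨n, A.nC⟩ * H.φ ⟨n, A.nC⟩ * H.φ ⟨n, A.nC⟩ = 1 := by
  rw [← map_mul, ← map_mul]
  exact (congrArg H.φ (Subtype.ext A.n3)).trans (map_one _)

theorem φn1 : H.φ ⟨n, A.nC⟩ ≠ 1 := fun e => by
  have hq := (H.ker _).1 e
  have : Fact (Nat.Prime 3) := ⟨Nat.prime_three⟩
  have h := orderOf_dvd_natCard (⟨n, hq⟩ : ↥Q)
  rw [H.card, Subgroup.orderOf_mk, orderOf_eq_prime (by rw [pow_succ, pow_two]; exact A.n3) A.n1] at h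
  norm_num at h

theorem φnt : H.φ ⟨n, A.nC⟩ * H.φ ⟨t, A.ht.1⟩ * (H.φ ⟨n, A.nC⟩ * H.φ ⟨t, A.ht.1⟩) *
    (H.φ ⟨n, A.nC⟩ * H.φ ⟨t, A.ht.1⟩) = 1 := by
  simp only [← map_mul]
  exact (congrArg H.φ (Subtype.ext A.nt)).trans (map_one _)

/-- Only `1` and `z` are fixed up to `z` by `n`, `t` and an involution inverting `n`. -/
theorem fix_all {c : G} (hc : Outer z Q c) (hcn : c * n * c = n⁻¹)
    (hct : H.φ ⟨c, hc.1⟩ * H.φ ⟨t, A.ht.1⟩ * (H.φ ⟨c, hc.1⟩ * H.φ ⟨t, A.ht.1⟩) *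
      (H.φ ⟨c, hc.1⟩ * H.φ ⟨t, A.ht.1⟩) = 1)
    {x : G} (hx : x ∈ Q) (hxn : Eqv z (n * x * n⁻¹) x) (hxt : Eqv z (t * x * t) x)
    (hxc : Eqv z (c * x * c) x) : x = 1 ∨ x = z := by
  have htop : (fixer H x).map H.φ = ⊤ := by
    refine a5_mem_top (mem_map_of_mem _ (show (⟨n, A.nC⟩ : ↥(centralizer ({z} : Set G))) ∈ fixer H x from hxn))
      (mem_map_of_mem _ (show (⟨t, A.ht.1⟩ : ↥(centralizer ({z} : Set G))) ∈ fixer H x from ?_))
      (mem_map_of_mem _ (show (⟨c, hc.1⟩ : ↥(centralizer ({z} : Set G))) ∈ fixer H x from ?_))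
      A.φn3 A.φn1 (H.φ_sq A.ht) (H.φ_ne A.ht) A.φnt (H.φ_sq hc) ?_ (H.φ_ne hc) hct
    · rw [mem_fixer]; show Eqv z (t * x * t⁻¹) x; rw [H.t_inv A.ht]; exact hxt
    · rw [mem_fixer]; show Eqv z (c * x * c⁻¹) x; rw [H.t_inv hc]; exact hxc
    · simp only [← map_mul]
      refine (congrArg H.φ (Subtype.ext ?_)).trans (map_one _)
      show c * n * c * n = 1
      rw [hcn, inv_mul_cancel]
  obtain ⟨g, hgC, hg, hgQ⟩ := H.exists_five
  have hmem : H.φ ⟨g, hgC⟩ ∈ (fixer H x).map H.φ := htop ▸ Subgroup.mem_top _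
  obtain ⟨g', hg', e⟩ := mem_map.1 hmem
  obtain ⟨q, hq, eg⟩ := (H.φ_eq_iff hgC g'.2).1 e.symm
  refine H.five_fix hgC hg hgQ hx ?_
  rw [eg, show (g' : G) * q * x * ((g' : G) * q)⁻¹ = (g' : G) * (q * x * q⁻¹) * (g' : G)⁻¹ by group]
  exact H.eqv_trans (H.eqv_conj g'.2 (H.eqv_conjQ hq hx)) ((mem_fixer H).1 hg')

/-- An inverting involution moves the line of `u`. -/
theorem moves {c : G} (hc : Outer z Q c) (hcn : c * n * c = n⁻¹)
    (hct : H.φ ⟨c, hc.1⟩ * H.φ ⟨t, A.ht.1⟩ * (H.φ ⟨c, hc.1⟩ * H.φ ⟨t, A.ht.1⟩) *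
      (H.φ ⟨c, hc.1⟩ * H.φ ⟨t, A.ht.1⟩) = 1) : ¬ Eqv z (c * u * c) u := fun h => by
  rcases A.fix_all hc hcn hct A.us.1 (Or.inl (by rw [A.un, mul_inv_cancel_right]))
    (Or.inl (by rw [A.ut, mul_assoc, A.ht.2.1, mul_one])) h with e | e
  exacts [A.us.2.2.1 e, A.us.2.2.2 e]

/-- Some involution of the centraliser inverts `n`. -/
theorem exists_inverting_outer : ∃ c, Outer z Q c ∧ c * n * c = n⁻¹ := by
  have : Fact (Nat.Prime 3) := ⟨Nat.prime_three⟩
  obtain ⟨w, hw, hw1, htw, htw1⟩ := a5_partner _ (H.φ_sq A.ht) (H.φ_ne A.ht)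
  obtain ⟨d, -, hy, hyφ⟩ := H.outer_lift A.ht hw hw1
  generalize d * t * d⁻¹ = y at hy hyφ
  have hm : t * y ∈ centralizer ({z} : Set G) := mul_mem A.ht.1 hy.1
  have hφm : H.φ ⟨t * y, hm⟩ = H.φ ⟨t, A.ht.1⟩ * w := by
    rw [← hyφ, ← map_mul]; rfl
  set m := t * y with hmdef
  have hq : m ^ 3 ∈ Q := by
    refine (H.ker (⟨m, hm⟩ ^ 3)).1 ?_
    rw [map_pow, hφm, pow_succ, pow_two]
    exact htw
  have h4 : m ^ 4 * m ^ 4 * m ^ 4 = 1 := by
    rw [← pow_add, ← pow_add, show 4 + 4 + 4 = 3 * 4 from rfl, pow_mul, show 4 = 2 * 2 from rfl, pow_mul,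
      pow_two (m ^ 3)]
    rcases H.sq _ hq with e | e <;> rw [e]
    · rw [one_pow]
    · rw [pow_two, H.zz]
  have hne : m ^ 4 ≠ 1 := fun e => by
    have h1 : H.φ (⟨m, hm⟩ ^ 4) = H.φ ⟨t, A.ht.1⟩ * w := by
      rw [map_pow, hφm, pow_succ, pow_succ, pow_two, htw, one_mul]
    refine htw1 (h1 ▸ ?_)
    rw [show (⟨m, hm⟩ : ↥(centralizer ({z} : Set G))) ^ 4 = 1 from Subtype.ext e, map_one]
  have hinv : t * m ^ 4 * t = (m ^ 4)⁻¹ := by
    have e : t * m * t⁻¹ = m⁻¹ := by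
      rw [hmdef, H.t_inv A.ht, mul_inv_rev, H.t_inv A.ht, H.t_inv hy, ← mul_assoc, A.ht.2.1, one_mul]
    nth_rewrite 2 [← H.t_inv A.ht]
    rw [← conj_pow, e, inv_pow]
  obtain ⟨k, hk, ek⟩ := H.conj_in_C (Or.inl rfl) (pow_mem hm 4)
    (orderOf_eq_prime (by rw [pow_succ, pow_two]; exact h4) hne) A.nC
    (orderOf_eq_prime (by rw [pow_succ, pow_two]; exact A.n3) A.n1)
  have hc := H.outer_conj hk A.ht
  refine ⟨_, hc, ?_⟩
  have hn : n ∈ zpowers (k * m ^ 4 * k⁻¹) := ek ▸ mem_zpowers n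
  obtain ⟨i, hi⟩ := hn
  have hi' : (k * m ^ 4 * k⁻¹) ^ i = n := hi
  have key : k * t * k⁻¹ * (k * m ^ 4 * k⁻¹) * (k * t * k⁻¹)⁻¹ = (k * m ^ 4 * k⁻¹)⁻¹ := by
    rw [show k * t * k⁻¹ * (k * m ^ 4 * k⁻¹) * (k * t * k⁻¹)⁻¹ = k * (t * m ^ 4 * t⁻¹) * k⁻¹ by group,
      H.t_inv A.ht, hinv]
    group
  nth_rewrite 2 [← H.t_inv hc]
  rw [← hi', ← conj_zpow, key, inv_zpow]

/-- An inverting involution whose product with `t` has order three modulo `Q`. -/
theorem exists_c_mod : ∃ c, ∃ hc : Outer z Q c, c * n * c = n⁻¹ ∧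
    H.φ ⟨c, hc.1⟩ * H.φ ⟨t, A.ht.1⟩ * (H.φ ⟨c, hc.1⟩ * H.φ ⟨t, A.ht.1⟩) *
      (H.φ ⟨c, hc.1⟩ * H.φ ⟨t, A.ht.1⟩) = 1 := by
  obtain ⟨c, hc, hcn⟩ := A.exists_inverting_outer
  have hcn' : H.φ ⟨c, hc.1⟩ * H.φ ⟨n, A.nC⟩ * H.φ ⟨c, hc.1⟩ * H.φ ⟨n, A.nC⟩ = 1 := by
    simp only [← map_mul]
    refine (congrArg H.φ (Subtype.ext ?_)).trans (map_one _)
    show c * n * c * n = 1
    rw [hcn, inv_mul_cancel]
  rcases a5_triples _ A.φn3 A.φn1 _ (H.φ_sq A.ht) (H.φ_ne A.ht) A.φnt _ (H.φ_sq hc) hcn' (H.φ_ne hc)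
    with e | e | e
  · exact ⟨c, hc, hcn, e⟩
  · refine ⟨n * c * n⁻¹, H.outer_conj A.nC hc, ?_, ?_⟩
    · calc n * c * n⁻¹ * n * (n * c * n⁻¹) = n * (c * n * c) * n⁻¹ := by group
        _ = n⁻¹ := by rw [hcn]; group
    · rw [← map_inv, ← map_mul, ← map_mul] at e
      exact e
  · refine ⟨n⁻¹ * c * n⁻¹⁻¹, H.outer_conj (inv_mem A.nC) hc, ?_, ?_⟩
    · calc n⁻¹ * c * n⁻¹⁻¹ * n * (n⁻¹ * c * n⁻¹⁻¹) = n⁻¹ * (c * n * c) * n := by group
        _ = n⁻¹ := by rw [hcn]; group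
    · simp only [inv_inv]
      rw [← map_inv, ← map_mul, ← map_mul] at e
      exact e

/-- The third power of the product of `c` and `t` is `1` or `z`. -/
theorem cube {c : G} (hc : Outer z Q c) (hcn : c * n * c = n⁻¹)
    (hct : H.φ ⟨c, hc.1⟩ * H.φ ⟨t, A.ht.1⟩ * (H.φ ⟨c, hc.1⟩ * H.φ ⟨t, A.ht.1⟩) *
      (H.φ ⟨c, hc.1⟩ * H.φ ⟨t, A.ht.1⟩) = 1) :
    c * t * (c * t) * (c * t) = 1 ∨ c * t * (c * t) * (c * t) = z := by
  set q := c * t * (c * t) * (c * t) with hqdef
  have ht2 := A.ht.2.1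
  have hc2 := hc.2.1
  have hqQ : q ∈ Q := by
    refine (H.ker ⟨q, mul_mem (mul_mem (mul_mem hc.1 A.ht.1) (mul_mem hc.1 A.ht.1))
      (mul_mem hc.1 A.ht.1)⟩).1 ?_
    simp only [← map_mul] at hct
    exact hct
  have hcq : c * q * c = q⁻¹ := by
    rw [hqdef, show c * (c * t * (c * t) * (c * t)) * c = (c * c) * t * c * t * c * t * c by group, hc2]
    simp only [mul_inv_rev, H.t_inv hc, H.t_inv A.ht, mul_assoc, one_mul]
  have htq : t * q * t = q⁻¹ := by
    rw [hqdef, show t * (c * t * (c * t) * (c * t)) * t = t * c * t * c * t * c * (t * t) by group, ht2]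
    simp only [mul_inv_rev, H.t_inv hc, H.t_inv A.ht, mul_assoc, mul_one]
  rcases H.sq q hqQ with hq2 | hq2
  · have hqi : q⁻¹ = q := inv_eq_of_mul_eq_one_right hq2
    by_contra hcon
    push Not at hcon
    have hs : Sing z Q q := ⟨hqQ, hq2, hcon.1, hcon.2⟩
    have hqt : Fixed z Q t q := ⟨hqQ, Or.inl (htq.trans hqi)⟩
    have hut : Fixed z Q t u := ⟨A.us.1, Or.inl (by rw [A.ut, mul_assoc, ht2, mul_one])⟩
    have hqu := H.outer_sing_unique A.ht A.us hut hs hqt
    refine A.moves hc hcn hct ?_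
    have h1 := H.eqv_conj hc.1 (H.eqv_symm hqu)
    rw [H.t_inv hc, hcq, hqi] at h1
    exact H.eqv_trans h1 hqu
  exfalso
  have hqi : Eqv z q⁻¹ q := H.eqv_inv hqQ
  set e := n⁻¹ * q * n with hedef
  set a := n⁻¹ * t * n⁻¹ with hadef
  set X := c * (n * t * n⁻¹) with hXdef
  have haC : a ∈ centralizer ({z} : Set G) := mul_mem (mul_mem (inv_mem A.nC) A.ht.1) (inv_mem A.nC)
  have heQ : e ∈ Q := H.norm' A.nC hqQ
  have ha3 : a * a * a = 1 := by
    have h1 : t * n * t * n * t = n⁻¹ := by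
      calc t * n * t * n * t = n⁻¹ * (n * t * (n * t) * (n * t)) := by group
        _ = n⁻¹ := by rw [A.nt, mul_one]
    have h2 : n⁻¹ * n⁻¹ = n := by
      calc n⁻¹ * n⁻¹ = n⁻¹ * n⁻¹ * (n * n * n) := by rw [A.n3, mul_one]
        _ = n := by group
    calc a * a * a = n⁻¹ * t * (n⁻¹ * n⁻¹) * t * (n⁻¹ * n⁻¹) * t * n⁻¹ := by rw [hadef]; group
      _ = n⁻¹ * (t * n * t * n * t) * n⁻¹ := by rw [h2]; group
      _ = 1 := by rw [h1, h2, mul_inv_cancel]
  have hctc : c * t * c = q * (t * c * t) := by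
    calc c * t * c = (c * t * c) * ((t * c * t) * (t * c * t)) := by
          rw [show (t * c * t) * (t * c * t) = t * c * (t * t) * c * t by group, ht2, mul_one,
            show t * c * c * t = t * (c * c) * t by group, hc2, mul_one, ht2, mul_one]
      _ = q * (t * c * t) := by rw [hqdef]; group
  have hcn1 : c * n = n⁻¹ * c := by rw [← hcn, mul_assoc, hc2, mul_one]
  have hncn : n⁻¹ * c * n⁻¹ = c := by
    rw [← hcn1]; group
  have hcn2 : c * n⁻¹ * c = n := by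
    rw [← hcn, show c * (c * n * c) * c = (c * c) * n * (c * c) by group, hc2]; group
  have hXc : X * c = e * a * (c * (n⁻¹ * t * n)) := by
    calc X * c = c * n * t * (n⁻¹ * c) := by rw [hXdef]; group
      _ = n⁻¹ * c * t * (c * n) := by rw [hcn1]
      _ = n⁻¹ * (c * t * c) * n := by group
      _ = n⁻¹ * (q * (t * c * t)) * n := by rw [hctc]
      _ = n⁻¹ * q * t * (n⁻¹ * c * n⁻¹) * t * n := by rw [hncn]; group
      _ = e * a * (c * (n⁻¹ * t * n)) := by rw [hedef, hadef]; group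
  have hXct : X * (c * t) = e * a * X := by
    have hcomm : n⁻¹ * t * n * t = n * t * n⁻¹ := by
      have h := A.tt2
      have h1 : (n⁻¹ * t * n) * (n⁻¹ * t * n) = 1 := by
        rw [show (n⁻¹ * t * n) * (n⁻¹ * t * n) = n⁻¹ * (t * t) * n by group, ht2]; group
      have h2 : (n * t * n⁻¹) * (n * t * n⁻¹) = 1 := by
        rw [show (n * t * n⁻¹) * (n * t * n⁻¹) = n * (t * t) * n⁻¹ by group, ht2]; group
      have h3 : n * t * n⁻¹ * t = n⁻¹ * t * n := by
        rw [← inv_eq_of_mul_eq_one_right h1, ← h, mul_inv_rev, inv_eq_of_mul_eq_one_right h2, H.t_inv A.ht]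
      rw [← h3, mul_assoc, ht2, mul_one]
    rw [← mul_assoc, hXc, hXdef, show e * a * (c * (n⁻¹ * t * n)) * t = e * a * (c * (n⁻¹ * t * n * t)) by group,
      hcomm]
  have hconj : X * q * X⁻¹ = e * (a * e * a⁻¹) * (a * (a * e * a⁻¹) * a⁻¹) := by
    have hstep : ∀ w, X * (c * t * w) = e * a * (X * w) := fun w => by
      rw [← mul_assoc, hXct, mul_assoc]
    have h1 : X * q = e * a * (e * a) * (e * a) * X := by
      rw [hqdef, mul_assoc (c * t) (c * t), hstep, hstep, hXct]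
      simp only [mul_assoc]
    calc X * q * X⁻¹ = e * a * (e * a) * (e * a) := by rw [h1, mul_inv_cancel_right]
      _ = e * (a * e * a⁻¹) * (a * (a * e * a⁻¹) * a⁻¹) * (a * a * a) := by group
      _ = _ := by rw [ha3, mul_one]
  set b1 := a * e * a⁻¹ with hb1
  set c1 := a * b1 * a⁻¹ with hc1
  have hb1Q : b1 ∈ Q := H.norm a haC e heQ
  have hc1Q : c1 ∈ Q := H.norm a haC b1 hb1Q
  have sqconj : ∀ g ∈ centralizer ({z} : Set G), ∀ x, x * x = z → g * x * g⁻¹ * (g * x * g⁻¹) = z := by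
    intro g hg x hx
    rw [show g * x * g⁻¹ * (g * x * g⁻¹) = g * (x * x) * g⁻¹ by group, hx, H.comm_z hg, mul_inv_cancel_right]
  have he2 : e * e = z := by
    have := sqconj n⁻¹ (inv_mem A.nC) q hq2
    rw [inv_inv] at this
    exact this
  have hb2 : b1 * b1 = z := sqconj a haC e he2
  have hc2' : c1 * c1 = z := sqconj a haC b1 hb2
  have hne : ¬ Eqv z b1 e := fun h => by
    have h' := H.eqv_conj A.nC h
    have e1 : n * b1 * n⁻¹ = t * (n * q * n⁻¹) * t := by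
      have h2 : n⁻¹ * n⁻¹ = n := by
        calc n⁻¹ * n⁻¹ = n⁻¹ * n⁻¹ * (n * n * n) := by rw [A.n3, mul_one]
          _ = n := by group
      calc n * b1 * n⁻¹ = t * (n⁻¹ * n⁻¹ * q * (n⁻¹ * n⁻¹)⁻¹) * t⁻¹ := by simp [hb1, hedef, hadef, mul_assoc]
        _ = _ := by rw [h2, H.t_inv A.ht]
    have e2 : n * e * n⁻¹ = q := by rw [hedef]; group
    rw [e1, e2] at h'
    have h3 := H.tconj_eqv A.ht h'
    rw [H.tconj_tconj A.ht, htq] at h3
    rcases A.fix_all hc hcn hct hqQ (H.eqv_trans h3 hqi) (by rw [htq]; exact hqi) (by rw [hcq]; exact hqi)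
      with r | r
    · rw [r, one_mul] at hq2; exact H.z_ne hq2.symm
    · rw [r, H.zz] at hq2; exact H.z_ne hq2.symm
  have hbc : ¬ Eqv z c1 b1 := fun h => hne (by
    have h' := H.eqv_conj (inv_mem haC) h
    have h1 : a⁻¹ * c1 * a⁻¹⁻¹ = b1 := by rw [hc1]; group
    have h2 : a⁻¹ * b1 * a⁻¹⁻¹ = e := by rw [hb1]; group
    rwa [h1, h2] at h')
  have hca : a * c1 * a⁻¹ = e := by
    calc a * c1 * a⁻¹ = (a * a * a) * e * (a * a * a)⁻¹ := by rw [hc1, hb1]; group
      _ = e := by rw [ha3]; group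
  rcases H.com e heQ b1 hb1Q with hcomm | hanti
  · -- commuting: two singular products commute, which is impossible
    have cbc : c1 * b1 = b1 * c1 := by
      have := congrArg (fun w => a * w * a⁻¹) hcomm
      simpa [hb1, hc1, mul_assoc] using this
    have ces : e * c1 = c1 * e := by
      have := congrArg (fun w => a * w * a⁻¹) cbc
      calc e * c1 = a * (c1 * b1) * a⁻¹ := by rw [← hca, hc1]; group
        _ = a * (b1 * c1) * a⁻¹ := this
        _ = c1 * e := by rw [← hca, hc1]; group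
    have sing : ∀ {x y : G}, x ∈ Q → y ∈ Q → x * x = z → y * y = z → y * x = x * y → ¬ Eqv z y x →
        Sing z Q (x * y) := by
      intro x y hx hy hx2 hy2 hxy hn
      refine ⟨mul_mem hx hy, ?_, fun h1 => hn ?_, fun h1 => hn ?_⟩
      · rw [show x * y * (x * y) = x * (y * x) * y by group, hxy,
          show x * (x * y) * y = (x * x) * (y * y) by group, hx2, hy2, H.zz]
      · rw [eq_inv_of_mul_eq_one_right h1]; exact H.eqv_inv hx
      · rw [show y = x⁻¹ * z by rw [← h1]; group, ← H.comm_z (inv_mem (H.hQC hx)) |>.symm]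
        exact H.eqv_trans (H.eqv_zmul _) (H.eqv_inv hx)
    have p1 := sing heQ hb1Q he2 hb2 hcomm hne
    have p2 := sing hb1Q hc1Q hb2 hc2' cbc hbc
    have hp := H.sing_comm p1 p2 (by
      have h1 : Commute e b1 := hcomm.symm
      have h2 : Commute b1 c1 := cbc.symm
      have h3 : Commute e c1 := ces
      exact ((h1.mul_right h3).mul_left ((Commute.refl b1).mul_right h2)).eq)
    have h' := H.eqv_mul_left (inv_mem (H.hQC hb1Q)) hp
    have h'' : Eqv z c1 e := by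
      convert h' using 1
      · group
      · rw [← hcomm]; group
    refine hne (H.eqv_symm ?_)
    have := H.eqv_conj haC h''
    rw [hca] at this
    exact this
  · -- anticommuting: the conjugate of an element of order four would be an involution
    have az : a * z = z * a := H.comm_z haC
    have acb : c1 * b1 = z * (b1 * c1) := by
      calc c1 * b1 = a * (b1 * e) * a⁻¹ := by rw [hc1, hb1]; group
        _ = a * (z * (e * b1)) * a⁻¹ := by rw [hanti]
        _ = z * (b1 * c1) := by rw [← mul_assoc, az, hc1, hb1]; group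
    have ace : e * c1 = z * (c1 * e) := by
      calc e * c1 = a * (c1 * b1) * a⁻¹ := by rw [← hca, hc1]; group
        _ = a * (z * (b1 * c1)) * a⁻¹ := by rw [acb]
        _ = z * (c1 * e) := by rw [← mul_assoc, az, ← hca, hc1]; group
    have hz' : ∀ x ∈ Q, x * z = z * x := fun x hx => H.comm_zQ hx
    have hfin : e * b1 * c1 * (e * b1 * c1) = 1 := by
      have hce : c1 * e = z * (e * c1) := by rw [ace, H.z_mul_z_mul]
      calc e * b1 * c1 * (e * b1 * c1) = e * b1 * (c1 * e) * (b1 * c1) := by group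
        _ = e * b1 * z * e * c1 * (b1 * c1) := by rw [hce]; group
        _ = z * (e * (b1 * e) * c1 * (b1 * c1)) := by
            rw [show e * b1 * z = z * (e * b1) by rw [mul_assoc, hz' b1 hb1Q, ← mul_assoc, hz' e heQ, mul_assoc]]
            group
        _ = z * (e * (z * (e * b1)) * c1 * (b1 * c1)) := by rw [hanti]
        _ = z * (z * (e * e) * (b1 * (c1 * b1) * c1)) := by
            rw [show e * (z * (e * b1)) = z * (e * e) * b1 by
              rw [← mul_assoc, hz' e heQ]; group]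
            group
        _ = z * (z * (e * e) * (b1 * (z * (b1 * c1)) * c1)) := by rw [acb]
        _ = z * (z * (e * e) * (z * (b1 * b1) * (c1 * c1))) := by
            rw [show b1 * (z * (b1 * c1)) * c1 = z * (b1 * b1) * (c1 * c1) by
              rw [← mul_assoc b1 z, hz' b1 hb1Q]; group]
        _ = 1 := by rw [he2, hb2, hc2']; simp [H.zz]
    rw [← hconj, show X * q * X⁻¹ * (X * q * X⁻¹) = X * (q * q) * X⁻¹ by group, hq2] at hfin
    exact H.z_ne (conj_eq_one_iff.1 hfin)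

/-- The normalised involution. -/
theorem exists_c : ∃ c, Outer z Q c ∧ c * n * c = n⁻¹ ∧ c * t * (c * t) * (c * t) = 1 ∧
    ¬ Eqv z (c * u * c) u ∧ Subgroup.closure {z, u, t, c, n} = centralizer ({z} : Set G) := by
  classical
  obtain ⟨c₀, hc₀, hcn₀, hct₀⟩ := A.exists_c_mod
  obtain ⟨c, hc, hcn, hφ, hcube⟩ : ∃ c, ∃ hc : Outer z Q c, c * n * c = n⁻¹ ∧
      H.φ ⟨c, hc.1⟩ = H.φ ⟨c₀, hc₀.1⟩ ∧ c * t * (c * t) * (c * t) = 1 := by
    rcases A.cube hc₀ hcn₀ hct₀ with e | e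
    · exact ⟨c₀, hc₀, hcn₀, rfl, e⟩
    · have hzc : Outer z Q (z * c₀) := by
        refine ⟨mul_mem H.zC hc₀.1, ?_, fun h => hc₀.2.2 ?_⟩
        · rw [mul_assoc, ← mul_assoc c₀ z, H.comm_z hc₀.1, mul_assoc z c₀ c₀, hc₀.2.1, mul_one, H.zz]
        · simpa [H.z_mul_z_mul] using mul_mem H.hzQ h
      refine ⟨z * c₀, hzc, ?_, ?_, ?_⟩
      · have h1 : Commute z c₀ := (H.comm_z hc₀.1).symm
        have h2 : Commute z n := (H.comm_z A.nC).symm
        calc z * c₀ * n * (z * c₀) = z * (z * (c₀ * n * c₀)) := by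
              rw [show z * c₀ * n * (z * c₀) = z * (c₀ * n * z) * c₀ by group,
                ← ((h1.mul_right h2).eq)]
              group
          _ = n⁻¹ := by rw [H.z_mul_z_mul, hcn₀]
      · exact (H.φ_eq_iff _ _).2 ⟨z, H.hzQ, (H.comm_z hc₀.1).symm⟩
      · have h1 : Commute z (c₀ * t) := ((H.comm_z (mul_mem hc₀.1 A.ht.1))).symm
        calc z * c₀ * t * (z * c₀ * t) * (z * c₀ * t)
            = (z * (c₀ * t)) * (z * (c₀ * t)) * (z * (c₀ * t)) := by simp only [mul_assoc]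
          _ = z * z * (c₀ * t * (c₀ * t)) * (z * (c₀ * t)) := by
              rw [show z * (c₀ * t) * (z * (c₀ * t)) = z * (c₀ * t * z) * (c₀ * t) by group, ← h1.eq]
              group
          _ = (c₀ * t * (c₀ * t) * z) * (c₀ * t) := by rw [H.zz]; group
          _ = z * (c₀ * t * (c₀ * t) * (c₀ * t)) := by
              rw [← (h1.mul_right h1).eq]; group
          _ = 1 := by rw [e, H.zz]
  have hct : H.φ ⟨c, hc.1⟩ * H.φ ⟨t, A.ht.1⟩ * (H.φ ⟨c, hc.1⟩ * H.φ ⟨t, A.ht.1⟩) *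
      (H.φ ⟨c, hc.1⟩ * H.φ ⟨t, A.ht.1⟩) = 1 := by
    simp only [← map_mul]
    exact (congrArg H.φ (Subtype.ext hcube)).trans (map_one _)
  have hmove := A.moves hc hcn hct
  refine ⟨c, hc, hcn, hcube, hmove, le_antisymm ((closure_le _).2 ?_) ?_⟩
  · intro x hx
    simp only [Set.mem_insert_iff, Set.mem_singleton_iff] at hx
    rcases hx with rfl | rfl | rfl | rfl | rfl
    exacts [H.zC, H.hQC A.us.1, A.ht.1, hc.1, A.nC]
  set K := closure {z, u, t, c, n}
  have mz : z ∈ K := subset_closure (by simp)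
  have mu : u ∈ K := subset_closure (by simp)
  set K' := K.subgroupOf (centralizer ({z} : Set G))
  have htop : K'.map H.φ = ⊤ := by
    refine a5_mem_top (mem_map_of_mem _ (show (⟨n, A.nC⟩ : ↥(centralizer ({z} : Set G))) ∈ K' from
        mem_subgroupOf.2 (subset_closure (by simp))))
      (mem_map_of_mem _ (show (⟨t, A.ht.1⟩ : ↥(centralizer ({z} : Set G))) ∈ K' from
        mem_subgroupOf.2 (subset_closure (by simp))))
      (mem_map_of_mem _ (show (⟨c, hc.1⟩ : ↥(centralizer ({z} : Set G))) ∈ K' from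
        mem_subgroupOf.2 (subset_closure (by simp))))
      A.φn3 A.φn1 (H.φ_sq A.ht) (H.φ_ne A.ht) A.φnt (H.φ_sq hc) ?_ (H.φ_ne hc) hct
    simp only [← map_mul]
    refine (congrArg H.φ (Subtype.ext ?_)).trans (map_one _)
    show c * n * c * n = 1
    rw [hcn, inv_mul_cancel]
  have hlift : ∀ g ∈ centralizer ({z} : Set G), ∃ k ∈ K, ∃ q ∈ Q, g = k * q := by
    intro g hg
    have hmem : H.φ ⟨g, hg⟩ ∈ K'.map H.φ := htop ▸ Subgroup.mem_top _
    obtain ⟨k, hk, e⟩ := mem_map.1 hmem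
    obtain ⟨q, hq, eq⟩ := (H.φ_eq_iff hg k.2).1 e.symm
    exact ⟨k, hk, q, hq, eq⟩
  have hsing : ∀ p, Sing z Q p → p ∈ K := by
    intro p hp
    obtain ⟨g, hg, e⟩ := H.sing_trans A.us hp
    obtain ⟨k, hk, q, hq, rfl⟩ := hlift g hg
    rw [← e, show k * q * u * (k * q)⁻¹ = k * (q * u * q⁻¹) * k⁻¹ by group]
    refine mul_mem (mul_mem hk ?_) (inv_mem hk)
    rcases H.eqv_conjQ hq A.us.1 with r | r <;> rw [r]
    exacts [mu, mul_mem mz mu]
  have hQK : Q ≤ K := by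
    have := Fintype.ofFinite G
    have hle : Q ⊓ K ≤ Q := inf_le_left
    suffices h : Q ⊓ K = Q from h ▸ inf_le_right
    refine Subgroup.eq_of_le_of_card_ge hle ?_
    rw [H.card]
    obtain ⟨p₀, hp₀⟩ : ∃ p, Sing z Q p := ⟨u, A.us⟩
    set Sg := Finset.univ.filter fun p => Sing z Q p
    set big := Finset.univ.filter fun x => x ∈ Q ⊓ K
    set anti := Sg.filter fun p => ¬ Eqv z p p₀
    have h10 : Sg.card = 10 := by
      have := H.card_sing
      rwa [Nat.card_eq_fintype_card, Fintype.card_subtype] at this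
    have hA : 8 ≤ anti.card := by
      have h2 : (Sg.filter fun p => Eqv z p p₀).card ≤ 2 :=
        le_trans (Finset.card_le_card (t := {p₀, z * p₀}) fun p hp => by
          simpa [Eqv] using (Finset.mem_filter.1 hp).2) Finset.card_le_two
      have := Finset.card_filter_add_card_filter_not (s := Sg) (fun p => Eqv z p p₀)
      show 8 ≤ (Sg.filter fun p => ¬ Eqv z p p₀).card
      omega
    set four := anti.image fun p => p₀ * p
    have hfour : four.card = anti.card :=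
      Finset.card_image_of_injective _ fun a b h => mul_left_cancel h
    have hdisj : Disjoint Sg four := by
      rw [Finset.disjoint_left]
      intro x hx hx'
      obtain ⟨p, hp, rfl⟩ := Finset.mem_image.1 hx'
      obtain ⟨hp1, hp2⟩ := Finset.mem_filter.1 hp
      have hps : Sing z Q p := (Finset.mem_filter.1 hp1).2
      have hxs : Sing z Q (p₀ * p) := (Finset.mem_filter.1 hx).2
      have h1 := H.sing_anticomm hp₀ hps hp2
      have h2 := hxs.2.1
      rw [show p₀ * p * (p₀ * p) = (p₀ * p) * p₀ * p by group] at h2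
      nth_rewrite 1 [h1] at h2
      rw [show z * (p * p₀) * p₀ * p = z * (p * (p₀ * p₀) * p) by group, hp₀.2.1, mul_one, hps.2.1,
        mul_one] at h2
      exact H.z_ne h2
    have hsub : Sg ∪ four ⊆ big := by
      intro x hx
      refine Finset.mem_filter.2 ⟨Finset.mem_univ _, ?_⟩
      rcases Finset.mem_union.1 hx with hx | hx
      · exact mem_inf.2 ⟨(Finset.mem_filter.1 hx).2.1, hsing _ (Finset.mem_filter.1 hx).2⟩
      · obtain ⟨p, hp, rfl⟩ := Finset.mem_image.1 hx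
        have hps : Sing z Q p := (Finset.mem_filter.1 (Finset.mem_filter.1 hp).1).2
        exact mem_inf.2 ⟨mul_mem hp₀.1 hps.1, mul_mem (hsing _ hp₀) (hsing _ hps)⟩
    have hbig : Nat.card ↥(Q ⊓ K) = big.card := by
      rw [Nat.card_eq_fintype_card, Fintype.card_subtype]
    have h18 := Finset.card_le_card hsub
    rw [Finset.card_union_of_disjoint hdisj, h10, hfour] at h18
    have hd := Subgroup.card_dvd_of_le hle
    rw [H.card] at hd
    have hd' := Nat.le_of_dvd (by norm_num) hd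
    rw [hbig] at hd hd' ⊢
    interval_cases big.card <;> omega
  intro g hg
  obtain ⟨k, hk, q, hq, rfl⟩ := hlift g hg
  exact mul_mem hk (hQK hq)

end Alt

end CfsgLib.HJType
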