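import Cfsg.Agent.Lib.HJType.UniqueSix

/-!
The defining relations.
-/

set_option autoImplicit false
set_option linter.unusedSectionVars false

namespace CfsgLib.HJType

open Subgroup

variable {G : Type*} [Group G] [Finite G] {z : G} {Q : Subgroup G}

/-- The relations read off from the table. -/
structure Rels (z u t c n a : G) : Prop where
  z2 : z * z = 1
  u2 : u * u = 1
  t2 : t * t = 1
  c2 : c * c = 1
  n3 : n * n * n = 1
  a3 : a * a * a = 1
  zu : z * u = u * z
  zt : z * t = t * z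
  zn : z * n = n * z
  zc : z * c = c * z
  ut : u * t = t * u
  un : u * n = n * u
  nt : n * t * (n * t) * (n * t) = 1
  tta : a * t = t * a
  an : a * n = n * a
  az : a * z * a⁻¹ = u
  au : a * u * a⁻¹ = z * u
  cn : c * n * c * n = 1
  ct : c * t * (c * t) * (c * t) = 1
  two : a * z * n * (c * u * c) * (a * z * n * (c * u * c)) = 1
  point : c * a * c * a * (c * a * c) * z * (c * a * c * a * (c * a * c))⁻¹ * t =
    t * (c * a * c * a * (c * a * c) * z * (c * a * c * a * (c * a * c))⁻¹)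

theorem nt_of_klein {V : Subgroup G} (h4 : Nat.card V = 4) (h2 : ∀ v ∈ V, v * v = 1) {n t : G}
    (htV : t ∈ V) (hnV : ∀ v ∈ V, n * v * n⁻¹ ∈ V) (hnofix : ∀ v ∈ V, n * v * n⁻¹ = v → v = 1)
    (hn3 : n ^ 3 = 1) (ht1 : t ≠ 1) :
    n * t * (n * t) * (n * t) = 1 ∧ t * (n * t * n⁻¹) = n⁻¹ * t * n := by
  have hn : n * n * n = 1 := by rw [← hn3, pow_succ, pow_two]
  have hn2 : n * n = n⁻¹ := eq_inv_of_mul_eq_one_left hn
  set a := n * t * n⁻¹ with ha
  set b := n * a * n⁻¹ with hb
  have haV : a ∈ V := hnV t htV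
  have hbV : b ∈ V := hnV a haV
  have hb' : b = n⁻¹ * t * n := by
    rw [hb, ha, show n * (n * t * n⁻¹) * n⁻¹ = (n * n) * t * (n * n)⁻¹ by group, hn2, inv_inv]
  have hcomm : ∀ x ∈ V, ∀ y ∈ V, x * y = y * x := fun x hx y hy => by
    have := h2 _ (mul_mem hx hy)
    rw [← inv_eq_of_mul_eq_one_right this, mul_inv_rev, inv_eq_of_mul_eq_one_right (h2 x hx),
      inv_eq_of_mul_eq_one_right (h2 y hy)]
  have hab : n * b * n⁻¹ = t := by rw [hb']; group
  have hprod : t * a * b = 1 := by
    refine hnofix _ (mul_mem (mul_mem htV haV) hbV) ?_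
    calc n * (t * a * b) * n⁻¹ = a * b * (n * b * n⁻¹) := by rw [ha, hb, ha]; group
      _ = t * (a * b) := by rw [hab]; exact hcomm _ (mul_mem haV hbV) _ htV
      _ = t * a * b := (mul_assoc t a b).symm
  constructor
  · calc n * t * (n * t) * (n * t) = a * (n * a * n⁻¹) * (n * (n * n)) * t := by
          rw [ha]; group
      _ = a * b * t := by rw [← hb, ← mul_assoc n n n, hn, mul_one]
      _ = t * (a * b) := hcomm _ (mul_mem haV hbV) _ htV
      _ = 1 := by rw [← mul_assoc, hprod]
  · rw [← hb']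
    calc t * a = t * a * b * b := by rw [mul_assoc (t * a) b b, h2 b hbV, mul_one]
      _ = b := by rw [hprod, one_mul]

namespace Data

variable {S : Setting z Q} {t h : G} {B : Subgroup G} {n a u c : G} (C : Data S t h B n a u c)
include C

theorem nofix {v : G} (hv : v ∈ vGroup S t h) (hfix : n * v * n⁻¹ = v) : v = 1 := by
  by_contra hv1
  have h1 : n ∈ centralizer ({v} : Set G) :=
    mem_centralizer_singleton_iff.2 (mul_inv_eq_iff_eq_mul.1 hfix)
  rw [C.D.cent_v hv hv1] at h1
  exact C.hnt (by rw [mem_centralizer_singleton_iff.1 h1, mul_inv_cancel_right])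

theorem a_ne : a ≠ 1 := fun e => by
  have h1 := C.az
  rw [e, one_mul, inv_one, mul_one] at h1
  exact C.us.2.2.2 h1.symm

theorem a3' : a * a * a = 1 := by rw [← C.a3, pow_succ, pow_two]

theorem zu_up_sing : Sing z Q (z * (c * u * c)) := S.sing_zmul C.up_sing

theorem czc : c * z = z * c := S.comm_z C.cO.1

/-- Exclusion of an inverting involution commuting with `n`. -/
theorem no_invert {v : G} (hv : v ∈ Q) (hv2 : v * v = 1) (h1 : ¬ Eqv z v 1) (hu : ¬ Eqv z v u) :
    a * v * (a * v) ≠ 1 := fun e => by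
  have hvav : v * a * v = a⁻¹ := eq_inv_of_mul_eq_one_right (by rw [← e]; group)
  have hai : a⁻¹ * t = t * a⁻¹ := by
    rw [eq_mul_inv_iff_mul_eq, mul_assoc, ← C.at', inv_mul_cancel_left]
  have hva : v * a⁻¹ = a * v := by
    rw [← hvav, ← mul_assoc, ← mul_assoc, hv2, one_mul]
  refine C.vtv_not_V hv hv2 h1 hu (C.hinv _ ?_ ?_)
  · calc v * t * v * a = v * t * (v * a * v) * v := by
          rw [show v * t * (v * a * v) * v = v * t * v * a * (v * v) by group, hv2, mul_one]
      _ = v * (t * a⁻¹) * v := by rw [hvav]; group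
      _ = v * a⁻¹ * t * v := by rw [← hai]; group
      _ = a * (v * t * v) := by rw [hva]; group
  · rw [show v * t * v * (v * t * v) = v * t * (v * v) * t * v by group, hv2, mul_one, mul_assoc v t t,
      C.D.T.ht.2.1, mul_one, hv2]

theorem zn_cases {x : G} (hx : x ∈ zpowers n) : x = 1 ∨ x = n ∨ x = n⁻¹ := by
  obtain ⟨i, rfl⟩ := hx
  have hn2 : n ^ (2 : ℤ) = n⁻¹ := eq_inv_of_mul_eq_one_left (by
    rw [show (2 : ℤ) = ((2 : ℕ) : ℤ) from rfl, zpow_natCast, ← pow_succ, C.hn3])
  show n ^ i = 1 ∨ n ^ i = n ∨ n ^ i = n⁻¹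
  rw [← zpow_mod_orderOf, C.n_ord]
  rcases (by omega : i % ((3 : ℕ) : ℤ) = 0 ∨ i % ((3 : ℕ) : ℤ) = 1 ∨ i % ((3 : ℕ) : ℤ) = 2) with e | e | e <;>
    rw [e]
  exacts [Or.inl (zpow_zero n), Or.inr (Or.inl (zpow_one n)), Or.inr (Or.inr hn2)]

/-- The facts about the images in the action on six points. -/
theorem six : (a * (z * (c * u * c)) * (a * (z * (c * u * c))) ∈ zpowers n ∨
      a * (c * u * c) * (a * (c * u * c)) ∈ zpowers n) ∧
    (a * (z * (c * u * c)) * (a * (z * (c * u * c))) ∈ zpowers n →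
      c * a * c * a * (c * a * c) * z * (c * a * c * a * (c * a * c))⁻¹ * t =
        t * (c * a * c * a * (c * a * c) * z * (c * a * c * a * (c * a * c))⁻¹)) := by
  obtain ⟨f, hpt, hker⟩ := C.exists_six
  have hc2 := C.cO.2.1
  have ht2 := C.D.T.ht.2.1
  have hu2 := C.us.2.1
  have memX : ∀ {x : G}, n * x = x * n → x ∈ centralizer ({n} : Set G) := fun hx =>
    mem_centralizer_singleton_iff.2 hx.symm
  set zX : ↥(centralizer ({n} : Set G)) := ⟨z, memX C.nz⟩ with hzX
  set aX : ↥(centralizer ({n} : Set G)) := ⟨a, memX C.na⟩ with haX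
  set bX : ↥(centralizer ({n} : Set G)) := ⟨c * a * c, memX (C.cconj_X C.na)⟩ with hbX
  set vX : ↥(centralizer ({n} : Set G)) := ⟨c * u * c, memX (C.cconj_X C.nu)⟩ with hvX
  set uX : ↥(centralizer ({n} : Set G)) := ⟨u, memX C.nu⟩ with huX
  have hU : f aX * f zX * (f aX)⁻¹ = f uX := by
    rw [← map_inv, ← map_mul, ← map_mul]; exact congrArg f (Subtype.ext C.az)
  have hbz : c * a * c * z * (c * a * c)⁻¹ = c * u * c := by
    rw [mul_inv_rev, mul_inv_rev, S.t_inv C.cO, show c * a * c * z * (c * (a⁻¹ * c)) = c * a * (c * z) * c * a⁻¹ * c by group,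
      C.czc, show c * a * (z * c) * c * a⁻¹ * c = c * (a * z * (c * c) * a⁻¹) * c by group, hc2, mul_one, C.az]
  have hbv : c * a * c * (c * u * c) * (c * a * c)⁻¹ = z * (c * u * c) := by
    rw [mul_inv_rev, mul_inv_rev, S.t_inv C.cO,
      show c * a * c * (c * u * c) * (c * (a⁻¹ * c)) = c * a * (c * c) * u * (c * c) * a⁻¹ * c by group, hc2,
      mul_one, mul_one, show c * a * u * a⁻¹ * c = c * (a * u * a⁻¹) * c by group, C.au, ← mul_assoc c z u, C.czc]
    group
  have hV : f bX * f zX * (f bX)⁻¹ = f vX := by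
    rw [← map_inv, ← map_mul, ← map_mul]; exact congrArg f (Subtype.ext hbz)
  have hker1 : ∀ x : ↥(centralizer ({n} : Set G)), (x : G) = 1 → f x = 1 := fun x hx => by
    rw [show x = 1 from Subtype.ext hx, map_one]
  have hfix : ∀ {x : ↥(centralizer ({n} : Set G))}, (x : G) ∈ B → f x 0 = 0 := fun {x} hx =>
    (hpt x).2 ⟨0, _, hx, by rw [zpow_zero, one_mul]⟩
  have hB_of : ∀ {x : ↥(centralizer ({n} : Set G))}, f x 0 = 0 → (x : G) * x = 1 → (x : G) ∈ B :=
    fun {x} hx h2 => C.invol_mem ((hpt x).1 hx) h2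
  have hne : ∀ {x : ↥(centralizer ({n} : Set G))}, (x : G) ∉ zpowers n → f x ≠ 1 := fun {x} hx e =>
    hx ((hker x).1 e)
  have hzn : z ∉ zpowers n := fun hm => by
    rcases C.zn_cases hm with e | e | e
    · exact S.z_ne e
    · have := C.n_ord; rw [← e, S.hz] at this; omega
    · have := C.n_ord; rw [← orderOf_inv, ← e, S.hz] at this; omega
  have han : a ∉ zpowers n := fun hm => by
    obtain ⟨i, hi⟩ := hm
    have hi' : n ^ i = a := hi
    exact C.a_ne (hi' ▸ C.zpow_B (i := i) (by rw [hi']; exact C.aB))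
  have hbn : c * a * c ∉ zpowers n := fun hm => by
    obtain ⟨i, hi⟩ := hm
    refine han ⟨-i, ?_⟩
    show n ^ (-i) = a
    have h1 : c * n ^ i * c = a := by
      rw [show n ^ i = c * a * c from hi, show c * (c * a * c) * c = (c * c) * a * (c * c) by group, hc2]
      group
    rw [← h1, zpow_neg, ← inv_zpow, ← C.cn]
    nth_rewrite 2 [← S.t_inv C.cO]
    nth_rewrite 4 [← S.t_inv C.cO]
    rw [conj_zpow]
  have hz2 : f zX * f zX = 1 := by rw [← map_mul]; exact hker1 _ S.zz
  have ha3 : f aX ^ 3 = 1 := by rw [← map_pow]; exact hker1 _ C.a3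
  have hb3 : f bX ^ 3 = 1 := by
    rw [← map_pow]
    refine hker1 _ ?_
    show (c * a * c) ^ 3 = 1
    nth_rewrite 2 [← S.t_inv C.cO]
    rw [conj_pow, C.a3, mul_one, mul_inv_cancel]
  have hv0 : (f bX * f zX * (f bX)⁻¹) 0 ≠ 0 := by
    rw [hV]
    exact fun e => C.not_B C.up_sing.1 C.up_ne_one C.cu (hB_of e C.up_sing.2.1)
  have hvz : f bX * f zX * (f bX)⁻¹ * f zX = f zX * (f bX * f zX * (f bX)⁻¹) := by
    rw [hV, ← map_mul, ← map_mul]; exact congrArg f (Subtype.ext (S.comm_zQ C.up_sing.1))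
  have htab := SixCheck.perm_table hz2 (hne hzn) (hfix C.zB) ha3 (hne han) (hfix C.aB)
    (by rw [hU, ← map_inv, ← map_mul, ← map_mul, ← map_mul]; exact congrArg f (Subtype.ext C.au))
    hb3 (hne hbn) hv0 hvz
    (by rw [hV, ← map_inv, ← map_mul, ← map_mul, ← map_mul]; exact congrArg f (Subtype.ext hbv))
  rw [hV, hU] at htab
  obtain ⟨h1, h2⟩ := htab
  refine ⟨?_, fun hnorm => ?_⟩
  · refine h1.imp (fun e => ?_) (fun e => ?_)
    · rw [← map_mul, ← map_mul, ← map_mul] at e; exact (hker _).1 e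
    · rw [← map_mul, ← map_mul] at e; exact (hker _).1 e
  have e1 : f aX * (f zX * f vX) * (f aX * (f zX * f vX)) = 1 := by
    rw [← map_mul, ← map_mul, ← map_mul]; exact (hker _).2 hnorm
  have e2 : f bX * (f zX * f uX) * (f bX * (f zX * f uX)) = 1 := by
    rw [← map_mul, ← map_mul, ← map_mul]
    refine (hker _).2 ?_
    show c * a * c * (z * u) * (c * a * c * (z * u)) ∈ zpowers n
    obtain ⟨i, hi⟩ := hnorm
    refine ⟨-i, ?_⟩
    show n ^ (-i) = _
    have e : c * (a * (z * (c * u * c))) * c⁻¹ = c * a * c * (z * u) := by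
      calc c * (a * (z * (c * u * c))) * c⁻¹ = c * a * (z * c) * u := by group
        _ = c * a * (c * z) * u := by rw [C.czc]
        _ = _ := by group
    calc n ^ (-i) = c * n ^ i * c⁻¹ := by
          rw [← conj_zpow, S.t_inv C.cO, C.cn, inv_zpow, zpow_neg]
      _ = c * (a * (z * (c * u * c)) * (a * (z * (c * u * c)))) * c⁻¹ := by
          rw [show n ^ i = _ from hi]
      _ = c * (a * (z * (c * u * c))) * c⁻¹ * (c * (a * (z * (c * u * c))) * c⁻¹) := by group
      _ = _ := by rw [e]
  rcases h2 e1 e2 with h0 | ⟨h4, hfx, hnc⟩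
  · -- the conjugate of `z` lies in `B`
    rw [← map_mul, ← map_mul, ← map_mul, ← map_inv, ← map_mul] at h0
    have hmem := hB_of h0 (by
      exact (show ∀ g : G, g * z * g⁻¹ * (g * z * g⁻¹) = 1 from fun g => by
        rw [show g * z * g⁻¹ * (g * z * g⁻¹) = g * (z * z) * g⁻¹ by group, S.zz]; group) _)
    exact C.D.hBX _ hmem
  exfalso
  -- the second point would give an involution centralising `z`
  set p := a * (c * a * c)⁻¹ with hp
  set y := p ^ 6 with hy
  set pX : ↥(centralizer ({n} : Set G)) := aX * bX⁻¹ with hpX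
  have hfp : f pX = f aX * (f bX)⁻¹ := by rw [map_mul, map_inv]
  have hfy : f (pX ^ 6) = (f aX * (f bX)⁻¹) ^ 2 := by
    rw [map_pow, hfp]
    exact (pow_add _ 4 2).trans (by rw [h4, one_mul])
  have hy2 : y * y = 1 := by
    have h12 : (p ^ 4) ∈ zpowers n := by
      refine (hker (pX ^ 4)).1 ?_
      rw [map_pow, hfp, h4]
    obtain ⟨i, hi⟩ := h12
    rw [hy, ← pow_add, show 6 + 6 = 4 * 3 from rfl, pow_mul, ← show n ^ i = p ^ 4 from hi, ← zpow_natCast,
      ← zpow_mul, mul_comm, zpow_mul, zpow_natCast, C.hn3, one_zpow]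
  have hyc : c * y * c = y := by
    have e : c * p * c⁻¹ = p⁻¹ := by
      simp [hp, mul_assoc, S.t_inv C.cO, hc2]
    nth_rewrite 2 [← S.t_inv C.cO]
    rw [hy, ← conj_pow, e, inv_pow, ← hy, inv_eq_of_mul_eq_one_right hy2]
  set v := c * u * c with hv
  have hv2 : v * v = 1 := C.up_sing.2.1
  have hyB : v * y * v ∈ B := by
    refine hB_of (x := vX * pX ^ 6 * vX) ?_ ?_
    · rw [map_mul, map_mul, hfy, Equiv.Perm.mul_apply, Equiv.Perm.mul_apply, hfx, ← Equiv.Perm.mul_apply,
        ← map_mul, hker1 _ hv2]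
      rfl
    · show v * y * v * (v * y * v) = 1
      rw [show v * y * v * (v * y * v) = v * y * (v * v) * y * v by group, hv2, mul_one, mul_assoc v y y, hy2,
        mul_one, hv2]
  have hyt : y * (v * t * v) = v * t * v * y := by
    have h1 := C.D.hBX _ hyB
    calc y * (v * t * v) = (v * v) * y * (v * t * v) := by rw [hv2, one_mul]
      _ = v * ((v * y * v) * t) * v := by group
      _ = v * t * v * y * (v * v) := by rw [h1]; group
      _ = v * t * v * y := by rw [hv2, mul_one]
  have hyc' : y * c = c * y := by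
    calc y * c = c * y * c * c := by rw [hyc]
      _ = c * y := by rw [mul_assoc (c * y), hc2, mul_one]
  have hcube : c * (v * t * v) * (c * (v * t * v)) * (c * (v * t * v)) = z := by
    set k := c * t with hk
    have hk3 : k * k * k = 1 := C.ct
    have hctc : c * t * c = t * c * t := by
      calc c * t * c = (c * t * c) * ((t * c * t) * (t * c * t)) := by
            rw [show (t * c * t) * (t * c * t) = t * c * (t * t) * c * t by group, ht2, mul_one,
              show t * c * c * t = t * (c * c) * t by group, hc2, mul_one, ht2, mul_one]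
        _ = (c * t * (c * t) * (c * t)) * (t * c * t) := by group
        _ = t * c * t := by rw [C.ct, one_mul]
    set w := t * v * t with hw
    have hw2 : w * w = 1 := by
      rw [hw, show t * v * t * (t * v * t) = t * v * (t * t) * v * t by group, ht2, mul_one, mul_assoc t v v,
        hv2, mul_one, ht2]
    have htu : t * u * t = u := by rw [C.ut, mul_assoc, ht2, mul_one]
    have k_u : k * u * k⁻¹ = v := by
      calc k * u * k⁻¹ = c * (t * u * t⁻¹) * c⁻¹ := by rw [hk]; group
        _ = v := by rw [S.t_inv C.D.T.ht, htu, S.t_inv C.cO]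
    have k_v : k * v * k⁻¹ = w := by
      calc k * v * k⁻¹ = (c * t * c) * u * (c * t⁻¹ * c⁻¹) := by rw [hk, hv]; group
        _ = (t * c * t) * u * (t * c * t) := by rw [S.t_inv C.D.T.ht, S.t_inv C.cO, hctc]
        _ = t * c * (t * u * t) * c * t := by group
        _ = w := by rw [htu, hw, hv]; group
    have k_w : k * w * k⁻¹ = u := by
      calc k * w * k⁻¹ = c * (t * t) * v * (t * t⁻¹) * c⁻¹ := by rw [hk, hw]; group
        _ = (c * c) * u * (c * c⁻¹) := by rw [ht2, hv]; group
        _ = u := by rw [hc2]; group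
    have eqk : ∀ {x y : G}, Eqv z x y → Eqv z (k * x * k⁻¹) (k * y * k⁻¹) :=
      S.eqv_conj (mul_mem C.cO.1 C.D.T.ht.1)
    have nvw : ¬ Eqv z w v := fun e => C.cu (by
      have h1 := eqk e
      rw [k_w, k_v] at h1
      have h2 := eqk h1
      rw [k_u, k_w] at h2
      exact h2)
    have nwu : ¬ Eqv z w u := fun e => C.cu (by
      have h1 := eqk e
      rw [k_w, k_u] at h1
      exact S.eqv_symm h1)
    have hws : Sing z Q w := S.tconj_sing C.D.T.ht C.up_sing
    have a1 : v * u = z * (u * v) := S.sing_anticomm C.up_sing C.us fun e => C.cu (S.eqv_symm e)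
    have a2 : u * w = z * (w * u) := S.sing_anticomm C.us hws nwu
    have a3 : v * w = z * (w * v) := S.sing_anticomm C.up_sing hws nvw
    have ecv : c * (v * t * v) = u * k * v := by
      rw [hv, hk, show c * (c * u * c * t * (c * u * c)) = (c * c) * u * c * t * (c * u * c) by group, hc2]
      group
    rw [ecv]
    have ek1 : k * (v * u) * k⁻¹ = w * v := by
      calc k * (v * u) * k⁻¹ = (k * v * k⁻¹) * (k * u * k⁻¹) := by group
        _ = _ := by rw [k_v, k_u]
    have ek2 : k * (w * v) * k⁻¹ = u * w := by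
      calc k * (w * v) * k⁻¹ = (k * w * k⁻¹) * (k * v * k⁻¹) := by group
        _ = _ := by rw [k_w, k_v]
    have hcz : ∀ x ∈ Q, x * z = z * x := fun x hx => S.comm_zQ hx
    have euwu : u * w * u = z * w := by
      rw [a2, show z * (w * u) * u = z * w * (u * u) by group, hu2, mul_one]
    have evwv : v * w * v = z * w := by
      rw [a3, show z * (w * v) * v = z * w * (v * v) by group, hv2, mul_one]
    calc u * k * v * (u * k * v) * (u * k * v)
        = u * (k * (v * u) * k⁻¹) * (k * (k * (v * u) * k⁻¹) * k⁻¹) * (k * k * k) * v := by group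
      _ = u * (w * v) * (u * w) * v := by rw [ek1, ek2, hk3, mul_one]
      _ = u * w * (v * u) * w * v := by group
      _ = u * w * z * (u * v) * w * v := by rw [a1]; group
      _ = z * ((u * w * u) * (v * w * v)) := by
          rw [hcz _ (mul_mem C.us.1 hws.1)]; group
      _ = z * (z * (w * z) * w) := by rw [euwu, evwv]; group
      _ = z := by
          rw [hcz w hws.1, show z * (z * (z * w) * w) = z * (z * z) * (w * w) by group, S.zz, hw2]
          simp
  have hyz : y * z = z * y := by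
    rw [← hcube]
    exact (((Commute.mul_right hyc' hyt).mul_right (Commute.mul_right hyc' hyt)).mul_right
      (Commute.mul_right hyc' hyt)).eq
  refine hnc ?_
  rw [← hfy, ← map_mul, ← map_mul]
  exact congrArg f (Subtype.ext hyz)

end Data

end CfsgLib.HJType
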