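import Cfsg.Agent.Lib.HJType.LocalThree
import Cfsg.Agent.Lib.HJType.UniqueLocal
import Cfsg.Agent.Lib.HJType.SixCheck

/-!
The centraliser of the element of order three acting on six points, and the relations it yields.
-/

set_option autoImplicit false
set_option linter.unusedSectionVars false

namespace CfsgLib.HJType

open Subgroup

variable {G : Type*} [Group G] [Finite G] {z : G} {Q : Subgroup G}

/-- The normalised configuration. -/
structure Data (S : Setting z Q) (t h : G) (B : Subgroup G) (n a u c : G) : Prop where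
  D : TData S t h B
  hn3 : n ^ 3 = 1
  hnt : n * t * n⁻¹ ≠ t
  hnV : ∀ v ∈ vGroup S t h, n * v * n⁻¹ ∈ vGroup S t h
  hnB : ∀ y ∈ B, n * y = y * n
  hcard : Nat.card (centralizer ({n} : Set G)) = 1080
  aB : a ∈ B
  a3 : a ^ 3 = 1
  az : a * z * a⁻¹ = u
  au : a * u * a⁻¹ = z * u
  us : Sing z Q u
  ut : t * u = u * t
  hinv : ∀ v, v * a = a * v → v * v = 1 → v ∈ vGroup S t h
  cO : Outer z Q c
  cn : c * n * c = n⁻¹
  ct : c * t * (c * t) * (c * t) = 1
  cu : ¬ Eqv z (c * u * c) u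

/-- The product of `⟨n⟩` with a subgroup it centralises. -/
def prodZ (n : G) (B : Subgroup G) (hnB : ∀ y ∈ B, n * y = y * n) : Subgroup G where
  carrier := {x | ∃ i : ℤ, ∃ y ∈ B, x = n ^ i * y}
  one_mem' := ⟨0, 1, one_mem _, by simp⟩
  mul_mem' := by
    rintro _ _ ⟨i, y, hy, rfl⟩ ⟨j, y', hy', rfl⟩
    refine ⟨i + j, y * y', mul_mem hy hy', ?_⟩
    have h : Commute (n ^ j) y := Commute.zpow_left (hnB y hy) j
    calc n ^ i * y * (n ^ j * y') = n ^ i * (y * n ^ j) * y' := by group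
      _ = n ^ i * (n ^ j * y) * y' := by rw [h.eq]
      _ = n ^ (i + j) * (y * y') := by rw [zpow_add]; group
  inv_mem' := by
    rintro _ ⟨i, y, hy, rfl⟩
    refine ⟨-i, y⁻¹, inv_mem hy, ?_⟩
    have h : Commute (n ^ (-i)) y⁻¹ := Commute.zpow_left (hnB _ (inv_mem hy)) (-i)
    rw [mul_inv_rev, ← zpow_neg, h.eq]

namespace Data

variable {S : Setting z Q} {t h : G} {B : Subgroup G} {n a u c : G} (C : Data S t h B n a u c)
include C

theorem zB : z ∈ B := C.D.UB (mem_inf.2 ⟨S.z_mem C.D.T.ht, S.hzQ⟩)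

theorem nC : n ∈ centralizer ({z} : Set G) := mem_centralizer_singleton_iff.2 (C.hnB z C.zB)

theorem u_mem : u ∈ S.eGroup t ⊓ Q :=
  mem_inf.2 ⟨S.mem_eGroup.2 ⟨S.hQC C.us.1, C.ut.symm⟩, C.us.1⟩

theorem uB : u ∈ B := C.D.UB C.u_mem

theorem n_ne : n ≠ 1 := fun e => C.hnt (by rw [e]; group)

theorem n_ord : orderOf n = 3 := orderOf_eq_prime (hp := ⟨Nat.prime_three⟩) C.hn3 C.n_ne

theorem uList {x : G} (hx : x ∈ S.eGroup t ⊓ Q) : Eqv z x 1 ∨ Eqv z x u := by
  obtain ⟨-, w, -, -, hiff⟩ := S.eGroup_inf C.D.T.ht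
  have hw : Eqv z u w := by
    rcases (hiff u).1 C.u_mem with e | e | e | e
    · exact absurd e C.us.2.2.1
    · exact absurd e C.us.2.2.2
    · exact Or.inl e
    · exact Or.inr e
  rcases (hiff x).1 hx with e | e | e | e
  · exact Or.inl (Or.inl e)
  · exact Or.inl (Or.inr (by rw [e, mul_one]))
  · exact Or.inr (e ▸ S.eqv_symm hw)
  · exact Or.inr (e ▸ S.eqv_trans (S.eqv_zmul w) (S.eqv_symm hw))

theorem not_comm {v : G} (hv : v ∈ Q) (h1 : ¬ Eqv z v 1) (hu : ¬ Eqv z v u) : v * t ≠ t * v := fun e =>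
  (C.uList (mem_inf.2 ⟨S.mem_eGroup.2 ⟨S.hQC hv, e⟩, hv⟩)).elim h1 hu

theorem not_B {v : G} (hv : v ∈ Q) (h1 : ¬ Eqv z v 1) (hu : ¬ Eqv z v u) : v ∉ B := fun hB =>
  C.not_comm hv h1 hu (C.D.hBX v hB)

theorem vtv_not_V {v : G} (hv : v ∈ Q) (hv2 : v * v = 1) (h1 : ¬ Eqv z v 1) (hu : ¬ Eqv z v u) :
    v * t * v ∉ vGroup S t h := fun hV => by
  refine C.not_comm hv h1 hu ?_
  have hprod : v * t * v * t ∈ vGroup S t h := mul_mem hV C.D.T.parts.2.2.2
  have hQ : v * t * v * t ∈ Q := by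
    rw [show v * t * v * t = v * (t * v * t) by group]
    exact mul_mem hv (S.tconj_mem C.D.T.ht hv)
  have e : v * t * v * t = 1 := by
    by_contra hne
    exact C.D.T.v_not_Q hprod hne hQ
  calc v * t = v * t * (v * v) := by rw [hv2, mul_one]
    _ = v * t * v * (t * t) * v := by rw [C.D.T.ht.2.1]; group
    _ = (v * t * v * t) * (t * v) := by group
    _ = t * v := by rw [e, one_mul]

/-- The second singular line fixed by `n`. -/
theorem up_sing : Sing z Q (c * u * c) := by
  have := S.sing_conj_mem C.cO.1 C.us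
  rwa [S.t_inv C.cO] at this

theorem up_ne_one : ¬ Eqv z (c * u * c) 1 := fun e =>
  (S.eqv_one e).elim C.up_sing.2.2.1 C.up_sing.2.2.2

theorem cnc : c * n⁻¹ * c = n := by
  rw [← C.cn, show c * (c * n * c) * c = (c * c) * n * (c * c) by group, C.cO.2.1]; group

theorem cconj_X {x : G} (hx : n * x = x * n) : n * (c * x * c) = c * x * c * n := by
  have h1 : Commute n⁻¹ x := Commute.inv_left hx
  calc n * (c * x * c) = c * n⁻¹ * c * (c * x * c) := by rw [C.cnc]
    _ = c * (n⁻¹ * (c * c) * x) * c := by group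
    _ = c * (x * n⁻¹) * c := by rw [C.cO.2.1, mul_one, h1.eq]
    _ = c * x * (c * c) * n⁻¹ * c := by rw [C.cO.2.1]; group
    _ = c * x * c * (c * n⁻¹ * c) := by group
    _ = c * x * c * n := by rw [C.cnc]

theorem na : n * a = a * n := C.hnB a C.aB
theorem nu : n * u = u * n := C.hnB u C.uB
theorem nz : n * z = z * n := C.hnB z C.zB
theorem at' : a * t = t * a := C.D.hBX a C.aB

/-- An involution of `⟨n⟩ × B` lies in `B`. -/
theorem invol_mem {x : G} (hx : x ∈ prodZ n B C.hnB) (h2 : x * x = 1) : x ∈ B := by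
  obtain ⟨i, y, hy, rfl⟩ := hx
  have hcm : Commute (n ^ i) y := Commute.zpow_left (C.hnB y hy) i
  have h3 : (n ^ i) ^ 3 = 1 := by
    rw [← zpow_natCast, ← zpow_mul, mul_comm, zpow_mul, zpow_natCast, C.hn3, one_zpow]
  have hmem : n ^ i * n ^ i ∈ B := by
    have e : n ^ i * n ^ i = (y * y)⁻¹ := eq_inv_of_mul_eq_one_left (by
      rw [← h2, show n ^ i * y * (n ^ i * y) = n ^ i * (y * n ^ i) * y by group, ← hcm.eq]; group)
    exact e ▸ inv_mem (mul_mem hy hy)
  have hB : n ^ i ∈ B := by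
    have e : n ^ i = (n ^ i * n ^ i) * (n ^ i * n ^ i) := by
      calc n ^ i = (n ^ i) ^ 3 * n ^ i := by rw [h3, one_mul]
        _ = _ := by group
    exact e ▸ mul_mem hmem hmem
  exact mul_mem hB hy

theorem zpow_B {i : ℤ} (hi : n ^ i ∈ B) : n ^ i = 1 :=
  C.D.b_center hi fun y hy => ((Commute.zpow_left (C.hnB y hy) i).eq).symm

theorem card_W : Nat.card ↥(prodZ n B C.hnB) = 180 := by
  obtain ⟨e⟩ := C.D.equiv
  let g : ↥(zpowers n) × ↥B → ↥(prodZ n B C.hnB) := fun p =>
    ⟨p.1 * p.2, by obtain ⟨i, hi⟩ := p.1.2; exact ⟨i, p.2, p.2.2, by rw [← hi]⟩⟩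
  have hg : Function.Bijective g := by
    constructor
    · rintro ⟨⟨x, hx⟩, ⟨y, hy⟩⟩ ⟨⟨x', hx'⟩, ⟨y', hy'⟩⟩ e
      have e' : x * y = x' * y' := congrArg Subtype.val e
      obtain ⟨i, rfl⟩ := hx
      obtain ⟨j, rfl⟩ := hx'
      simp only at e'
      have hm : n ^ (-j + i) = y' * y⁻¹ := by
        rw [zpow_add]
        calc n ^ (-j) * n ^ i = n ^ (-j) * (n ^ i * y) * y⁻¹ := by group
          _ = y' * y⁻¹ := by rw [e']; group
      have h1 := C.zpow_B (i := -j + i) (hm ▸ mul_mem hy' (inv_mem hy))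
      rw [zpow_add, zpow_neg, inv_mul_eq_one] at h1
      refine Prod.ext (Subtype.ext h1.symm) (Subtype.ext ?_)
      simp only at h1 ⊢
      rw [h1] at e'
      exact mul_left_cancel e'
    · rintro ⟨_, i, y, hy, rfl⟩
      exact ⟨(⟨n ^ i, i, rfl⟩, ⟨y, hy⟩), rfl⟩
  rw [← Nat.card_congr (Equiv.ofBijective g hg), Nat.card_prod, Nat.card_zpowers, C.n_ord,
    Nat.card_congr e.toEquiv, a5_card]

/-- The centraliser of `n` on six points. -/
theorem exists_six : ∃ f : ↥(centralizer ({n} : Set G)) →* Equiv.Perm (Fin 6),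
    (∀ x, f x 0 = 0 ↔ (x : G) ∈ prodZ n B C.hnB) ∧ (∀ x, f x = 1 ↔ (x : G) ∈ zpowers n) := by
  classical
  set X := centralizer ({n} : Set G) with hX
  set W := prodZ n B C.hnB with hW
  have hWX : W ≤ X := by
    rintro _ ⟨i, y, hy, rfl⟩
    exact mem_centralizer_singleton_iff.2
      (((Commute.refl n).zpow_left i).mul_left (Commute.symm (C.hnB y hy))).eq
  set W' := W.subgroupOf X with hW'
  have := Fintype.ofFinite (↥X ⧸ W')
  have h6 : Fintype.card (↥X ⧸ W') = 6 := by
    have h := Subgroup.card_eq_card_quotient_mul_card_subgroup W'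
    rw [C.hcard, Nat.card_congr (Subgroup.subgroupOfEquivOfLe hWX).toEquiv, C.card_W,
      Nat.card_eq_fintype_card] at h
    omega
  let eq0 : ↥X ⧸ W' ≃ Fin 6 := Fintype.equivFinOfCardEq h6
  let e0 : ↥X ⧸ W' ≃ Fin 6 := eq0.trans (Equiv.swap (eq0 ((1 : ↥X) : ↥X ⧸ W')) 0)
  have he0 : e0 ((1 : ↥X) : ↥X ⧸ W') = 0 := by simp [e0]
  let f : ↥X →* Equiv.Perm (Fin 6) := e0.permCongrHom.toMonoidHom.comp (MulAction.toPermHom ↥X (↥X ⧸ W'))
  have hf : ∀ (x : ↥X) (q : ↥X ⧸ W'), f x (e0 q) = e0 (x • q) := fun x q => by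
    show e0 (x • e0.symm (e0 q)) = _
    rw [Equiv.symm_apply_apply]
  have hpt : ∀ x, f x 0 = 0 ↔ (x : G) ∈ W := by
    intro x
    rw [← he0, hf, e0.injective.eq_iff, MulAction.Quotient.smul_coe, smul_eq_mul, mul_one,
      QuotientGroup.eq, mul_one, inv_mem_iff, mem_subgroupOf]
  refine ⟨f, hpt, fun x => ⟨fun hx => ?_, fun hx => ?_⟩⟩
  · -- the kernel meets `B` trivially
    obtain ⟨e⟩ := C.D.equiv
    have hBX : B ≤ X := fun y hy => mem_centralizer_singleton_iff.2 (C.hnB y hy).symm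
    let ι : ↥B →* ↥X := Subgroup.inclusion hBX
    rcases a5_simple_of_normal e (inferInstance : (f.comp ι).ker.Normal) with hk | hk
    · obtain ⟨i, y, hy, hxy⟩ := (hpt x).1 (by rw [hx]; rfl)
      have hn1 : f (⟨n, mem_centralizer_singleton_iff.2 rfl⟩ ^ i) = 1 := by
        rw [map_zpow]
        suffices hn : f ⟨n, mem_centralizer_singleton_iff.2 rfl⟩ = 1 by rw [hn, one_zpow]
        refine Equiv.ext fun p => ?_
        obtain ⟨q, rfl⟩ := e0.surjective p
        rw [hf, Equiv.Perm.one_apply]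
        congr 1
        induction q using QuotientGroup.induction_on with
        | _ g =>
          rw [MulAction.Quotient.smul_coe, smul_eq_mul, QuotientGroup.eq, mem_subgroupOf]
          refine ⟨-1, 1, one_mem _, ?_⟩
          push_cast
          have hg : (g : G) * n = n * g := mem_centralizer_singleton_iff.1 g.2
          rw [show (n * (g : G))⁻¹ = (g * n)⁻¹ by rw [hg]]
          group
      have hy1 : f (ι ⟨y, hy⟩) = 1 := by
        have e1 : x = ⟨n, mem_centralizer_singleton_iff.2 rfl⟩ ^ i * ι ⟨y, hy⟩ :=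
          Subtype.ext (by rw [hxy]; rfl)
        rw [e1, map_mul, hn1, one_mul] at hx
        exact hx
      have hy' : (⟨y, hy⟩ : ↥B) ∈ (f.comp ι).ker := hy1
      rw [hk, mem_bot] at hy'
      have : y = 1 := congrArg Subtype.val hy'
      exact ⟨i, by rw [hxy, this, mul_one]⟩
    · exfalso
      -- `B` would be fixed by the conjugation with the second singular line
      set v := c * u * c with hv
      have hv2 : v * v = 1 := C.up_sing.2.1
      have hvX : v ∈ X := mem_centralizer_singleton_iff.2 (C.cconj_X C.nu).symm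
      have hall : ∀ y ∈ B, v * y * v ∈ W := by
        intro y hy
        have hy1 : f (ι ⟨y, hy⟩) = 1 := (show (⟨y, hy⟩ : ↥B) ∈ (f.comp ι).ker from hk ▸ Subgroup.mem_top _)
        have := (hpt (⟨v, hvX⟩ * ι ⟨y, hy⟩ * ⟨v, hvX⟩)).1 (by
          rw [map_mul, map_mul, hy1, mul_one, ← map_mul,
            show (⟨v, hvX⟩ * ⟨v, hvX⟩ : ↥X) = 1 from Subtype.ext hv2, map_one]; rfl)
        exact this
      obtain ⟨w, hw, haw⟩ := a5_two_invol (e ⟨a, C.aB⟩)
      obtain ⟨w', rfl⟩ := e.surjective w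
      have hw2 : (w' : G) * w' = 1 := congrArg Subtype.val
        (e.injective (by rw [map_mul, hw, map_one]) : w' * w' = 1)
      have haw2 : a * w' * (a * w') = 1 := congrArg Subtype.val
        (e.injective (by rw [← map_one e] at haw; simpa only [map_mul] using haw) :
          (⟨a, C.aB⟩ : ↥B) * w' * (⟨a, C.aB⟩ * w') = 1)
      have hBconj : ∀ y ∈ B, y * y = 1 → v * y * v ∈ B := fun y hy hy2 => C.invol_mem (hall y hy) (by
        rw [show v * y * v * (v * y * v) = v * y * (v * v) * y * v by group, hv2, mul_one,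
          mul_assoc v y y, hy2, mul_one, hv2])
      have hva : v * a * v ∈ B := by
        have e1 : v * a * v = (v * (a * w') * v) * (v * w' * v) := by
          rw [show v * (a * w') * v * (v * w' * v) = v * a * w' * (v * v) * w' * v by group, hv2, mul_one,
            show v * a * w' * w' * v = v * a * (w' * w') * v by group, hw2, mul_one]
        exact e1 ▸ mul_mem (hBconj _ (mul_mem C.aB w'.2) haw2) (hBconj _ w'.2 hw2)
      refine C.vtv_not_V C.up_sing.1 hv2 C.up_ne_one C.cu (C.hinv _ ?_ ?_)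
      · have h1 := C.D.hBX _ hva
        calc v * t * v * a = v * t * (v * a * v) * v := by
              rw [show v * t * (v * a * v) * v = v * t * v * a * (v * v) by group, hv2, mul_one]
          _ = v * ((v * a * v) * t) * v := by rw [h1]; group
          _ = (v * v) * a * (v * t * v) := by group
          _ = a * (v * t * v) := by rw [hv2, one_mul]
      · rw [show v * t * v * (v * t * v) = v * t * (v * v) * t * v by group, hv2, mul_one, mul_assoc v t t,
          C.D.T.ht.2.1, mul_one, hv2]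
  · obtain ⟨i, hi⟩ := hx
    refine Equiv.ext fun p => ?_
    obtain ⟨q, rfl⟩ := e0.surjective p
    rw [hf, Equiv.Perm.one_apply]
    congr 1
    induction q using QuotientGroup.induction_on with
    | _ g =>
      rw [MulAction.Quotient.smul_coe, smul_eq_mul, QuotientGroup.eq, mem_subgroupOf]
      refine ⟨-i, 1, one_mem _, ?_⟩
      push_cast
      have hg : Commute (g : G) ((x : ↥X) : G) := by
        rw [← hi]
        exact Commute.zpow_right (mem_centralizer_singleton_iff.1 g.2) i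
      rw [show ((x : G) * (g : G))⁻¹ = ((g : G) * x)⁻¹ by rw [hg.eq], ← hi]
      group

end Data

end CfsgLib.HJType
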