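import Cfsg.Agent.Lib.HJType.UniqueExists
import Cfsg.Agent.Lib.HJType.Small
import Cfsg.Agent.Lib.HJType.TableData

/-!
Uniqueness of the group of Hall-Janko type: the relations determine the action on the 315 cosets of
the centraliser of `z`.
-/

set_option autoImplicit false
set_option linter.unusedSectionVars false

namespace CfsgLib.HJType

open Subgroup CfsgLib.Presented

variable {G : Type*} [Group G] {z : G} {Q : Subgroup G}

/-- The values of the letters. -/
def letters (z u t c n a : G) (i : ℕ) : G := [z, u, t, c, n, n⁻¹, a, a⁻¹].getD i 1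

section Words

variable {x y : G}

theorem word_sq (x2 : x * x = 1) (y2 : y * y = 1) (h : x * y = y * x) : x * (y * (x * y)) = 1 := by
  rw [h, ← mul_assoc y y x, y2, one_mul, x2]

theorem word_left (x2 : x * x = 1) (h : x * y = y * x) : x * (y * (x * y⁻¹)) = 1 := by
  rw [← mul_assoc y x, ← h, show x * (x * y * y⁻¹) = x * x by group, x2]

theorem word_right (y2 : y * y = 1) (h : x * y = y * x) : x * (y * (x⁻¹ * y)) = 1 := by
  rw [← mul_assoc x y, h, show y * x * (x⁻¹ * y) = y * y by group, y2]

theorem word_comm (h : x * y = y * x) : x * (y * (x⁻¹ * y⁻¹)) = 1 := by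
  rw [← mul_assoc x y, h]; group

end Words

theorem letters_rels {u t c n a : G} (R : Rels z u t c n a) :
    ∀ w ∈ TableData.cert.rels, evW (letters z u t c n a) w = 1 := by
  intro w hw
  change w ∈ TableData.relWords at hw
  simp only [TableData.relWords, List.mem_cons, List.mem_nil_iff, or_false] at hw
  rcases hw with rfl | rfl | rfl | rfl | rfl | rfl | rfl | rfl | rfl | rfl | rfl | rfl | rfl | rfl |
    rfl | rfl | rfl | rfl | rfl | rfl | rfl | rfl | rfl <;>
    simp only [evW_cons, evW_nil, mul_one, letters, List.getD_cons_zero, List.getD_cons_succ]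
  · exact R.z2
  · exact R.u2
  · exact R.t2
  · exact R.c2
  · rw [← mul_assoc]; exact R.n3
  · exact mul_inv_cancel n
  · rw [← mul_assoc]; exact R.a3
  · exact mul_inv_cancel a
  · exact word_sq R.z2 R.u2 R.zu
  · exact word_sq R.z2 R.t2 R.zt
  · exact word_left R.z2 R.zn
  · exact word_sq R.z2 R.c2 R.zc
  · exact word_sq R.u2 R.t2 R.ut
  · exact word_left R.u2 R.un
  · simpa only [mul_assoc] using R.nt
  · exact word_right R.t2 R.tta
  · exact word_comm R.an
  · rw [show a * (z * (a⁻¹ * u)) = a * z * a⁻¹ * u by group, R.az, R.u2]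
  · rw [show a * (u * (a⁻¹ * (u * z))) = a * u * a⁻¹ * (u * z) by group, R.au,
      show z * u * (u * z) = z * (u * u) * z by group, R.u2, mul_one, R.z2]
  · simpa only [mul_assoc] using R.cn
  · simpa only [mul_assoc] using R.ct
  · simpa only [mul_assoc] using R.two
  · set g := c * a * c * a * (c * a * c) with hg
    have hc : c⁻¹ = c := inv_eq_of_mul_eq_one_right R.c2
    have hgi : g⁻¹ = c * (a⁻¹ * (c * (a⁻¹ * (c * (a⁻¹ * c))))) := by
      simp only [hg, mul_inv_rev, hc, mul_assoc]
    have hP : g * z * g⁻¹ * (g * z * g⁻¹) = 1 := by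
      rw [show g * z * g⁻¹ * (g * z * g⁻¹) = g * (z * z) * g⁻¹ by group, R.z2]; group
    have h := word_sq hP R.t2 R.point
    rw [hgi, hg] at h
    simpa only [mul_assoc] using h

theorem letters_inv (u t c n a : G) (R : Rels z u t c n a) :
    ∀ x, x < TableData.cert.R.A.eps →
      letters z u t c n a (TableData.cert.R.A.invl x) * letters z u t c n a x = 1 := by
  have hl : ∀ x, x < 8 → TableData.cert.R.A.invl x = [0, 1, 2, 3, 5, 4, 7, 6].getD x 0 := by decide
  intro x hx
  have hx' : x < 8 := hx
  rw [hl x hx']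
  interval_cases x <;> simp [letters, R.z2, R.u2, R.t2, R.c2]

namespace Setting

variable [Finite G] (S : Setting z Q)
include S

/-- A subgroup containing the centraliser and moving `z` inside `Q` is everything. -/
theorem eq_top_of_moved {K : Subgroup G} (hC : centralizer ({z} : Set G) ≤ K) {g : G} (hg : g ∈ K)
    (hs : Sing z Q (g * z * g⁻¹)) : K = ⊤ := by
  set z' : K := ⟨z, hC S.zC⟩ with hz'
  have hQK : Q ≤ K := fun x hx => hC (S.hQC hx)
  have hcC : ∀ x : K, x ∈ centralizer ({z'} : Set K) → (x : G) ∈ centralizer ({z} : Set G) := fun x hx =>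
    mem_centralizer_singleton_iff.2 (congrArg Subtype.val (mem_centralizer_singleton_iff.1 hx))
  have hCc : ∀ x : K, (x : G) ∈ centralizer ({z} : Set G) → x ∈ centralizer ({z'} : Set K) := fun x hx =>
    mem_centralizer_singleton_iff.2 (Subtype.ext (mem_centralizer_singleton_iff.1 hx :))
  let ι : ↥(centralizer ({z'} : Set K)) →* ↥(centralizer ({z} : Set G)) :=
    { toFun := fun x => ⟨x.1.1, hcC x.1 x.2⟩
      map_one' := rfl
      map_mul' := fun _ _ => rfl }
  obtain ⟨t, ht, hzt⟩ := S.exists_outer
  have ht1 : t ≠ 1 := fun e => ht.2.2 (e ▸ one_mem Q)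
  have ord : ∀ {x : K}, (x : G) * x = 1 → (x : G) ≠ 1 → orderOf x = 2 := fun {x} h1 h2 =>
    orderOf_eq_two.2 ⟨Subtype.ext h1, fun e => h2 (congrArg Subtype.val e)⟩
  let S' : Setting z' (Q.subgroupOf K) :=
    { hz := ord S.zz S.z_ne
      hQC := fun x hx => hCc x (S.hQC hx)
      norm := fun c hc y hy => S.norm c.1 (hcC c hc) y.1 hy
      card := by rw [Nat.card_congr (Subgroup.subgroupOfEquivOfLe hQK).toEquiv, S.card]
      hzQ := S.hzQ
      sq := fun x hx => (S.sq x.1 hx).imp (fun h => Subtype.ext h) fun h => Subtype.ext h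
      com := fun x hx y hy => (S.com x.1 hx y.1 hy).imp (fun h => Subtype.ext h) fun h => Subtype.ext h
      cen := fun d hd h => (S.cen d.1 hd fun x hx => congrArg Subtype.val (h ⟨x, hQK hx⟩ hx)).imp
        (fun h => Subtype.ext h) fun h => Subtype.ext h
      self := fun g hg h => S.self g.1 (hcC g hg) fun y hy => congrArg Subtype.val (h ⟨y, hQK hy⟩ hy)
      φ := S.φ.comp ι
      surj := fun v => by
        obtain ⟨c, hc, h⟩ := S.exists_lift v
        exact ⟨⟨⟨c, hC hc⟩, hCc _ hc⟩, h⟩
      ker := fun c => S.ker (ι c)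
      moved := ⟨⟨g, hg⟩, hs.1, Subtype.ext hs.2.1, fun e => hs.2.2.1 (congrArg Subtype.val e),
        fun e => hs.2.2.2 (congrArg Subtype.val e)⟩
      two := ⟨z', ⟨t, hC ht.1⟩, ord S.zz S.z_ne, ord ht.2.1 ht1, fun h => hzt (MonoidHom.map_isConj K.subtype h)⟩ }
  exact Subgroup.eq_top_of_card_eq K (by rw [S'.order_eq, S.order_eq])

theorem index_C : (centralizer ({z} : Set G)).index = 315 := by
  have h := (centralizer ({z} : Set G)).index_mul_card
  rw [S.card_C, S.order_eq] at h
  omega

/-- Nothing but `1` centralises every conjugate of `z`. -/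
theorem core_eq_bot : (centralizer ({z} : Set G)).normalCore = ⊥ := by
  set N := (centralizer ({z} : Set G)).normalCore with hN
  have hn : N.Normal := Subgroup.normalCore_normal _
  have hle : N ≤ centralizer ({z} : Set G) := Subgroup.normalCore_le _
  have comm : ∀ x ∈ N, ∀ h : G, x * (h * z * h⁻¹) = h * z * h⁻¹ * x := fun x hx h => by
    have h1 := S.comm_z (hle (hn.conj_mem x hx h⁻¹))
    calc x * (h * z * h⁻¹) = h * (h⁻¹ * x * h⁻¹⁻¹ * z) * h⁻¹ := by group
      _ = h * z * h⁻¹ * x := by rw [h1]; group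
  have hzN : z ∉ N := fun hzN => by
    obtain ⟨g, hg⟩ := S.moved
    obtain ⟨f, hfC, hf5, hfQ⟩ := S.exists_five
    have hq : Sing z Q (f * (g * z * g⁻¹) * f⁻¹) := S.sing_conj_mem hfC hg
    have hne : ¬ Eqv z (f * (g * z * g⁻¹) * f⁻¹) (g * z * g⁻¹) := fun e =>
      (S.five_fix hfC hf5 hfQ hg.1 e).elim hg.2.2.1 hg.2.2.2
    have h1 := S.sing_anticomm hg hq hne
    have h2 := comm _ (hn.conj_mem z hzN g) (f * g)
    rw [show f * g * z * (f * g)⁻¹ = f * (g * z * g⁻¹) * f⁻¹ by group, h1, mul_eq_right] at h2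
    exact S.z_ne h2
  have hQN : ∀ x ∈ N, x ∈ Q → x = 1 := fun x hx hxQ => by
    by_contra h1
    have hcen : ¬ ∀ y ∈ Q, y * x = x * y := fun h =>
      (S.cen x hxQ h).elim h1 fun e => hzN (e ▸ hx)
    push Not at hcen
    obtain ⟨y, hy, hyx⟩ := hcen
    refine hzN ?_
    have h := (S.com x hxQ y hy).resolve_left hyx
    have : z = y * x * y⁻¹ * x⁻¹ := by rw [h]; group
    rw [this]
    exact mul_mem (hn.conj_mem x hx y) (inv_mem hx)
  refine eq_bot_iff.2 fun x hx => Subgroup.mem_bot.2 (hQN x hx (S.self x (hle hx) fun y hy => ?_))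
  have h1 : x * y * x⁻¹ * y⁻¹ = 1 := by
    refine hQN _ ?_ (mul_mem (S.norm x (hle hx) y hy) (inv_mem hy))
    rw [show x * y * x⁻¹ * y⁻¹ = x * (y * x⁻¹ * y⁻¹) by group]
    exact mul_mem hx (hn.conj_mem _ (inv_mem hx) y)
  exact (mul_inv_eq_iff_eq_mul.1 (mul_inv_eq_one.1 h1)).symm

/-- The group is the permutation group of the table. -/
theorem exists_model (hR : TableData.cert.R.valid = true) :
    ∃ ρ : G →* Equiv.Perm (Fin TableData.cert.R.N), Function.Injective ρ ∧
      ρ.range = Subgroup.closure ((TableData.cert.R.perm hR) '' Set.Iio 8) := by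
  classical
  obtain ⟨u, t, c, n, a, R, hu, -, hgen⟩ := S.exists_rels
  set C := centralizer ({z} : Set G) with hC
  set ev := letters z u t c n a with hev
  have hok := TableData.cert_ok
  have hone : ev TableData.cert.R.A.eps = 1 := rfl
  have hrels := letters_rels R
  have hinv := letters_inv u t c n a R
  have memC : ∀ x ∈ ({z, u, t, c, n} : Set G), x ∈ C := fun x hx => by
    rw [← hgen]; exact subset_closure hx
  have hsubs : ∀ w ∈ TableData.cert.subs, evW ev w ∈ C := by
    intro w hw
    change w ∈ TableData.subWords at hw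
    simp only [TableData.subWords, List.mem_cons, List.mem_nil_iff, or_false] at hw
    rcases hw with rfl | rfl | rfl | rfl | rfl <;>
      simp only [evW_cons, evW_nil, mul_one, hev, letters, List.getD_cons_zero, List.getD_cons_succ] <;>
      exact memC _ (by simp)
  set K := Subgroup.closure (ev '' Set.Iio TableData.cert.R.A.eps) with hK
  have hCK : C ≤ K := by
    rw [← hgen, closure_le]
    intro x hx
    simp only [Set.mem_insert_iff, Set.mem_singleton_iff] at hx
    rcases hx with rfl | rfl | rfl | rfl | rfl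
    exacts [subset_closure ⟨0, (by decide : 0 < 8), rfl⟩, subset_closure ⟨1, (by decide : 1 < 8), rfl⟩,
      subset_closure ⟨2, (by decide : 2 < 8), rfl⟩, subset_closure ⟨3, (by decide : 3 < 8), rfl⟩,
      subset_closure ⟨4, (by decide : 4 < 8), rfl⟩]
  have htop : K = ⊤ := S.eq_top_of_moved hCK (g := a) (subset_closure ⟨6, (by decide : 6 < 8), rfl⟩)
    (by rw [R.az]; exact hu)
  have hv : TableData.cert.valid = true := by
    have := hok; simp only [VCert.ok, Bool.and_eq_true] at this; exact this.1
  have hI := VCert.interp_coset hone hinv hrels hsubs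
  let f : Fin TableData.cert.R.N → G ⧸ C := fun i => TableData.cert.pt ev ((1 : G) : G ⧸ C) i
  have hsurj : Function.Surjective f := by
    intro q
    induction q using QuotientGroup.induction_on with
    | _ g =>
      obtain ⟨j, hj, -⟩ := VCert.orbit_cover hok hI g (by rw [← hK, htop]; exact mem_top g)
        ⟨0, VCert.pos hok⟩
      refine ⟨j, ?_⟩
      show TableData.cert.pt ev _ (j : ℕ) = _
      rw [← hj, VCert.pt_zero hv, MulAction.Quotient.smul_coe, smul_eq_mul, mul_one]
  have hbij : Function.Bijective f := (Nat.bijective_iff_surjective_and_card f).2 ⟨hsurj, by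
    rw [Nat.card_fin, ← Subgroup.index, hC, S.index_C]; rfl⟩
  let e := (Equiv.ofBijective f hbij).symm
  let ρ : G →* Equiv.Perm (Fin TableData.cert.R.N) :=
    e.permCongrHom.toMonoidHom.comp (MulAction.toPermHom G (G ⧸ C))
  have hρ : ∀ x, x < TableData.cert.R.A.eps → ρ (ev x) = TableData.cert.R.perm hR x := by
    intro x hx
    ext1 i
    show e (ev x • f i) = _
    rw [Equiv.symm_apply_eq]
    exact VCert.pt_smul hok hI hx i.2
  refine ⟨ρ, ?_, ?_⟩
  · rw [← MonoidHom.ker_eq_bot_iff, ← S.core_eq_bot, Subgroup.normalCore_eq_ker]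
    ext x
    simp only [ρ, MonoidHom.mem_ker, MonoidHom.comp_apply, MulEquiv.coe_toMonoidHom,
      EmbeddingLike.map_eq_one_iff]
    rfl
  · have him : ρ '' (ev '' Set.Iio TableData.cert.R.A.eps) = TableData.cert.R.perm hR '' Set.Iio 8 := by
      rw [Set.image_image]
      exact Set.image_congr fun x hx => hρ x hx
    calc ρ.range = Subgroup.map ρ K := (MonoidHom.range_eq_map ρ).trans (congrArg (Subgroup.map ρ) htop.symm)
      _ = Subgroup.closure (ρ '' (ev '' Set.Iio TableData.cert.R.A.eps)) := MonoidHom.map_closure ρ _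
      _ = _ := congrArg Subgroup.closure him

/-- Two groups of this type are isomorphic. -/
theorem iso {G' : Type*} [Group G'] [Finite G'] {z' : G'} {Q' : Subgroup G'} (S' : Setting z' Q') :
    Nonempty (G ≃* G') := by
  have hR : TableData.cert.R.valid = true := VCert.rvalid (by
    have := TableData.cert_ok; simp only [VCert.ok, Bool.and_eq_true] at this; exact this.1)
  obtain ⟨ρ, hρ, hr⟩ := S.exists_model hR
  obtain ⟨ρ', hρ', hr'⟩ := S'.exists_model hR
  exact ⟨(MonoidHom.ofInjective hρ).trans ((MulEquiv.subgroupCongr (hr.trans hr'.symm)).trans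
    (MonoidHom.ofInjective hρ').symm)⟩

end Setting

end CfsgLib.HJType
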